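import Mathlib

/-!
Sylow `r`-subgroups of `GL_n(q)` for primes `r > n` not dividing `q`: the `r`-part of the order
and an explicit torus.
-/
set_option autoImplicit false

namespace Cfsg.Agent.Lib.Helper25.GLSylow


section Arith

variable (r : ℕ) [hr : Fact r.Prime]

theorem dvd_pow_sub_one_iff (q : ℕ) (hq : 1 ≤ q) (j : ℕ) :
    r ∣ q ^ j - 1 ↔ orderOf (q : ZMod r) ∣ j := by
  have h1 : 1 ≤ q ^ j := Nat.one_le_pow _ _ hq
  rw [orderOf_dvd_iff_pow_eq_one, ← ZMod.natCast_eq_zero_iff, Nat.cast_sub h1, Nat.cast_pow,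
    Nat.cast_one, sub_eq_zero]

theorem geom_id (y t : ℕ) : y * ∑ s ∈ Finset.range t, (y + 1) ^ s + 1 = (y + 1) ^ t := by
  induction t with
  | zero => simp
  | succ t ih =>
    rw [Finset.sum_range_succ, mul_add, add_right_comm, ih, pow_succ]
    ring

theorem val_pow_mul (q : ℕ) (hq : 2 ≤ q) (d t : ℕ) (hd0 : 0 < d) (hd : r ∣ q ^ d - 1) (ht0 : 0 < t)
    (htr : t < r) : padicValNat r (q ^ (d * t) - 1) = padicValNat r (q ^ d - 1) := by
  have hx : 2 ≤ q ^ d := by
    calc 2 ≤ q := hq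
      _ = q ^ 1 := (pow_one q).symm
      _ ≤ q ^ d := Nat.pow_le_pow_right (by omega) hd0
  obtain ⟨y, hy⟩ : ∃ y, q ^ d = y + 1 := ⟨q ^ d - 1, by omega⟩
  have hy0 : y ≠ 0 := by omega
  have hgeom := geom_id y t
  have e1 : q ^ (d * t) - 1 = y * ∑ s ∈ Finset.range t, (y + 1) ^ s := by
    rw [pow_mul, hy, ← hgeom]
    omega
  have e2 : q ^ d - 1 = y := by omega
  rw [e2] at hd
  have hsum : ¬ r ∣ ∑ s ∈ Finset.range t, (y + 1) ^ s := by
    rw [← ZMod.natCast_eq_zero_iff]
    have hy' : ((y : ℕ) : ZMod r) = 0 := (ZMod.natCast_eq_zero_iff y r).mpr hd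
    push_cast
    rw [hy']
    simp only [zero_add, one_pow, Finset.sum_const, Finset.card_range, nsmul_eq_mul, mul_one]
    rw [ZMod.natCast_eq_zero_iff]
    intro hdv
    exact absurd (Nat.le_of_dvd ht0 hdv) (by omega)
  have hsum0 : (∑ s ∈ Finset.range t, (y + 1) ^ s) ≠ 0 := by
    intro h0
    rw [h0] at hsum
    exact hsum (dvd_zero r)
  rw [e1, e2, padicValNat.mul hy0 hsum0, padicValNat.eq_zero_of_not_dvd hsum, add_zero]

theorem sum_val (w : ℕ → ℕ) (d n : ℕ) (hd0 : 0 < d) (h0 : ∀ j, ¬ d ∣ j → w j = 0)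
    (h1 : ∀ t, 0 < t → d * t ≤ n → w (d * t) = w d) :
    ∑ j ∈ Finset.Ioc 0 n, w j = (n / d) * w d := by
  rw [← Nat.Ioc_filter_dvd_card_eq_div n d, ← smul_eq_mul, ← Finset.sum_const]
  rw [Finset.sum_filter]
  apply Finset.sum_congr rfl
  intro j hj
  rw [Finset.mem_Ioc] at hj
  split_ifs with hdj
  · obtain ⟨t, rfl⟩ := hdj
    have ht : 0 < t := by
      rcases Nat.eq_zero_or_pos t with h | h
      · rw [h, mul_zero] at hj; omega
      · exact h
    exact h1 t ht hj.2
  · exact h0 j hdj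

theorem sum_val' (w : ℕ → ℕ) (d n : ℕ) (h0 : ∀ j, ¬ d ∣ j → w j = 0)
    (h1 : ∀ t, 0 < t → d * t ≤ n → w (d * t) = w d) :
    ∑ e ∈ Finset.range n, w (e + 1) = (n / d) * w d := by
  rw [← Nat.card_multiples n d, ← smul_eq_mul, ← Finset.sum_const]
  rw [Finset.sum_filter]
  apply Finset.sum_congr rfl
  intro e he
  rw [Finset.mem_range] at he
  split_ifs with hdj
  · obtain ⟨t, ht⟩ := hdj
    have ht0 : 0 < t := by
      rcases Nat.eq_zero_or_pos t with h | h
      · rw [h, mul_zero] at ht; omega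
      · exact h
    rw [ht]
    exact h1 t ht0 (by omega)
  · exact h0 _ hdj

theorem val_card_GL {F : Type*} [Field F] [Fintype F] (n : ℕ) (hrq : ¬ r ∣ Fintype.card F)
    (hrn : n < r) :
    (Nat.card (GL (Fin n) F)).factorization r =
      (n / orderOf ((Fintype.card F : ℕ) : ZMod r)) *
        padicValNat r (Fintype.card F ^ orderOf ((Fintype.card F : ℕ) : ZMod r) - 1) := by
  set q := Fintype.card F with hqdef
  have hq2 : 2 ≤ q := Fintype.one_lt_card
  set d := orderOf ((q : ℕ) : ZMod r) with hddef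
  have hunit : IsUnit ((q : ℕ) : ZMod r) := by
    rw [ZMod.isUnit_iff_coprime]
    exact ((Nat.Prime.coprime_iff_not_dvd hr.out).mpr hrq).symm
  have hd0 : 0 < d := by
    rw [hddef, orderOf_pos_iff]
    exact hunit.isOfFinOrder
  let w : ℕ → ℕ := fun j => padicValNat r (q ^ j - 1)
  have hw0 : ∀ j, ¬ d ∣ j → w j = 0 := by
    intro j hj
    apply padicValNat.eq_zero_of_not_dvd
    rw [dvd_pow_sub_one_iff r q (by omega) j]
    exact hj
  have hdd : r ∣ q ^ d - 1 := (dvd_pow_sub_one_iff r q (by omega) d).mpr dvd_rfl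
  have hw1 : ∀ t, 0 < t → d * t ≤ n → w (d * t) = w d := by
    intro t ht htn
    have htr : t < r := by
      have : t ≤ d * t := Nat.le_mul_of_pos_left t hd0
      omega
    exact val_pow_mul r q hq2 d t hd0 hdd ht htr
  have hsum := sum_val' w d n hw0 hw1
  rw [Matrix.card_GL_field, Nat.factorization_prod, Finsupp.finsetSum_apply]
  · rw [← hsum]
    have hterm : ∀ i : Fin n, (q ^ n - q ^ (i : ℕ)).factorization r = w (n - i) := by
      intro i
      have hi : (i : ℕ) < n := i.2
      have e1 : q ^ n - q ^ (i : ℕ) = q ^ (i : ℕ) * (q ^ (n - i) - 1) := by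
        rw [Nat.mul_sub, mul_one, ← pow_add]
        congr 2
        omega
      have hqi : q ^ (i : ℕ) ≠ 0 := by positivity
      have hne : q ^ (n - (i : ℕ)) - 1 ≠ 0 := by
        have : 2 ≤ q ^ (n - (i : ℕ)) := by
          calc 2 ≤ q := hq2
            _ = q ^ 1 := (pow_one q).symm
            _ ≤ q ^ (n - (i : ℕ)) := Nat.pow_le_pow_right (by omega) (by omega)
        omega
      rw [Nat.factorization_def _ hr.out, e1, padicValNat.mul hqi hne]
      have : padicValNat r (q ^ (i : ℕ)) = 0 := by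
        apply padicValNat.eq_zero_of_not_dvd
        intro h
        exact hrq (hr.out.dvd_of_dvd_pow h)
      rw [this, zero_add]
    rw [Finset.sum_congr rfl (fun i _ => hterm i)]
    rw [Fin.sum_univ_eq_sum_range (fun i => w (n - i)) n]
    have h2 : ∀ j ∈ Finset.range n, w (n - j) = (fun e => w (e + 1)) (n - 1 - j) := by
      intro j hj
      rw [Finset.mem_range] at hj
      show w (n - j) = w (n - 1 - j + 1)
      congr 1
      omega
    rw [Finset.sum_congr rfl h2]
    exact Finset.sum_range_reflect (fun e => w (e + 1)) n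
  · intro i _
    have hi : (i : ℕ) < n := i.2
    have : q ^ (i : ℕ) < q ^ n := Nat.pow_lt_pow_right (by omega) hi
    show q ^ n - q ^ (i : ℕ) ≠ 0
    omega

end Arith



theorem val_cyclotomic (r : ℕ) [hr : Fact r.Prime] (q : ℕ) (hq : 2 ≤ q) (d : ℕ) (hd0 : 0 < d)
    (hd : d = orderOf (q : ZMod r)) :
    padicValNat r ((Polynomial.cyclotomic d ℤ).eval (q : ℤ)).natAbs =
      padicValNat r (q ^ d - 1) := by
  have hx : 2 ≤ q ^ d := by
    calc 2 ≤ q := hq
      _ = q ^ 1 := (pow_one q).symm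
      _ ≤ q ^ d := Nat.pow_le_pow_right (by omega) hd0
  have hprod := Polynomial.prod_cyclotomic_eq_X_pow_sub_one hd0 ℤ
  have hev := congrArg (Polynomial.eval (q : ℤ)) hprod
  rw [Polynomial.eval_prod, ← Nat.insert_self_properDivisors hd0.ne',
    Finset.prod_insert Nat.self_notMem_properDivisors] at hev
  simp only [Polynomial.eval_sub, Polynomial.eval_pow, Polynomial.eval_X, Polynomial.eval_one] at hev
  set B := ∏ e ∈ d.properDivisors, Polynomial.eval (q : ℤ) (Polynomial.cyclotomic e ℤ) with hB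
  have hnat : ((q ^ d - 1 : ℕ) : ℤ) = (q : ℤ) ^ d - 1 := by
    rw [Nat.cast_sub (by omega), Nat.cast_pow, Nat.cast_one]
  have hBr : ¬ r ∣ B.natAbs := by
    intro hdv
    have h1 : (r : ℤ) ∣ B := Int.natCast_dvd.mpr hdv
    have hrp : Prime (r : ℤ) := Nat.prime_iff_prime_int.mp hr.out
    rw [hB, hrp.dvd_finsetProd_iff] at h1
    obtain ⟨e, he, hre⟩ := h1
    rw [Nat.mem_properDivisors] at he
    have h2 : Polynomial.eval (q : ℤ) (Polynomial.cyclotomic e ℤ) ∣ (q : ℤ) ^ e - 1 := by
      have := Polynomial.cyclotomic.dvd_X_pow_sub_one e ℤ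
      have h3 := Polynomial.eval_dvd (x := (q : ℤ)) this
      simpa using h3
    have h4 : (r : ℤ) ∣ ((q ^ e - 1 : ℕ) : ℤ) := by
      rw [Nat.cast_sub (Nat.one_le_pow _ _ (by omega)), Nat.cast_pow, Nat.cast_one]
      exact hre.trans h2
    have h5 : r ∣ q ^ e - 1 := Int.natCast_dvd_natCast.mp h4
    rw [dvd_pow_sub_one_iff r q (by omega) e, ← hd] at h5
    have he0 : 0 < e := Nat.pos_of_dvd_of_pos he.1 hd0
    exact absurd (Nat.le_of_dvd he0 h5) (by omega)
  have hB0 : B.natAbs ≠ 0 := by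
    intro h0
    rw [h0] at hBr
    exact hBr (dvd_zero r)
  have hA0 : (Polynomial.eval (q : ℤ) (Polynomial.cyclotomic d ℤ)).natAbs ≠ 0 := by
    intro h0
    rw [Int.natAbs_eq_zero] at h0
    rw [h0, zero_mul] at hev
    have : ((q ^ d - 1 : ℕ) : ℤ) = 0 := by rw [hnat, ← hev]
    have : q ^ d - 1 = 0 := by exact_mod_cast this
    omega
  have hfin : q ^ d - 1 =
      (Polynomial.eval (q : ℤ) (Polynomial.cyclotomic d ℤ)).natAbs * B.natAbs := by
    rw [← Int.natAbs_mul, hev, ← hnat, Int.natAbs_natCast]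
  rw [hfin, padicValNat.mul hA0 hB0, padicValNat.eq_zero_of_not_dvd hBr, add_zero]



section Torus

variable {F : Type*} [Field F] {E : Type*} [Field E] [Algebra F E] {W : Type*} [AddCommGroup W]
  [Module F W]

/-- the torus action -/
def torusAct (a : ℕ) (c : Fin a → Eˣ) : ((Fin a → E) × W) ≃ₗ[F] ((Fin a → E) × W) where
  toFun x := (fun i => (c i : E) * x.1 i, x.2)
  invFun x := (fun i => ((c i)⁻¹ : Eˣ) * x.1 i, x.2)
  map_add' x y := by
    refine Prod.ext (funext fun i => ?_) rfl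
    simp [mul_add]
  map_smul' k x := by
    refine Prod.ext (funext fun i => ?_) rfl
    simp [mul_smul_comm]
  left_inv x := by
    refine Prod.ext (funext fun i => ?_) rfl
    simp
  right_inv x := by
    refine Prod.ext (funext fun i => ?_) rfl
    simp

theorem torusAct_apply (a : ℕ) (c : Fin a → Eˣ) (x : (Fin a → E) × W) :
    torusAct (F := F) a c x = (fun i => (c i : E) * x.1 i, x.2) := rfl

variable (F W) in
/-- the torus embedding -/
def torusHom (a : ℕ) : (Fin a → Eˣ) →* (((Fin a → E) × W) ≃ₗ[F] ((Fin a → E) × W)) where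
  toFun := torusAct a
  map_one' := by
    apply LinearEquiv.ext
    intro x
    refine Prod.ext (funext fun i => ?_) rfl
    simp [torusAct]
  map_mul' c c' := by
    apply LinearEquiv.ext
    intro x
    refine Prod.ext (funext fun i => ?_) rfl
    simp [torusAct, mul_assoc]

theorem torusHom_injective (a : ℕ) : Function.Injective (torusHom F W (E := E) a) := by
  intro c c' h
  funext i
  have h1 := congrArg (fun f => (f ((fun _ => (1 : E)), (0 : W))).1 i) h
  have h2 : (torusAct (F := F) a c ((fun _ => (1 : E)), (0 : W))).1 i =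
      (torusAct (F := F) a c' ((fun _ => (1 : E)), (0 : W))).1 i := h1
  rw [torusAct_apply, torusAct_apply] at h2
  apply Units.ext
  simpa using h2

end Torus


end Cfsg.Agent.Lib.Helper25.GLSylow
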