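import Mathlib
import Cfsg.Agent.Lib.Helper25.GLSylow

/-!
The explicit torus in `GL_n(q)` as an injective homomorphism from a product of cyclic groups, and
the embedding lemma for Sylow subgroups.
-/
set_option autoImplicit false

namespace Cfsg.Agent.Lib.Helper25.GLSylow

theorem sylow_iso_of_embedding {X A : Type*} [Group X] [Finite X] [Group A] (r : ℕ) [Fact r.Prime]
    (f : A →* X) (hf : Function.Injective f)
    (hcard : Nat.card A = r ^ (Nat.card X).factorization r)
    (P : Sylow r X) : Nonempty (↥(P : Subgroup X) ≃* A) := by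
  have hT : Nat.card f.range = r ^ (Nat.card X).factorization r := by
    rw [← hcard]
    exact (Nat.card_congr (MonoidHom.ofInjective hf).toEquiv).symm
  let Q : Sylow r X := Sylow.ofCard f.range hT
  exact ⟨(Sylow.equiv P Q).trans (MonoidHom.ofInjective hf).symm⟩

theorem exists_torus {F : Type*} [Field F] [Fintype F] (n r : ℕ) [hr : Fact r.Prime]
    (hrq : ¬ r ∣ Fintype.card F) (d v : ℕ) (hd : d = orderOf ((Fintype.card F : ℕ) : ZMod r))
    (hv : v = padicValNat r (Fintype.card F ^ d - 1)) :
    ∃ f : (Fin (n / d) → Multiplicative (ZMod (r ^ v))) →* GL (Fin n) F, Function.Injective f := by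
  classical
  have hunit : IsUnit ((Fintype.card F : ℕ) : ZMod r) := by
    rw [ZMod.isUnit_iff_coprime]
    exact ((Nat.Prime.coprime_iff_not_dvd hr.out).mpr hrq).symm
  have hd0 : 0 < d := by
    rw [hd, orderOf_pos_iff]
    exact hunit.isOfFinOrder
  obtain ⟨p, hpc⟩ := CharP.exists F
  haveI := hpc
  haveI : Fact p.Prime := ⟨CharP.char_is_prime F p⟩
  haveI : NeZero d := ⟨hd0.ne'⟩
  let U : Sylow r (FiniteField.Extension F p d)ˣ := default
  have hEcard : Nat.card (FiniteField.Extension F p d)ˣ = Fintype.card F ^ d - 1 := by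
    rw [Nat.card_units, FiniteField.natCard_extension, Nat.card_eq_fintype_card]
  have hUcard : Nat.card U = r ^ v := by
    rw [Sylow.card_eq_multiplicity, hEcard, hv, Nat.factorization_def _ hr.out]
  have had : n / d * d ≤ n := Nat.div_mul_le_self n d
  have hfr : Module.finrank F ((Fin (n / d) → FiniteField.Extension F p d) ×
      (Fin (n - n / d * d) → F)) = Module.finrank F (Fin n → F) := by
    rw [Module.finrank_prod, Module.finrank_pi_fintype, Module.finrank_fin_fun,
      Module.finrank_fin_fun]
    simp only [FiniteField.finrank_extension, Finset.sum_const, Finset.card_univ, Fintype.card_fin,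
      smul_eq_mul]
    omega
  let e := LinearEquiv.ofFinrankEq _ _ hfr
  let Θ : (((Fin (n / d) → FiniteField.Extension F p d) × (Fin (n - n / d * d) → F)) ≃ₗ[F]
      ((Fin (n / d) → FiniteField.Extension F p d) × (Fin (n - n / d * d) → F))) ≃* GL (Fin n) F :=
    ((LinearMap.GeneralLinearGroup.generalLinearEquiv F _).symm.trans
      (LinearMap.GeneralLinearGroup.congrLinearEquiv e)).trans Matrix.GeneralLinearGroup.toLin.symm
  let ι : (Fin (n / d) → ↥(U : Subgroup (FiniteField.Extension F p d)ˣ)) →*
      (Fin (n / d) → (FiniteField.Extension F p d)ˣ) :=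
    { toFun := fun c i => (c i).1
      map_one' := rfl
      map_mul' := fun _ _ => rfl }
  have hι : Function.Injective ι := by
    intro c c' h
    funext i
    exact Subtype.ext (congrFun h i)
  have hcyc : IsCyclic ↥(U : Subgroup (FiniteField.Extension F p d)ˣ) := inferInstance
  have eU : Multiplicative (ZMod (r ^ v)) ≃* ↥(U : Subgroup (FiniteField.Extension F p d)ˣ) :=
    hUcard ▸ zmodCyclicMulEquiv hcyc
  refine ⟨(Θ.toMonoidHom.comp ((torusHom F (Fin (n - n / d * d) → F) (n / d)).comp ι)).comp
    (MulEquiv.piCongrRight (fun _ : Fin (n / d) => eU)).toMonoidHom, ?_⟩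
  exact (Θ.injective.comp ((torusHom_injective (n / d)).comp hι)).comp
    (MulEquiv.piCongrRight (fun _ : Fin (n / d) => eU)).injective

end Cfsg.Agent.Lib.Helper25.GLSylow
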