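import Mathlib

/-!
An automorphism of order prime to `p` of a finite `p`-group that fixes every element of order `p`
(and of order `4` when `p = 2`) is trivial.  Stated for invariant `p`-subgroups of an ambient group.
-/
set_option autoImplicit false

namespace Cfsg.Agent.Lib.Helper25

variable {M : Type*} [Group M]

/-- if `β y = y n`, `β n = n`, `β ^ m = 1` with `m` prime to `p` and `n` a `p`-element then `n = 1` -/
theorem eq_one_of_fixed_comm {p : ℕ} [Fact p.Prime] (β : MulAut M) {m : ℕ} (hm : β ^ m = 1)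
    (hcop : m.Coprime p) {y n : M} (hy : β y = y * n) (hn : β n = n) {k : ℕ} (hnk : n ^ (p ^ k) = 1) :
    n = 1 := by
  have h1 : ∀ j : ℕ, (β ^ j) y = y * n ^ j := by
    intro j
    induction j with
    | zero => simp
    | succ j ih =>
      rw [pow_succ', MulAut.mul_apply, ih, map_mul, map_pow, hy, hn, mul_assoc, ← pow_succ']
  have h2 := h1 m
  rw [hm, MulAut.one_apply] at h2
  have h3 : n ^ m = 1 := by
    have h4 : y * 1 = y * n ^ m := by rw [mul_one]; exact h2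
    exact (mul_left_cancel h4).symm
  have h4 : orderOf n ∣ m := orderOf_dvd_of_pow_eq_one h3
  have h5 : orderOf n ∣ p ^ k := orderOf_dvd_of_pow_eq_one hnk
  have h6 : orderOf n ∣ Nat.gcd m (p ^ k) := Nat.dvd_gcd h4 h5
  rw [Nat.Coprime.gcd_eq_one (Nat.Coprime.pow_right k hcop)] at h6
  exact orderOf_eq_one_iff.1 (Nat.dvd_one.1 h6)

/-- powers of a product when the commutator is central -/
theorem mul_pow_of_central {a b z : M} (hz : b * a = a * b * z) (hza : Commute z a) (hzb : Commute z b)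
    (n : ℕ) : (a * b) ^ n = a ^ n * b ^ n * z ^ (n.choose 2) := by
  have hb : ∀ k : ℕ, b ^ k * a = a * b ^ k * z ^ k := by
    intro k
    induction k with
    | zero => simp
    | succ k ih =>
      calc b ^ (k + 1) * a = b * (b ^ k * a) := by rw [pow_succ', mul_assoc]
        _ = b * (a * b ^ k * z ^ k) := by rw [ih]
        _ = (b * a) * b ^ k * z ^ k := by simp only [mul_assoc]
        _ = a * b * z * b ^ k * z ^ k := by rw [hz]
        _ = a * b * (z * b ^ k) * z ^ k := by simp only [mul_assoc]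
        _ = a * b * (b ^ k * z) * z ^ k := by rw [(hzb.pow_right k).eq]
        _ = a * (b * b ^ k) * (z * z ^ k) := by simp only [mul_assoc]
        _ = a * b ^ (k + 1) * z ^ (k + 1) := by rw [← pow_succ', ← pow_succ']
  induction n with
  | zero => simp
  | succ n ih =>
    have hc : (n + 1).choose 2 = n + n.choose 2 := by
      rw [Nat.choose_succ_succ, Nat.choose_one_right]
    have hzc : Commute (z ^ n.choose 2) a := hza.pow_left _
    have hzcb : Commute (z ^ n.choose 2) b := hzb.pow_left _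
    calc (a * b) ^ (n + 1) = (a * b) ^ n * (a * b) := pow_succ _ _
      _ = a ^ n * b ^ n * z ^ (n.choose 2) * (a * b) := by rw [ih]
      _ = a ^ n * b ^ n * (z ^ (n.choose 2) * a) * b := by simp only [mul_assoc]
      _ = a ^ n * b ^ n * (a * z ^ (n.choose 2)) * b := by rw [hzc.eq]
      _ = a ^ n * (b ^ n * a) * (z ^ (n.choose 2) * b) := by simp only [mul_assoc]
      _ = a ^ n * (a * b ^ n * z ^ n) * (b * z ^ (n.choose 2)) := by rw [hb n, hzcb.eq]
      _ = a ^ n * a * b ^ n * (z ^ n * b) * z ^ (n.choose 2) := by simp only [mul_assoc]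
      _ = a ^ n * a * b ^ n * (b * z ^ n) * z ^ (n.choose 2) := by rw [(hzb.pow_left n).eq]
      _ = (a ^ n * a) * (b ^ n * b) * (z ^ n * z ^ (n.choose 2)) := by simp only [mul_assoc]
      _ = a ^ (n + 1) * b ^ (n + 1) * z ^ ((n + 1).choose 2) := by
        rw [← pow_succ, ← pow_succ, ← pow_add, hc]

/-- a nontrivial finite `p`-subgroup has a proper subgroup containing its commutators and `p`-th powers -/
theorem exists_proper_frattini_like {p : ℕ} [Fact p.Prime] (Y : Subgroup M) [Finite Y]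
    (hY : IsPGroup p Y) (hne : Y ≠ ⊥) :
    ∃ K : Subgroup M, K ≤ Y ∧ Nat.card K < Nat.card Y ∧
      (∀ a ∈ Y, ∀ b ∈ Y, a * b * a⁻¹ * b⁻¹ ∈ K) ∧ ∀ a ∈ Y, a ^ p ∈ K := by
  have hp : p.Prime := Fact.out
  obtain ⟨k, hk⟩ := hY.exists_card_eq
  have hk0 : k ≠ 0 := by
    rintro rfl
    rw [pow_zero] at hk
    exact hne (Subgroup.eq_bot_of_card_eq Y hk)
  obtain ⟨k', rfl⟩ := Nat.exists_eq_succ_of_ne_zero hk0
  obtain ⟨K', hK'⟩ := Sylow.exists_subgroup_card_pow_prime p
    (show p ^ k' ∣ Nat.card Y by rw [hk]; exact pow_dvd_pow p (Nat.le_succ k'))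
  have hidx : K'.index = p := by
    have h1 := K'.index_mul_card
    rw [hK', hk, pow_succ] at h1
    have hpos : 0 < p ^ k' := pow_pos hp.pos k'
    exact Nat.eq_of_mul_eq_mul_right hpos (by rw [h1, mul_comm])
  have hnorm : K'.Normal := by
    apply Subgroup.normal_of_index_eq_minFac_card
    rw [hidx, hk, Nat.Prime.pow_minFac hp (Nat.succ_ne_zero k')]
  have hcardQ : Nat.card (Y ⧸ K') = p := by
    rw [← Subgroup.index_eq_card]
    exact hidx
  haveI : IsCyclic (Y ⧸ K') := isCyclic_of_prime_card hcardQ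
  have hc : ∀ x y : Y ⧸ K', x * y = y * x := fun x y =>
    (IsCyclic.commGroup (α := Y ⧸ K')).mul_comm x y
  refine ⟨K'.map Y.subtype, Subgroup.map_subtype_le K', ?_, ?_, ?_⟩
  · rw [Subgroup.card_map_of_injective Y.subtype_injective, hK', hk]
    exact Nat.pow_lt_pow_right hp.one_lt (Nat.lt_succ_self k')
  · intro a ha b hb
    refine ⟨⟨a, ha⟩ * ⟨b, hb⟩ * ⟨a, ha⟩⁻¹ * ⟨b, hb⟩⁻¹, ?_, rfl⟩
    rw [SetLike.mem_coe, ← QuotientGroup.eq_one_iff]
    have h1 : ((⟨a, ha⟩ * ⟨b, hb⟩ * ⟨a, ha⟩⁻¹ * ⟨b, hb⟩⁻¹ : Y) : Y ⧸ K') =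
        (QuotientGroup.mk ⟨a, ha⟩ : Y ⧸ K') * QuotientGroup.mk ⟨b, hb⟩ *
          (QuotientGroup.mk ⟨a, ha⟩)⁻¹ * (QuotientGroup.mk ⟨b, hb⟩)⁻¹ := rfl
    rw [h1, hc (QuotientGroup.mk ⟨a, ha⟩) (QuotientGroup.mk ⟨b, hb⟩)]
    group
  · intro a ha
    refine ⟨⟨a, ha⟩ ^ p, ?_, rfl⟩
    rw [SetLike.mem_coe, ← QuotientGroup.eq_one_iff]
    have h1 : ((⟨a, ha⟩ ^ p : Y) : Y ⧸ K') = (QuotientGroup.mk ⟨a, ha⟩ : Y ⧸ K') ^ p := rfl
    rw [h1, ← hcardQ]
    exact pow_card_eq_one'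

/-- generators of the Frattini-like subgroup -/
def frGens (p : ℕ) (Y : Subgroup M) : Set M :=
  {z | (∃ a ∈ Y, ∃ b ∈ Y, z = a * b * a⁻¹ * b⁻¹) ∨ ∃ a ∈ Y, z = a ^ p}

/-- **Key lemma**: an automorphism of order prime to `p` that fixes all elements of order `p` (and `4` if `p = 2`)
of an invariant finite `p`-subgroup fixes that subgroup pointwise. -/
theorem fix_of_fix_small {p : ℕ} [Fact p.Prime] (β : MulAut M) {m : ℕ} (hm : β ^ m = 1)
    (hcop : m.Coprime p) :
    ∀ (c : ℕ) (Y : Subgroup M), Nat.card Y = c → Finite Y → IsPGroup p Y → (∀ y ∈ Y, β y ∈ Y) →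
      (∀ y ∈ Y, (y ^ p = 1 ∨ (p = 2 ∧ y ^ 4 = 1)) → β y = y) → ∀ y ∈ Y, β y = y := by
  have hp : p.Prime := Fact.out
  intro c
  induction c using Nat.strong_induction_on with
  | _ c ih =>
  intro Y hc hfin hY hinv hsmall
  by_cases hne : Y = ⊥
  · intro y hy
    rw [hne, Subgroup.mem_bot] at hy
    rw [hy, map_one]
  haveI := hfin
  obtain ⟨K, hKY, hKlt, hKcomm, hKpow⟩ := exists_proper_frattini_like Y hY hne
  obtain ⟨N, hNdef⟩ : ∃ N : Subgroup M, N = Subgroup.closure (frGens p Y) := ⟨_, rfl⟩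
  have hgensN : ∀ z ∈ frGens p Y, z ∈ N := fun z hz => hNdef ▸ Subgroup.subset_closure hz
  have hNK : N ≤ K := by
    rw [hNdef, Subgroup.closure_le]
    rintro z (⟨a, ha, b, hb, rfl⟩ | ⟨a, ha, rfl⟩)
    · exact hKcomm a ha b hb
    · exact hKpow a ha
  have hNY : N ≤ Y := hNK.trans hKY
  haveI : Finite K := Finite.of_injective (Subgroup.inclusion hKY) (Subgroup.inclusion_injective hKY)
  have hNcard : Nat.card N < Nat.card Y := lt_of_le_of_lt (Subgroup.card_le_of_le hNK) hKlt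
  have hNinv : ∀ z ∈ N, β z ∈ N := by
    intro z hz
    have h1 : N ≤ N.comap β.toMonoidHom := by
      conv_lhs => rw [hNdef]
      rw [Subgroup.closure_le]
      rintro z (⟨a, ha, b, hb, rfl⟩ | ⟨a, ha, rfl⟩)
      · apply hgensN
        left
        exact ⟨β a, hinv a ha, β b, hinv b hb, by simp⟩
      · apply hgensN
        right
        exact ⟨β a, hinv a ha, by simp⟩
    exact h1 hz
  haveI : Finite N := Finite.of_injective (Subgroup.inclusion hNY) (Subgroup.inclusion_injective hNY)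
  have hNfix : ∀ z ∈ N, β z = z :=
    ih (Nat.card N) (hc ▸ hNcard) N rfl inferInstance (hY.to_le hNY) hNinv
      (fun z hz hs => hsmall z (hNY hz) hs)
  have hcommD : ∀ y ∈ Y, ∀ z ∈ N, (y⁻¹ * β y) * z = z * (y⁻¹ * β y) := by
    intro y hy z hz
    have hzY := hNY hz
    have h1 : y * z * y⁻¹ ∈ N := by
      have h2 : y * z * y⁻¹ * z⁻¹ ∈ N := hgensN _ (Or.inl ⟨y, hy, z, hzY, rfl⟩)
      have h3 := N.mul_mem h2 hz
      rwa [inv_mul_cancel_right] at h3
    have h4 := hNfix _ h1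
    rw [map_mul, map_mul, map_inv, hNfix z hz] at h4
    calc y⁻¹ * β y * z = y⁻¹ * (β y * z * (β y)⁻¹) * β y := by group
      _ = y⁻¹ * (y * z * y⁻¹) * β y := by rw [h4]
      _ = z * (y⁻¹ * β y) := by group
  -- it suffices to show that each `y⁻¹ β(y)` is fixed
  suffices hfix : ∀ y ∈ Y, β (y⁻¹ * β y) = y⁻¹ * β y by
    intro y hy
    have hnY : y⁻¹ * β y ∈ Y := Y.mul_mem (Y.inv_mem hy) (hinv y hy)
    obtain ⟨k, hk⟩ := hY ⟨y⁻¹ * β y, hnY⟩
    have hk' : (y⁻¹ * β y) ^ (p ^ k) = 1 := congrArg Subtype.val hk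
    have h1 := eq_one_of_fixed_comm β hm hcop (y := y) (n := y⁻¹ * β y) (by group) (hfix y hy) hk'
    have h2 : y * (y⁻¹ * β y) = y * 1 := by rw [h1]
    rw [mul_inv_cancel_left, mul_one] at h2
    exact h2
  obtain ⟨Y₁, hY₁def⟩ : ∃ Y₁ : Subgroup M, Y₁ = Subgroup.closure {d | ∃ y ∈ Y, d = y⁻¹ * β y} := ⟨_, rfl⟩
  have hY₁Y : Y₁ ≤ Y := by
    rw [hY₁def, Subgroup.closure_le]
    rintro _ ⟨y, hy, rfl⟩
    exact Y.mul_mem (Y.inv_mem hy) (hinv y hy)
  have hDY₁ : ∀ y ∈ Y, y⁻¹ * β y ∈ Y₁ := fun y hy => hY₁def ▸ Subgroup.subset_closure ⟨y, hy, rfl⟩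
  by_cases hlt : Nat.card Y₁ < Nat.card Y
  · -- induction on `Y₁`
    have hY₁inv : ∀ z ∈ Y₁, β z ∈ Y₁ := by
      intro z hz
      have h1 : Y₁ ≤ Y₁.comap β.toMonoidHom := by
        conv_lhs => rw [hY₁def]
        rw [Subgroup.closure_le]
        rintro _ ⟨y, hy, rfl⟩
        have h2 := hDY₁ (β y) (hinv y hy)
        show β (y⁻¹ * β y) ∈ Y₁
        rw [map_mul, map_inv]
        exact h2
      exact h1 hz
    haveI : Finite Y₁ := Finite.of_injective (Subgroup.inclusion hY₁Y) (Subgroup.inclusion_injective hY₁Y)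
    have hY₁fix : ∀ z ∈ Y₁, β z = z :=
      ih (Nat.card Y₁) (hc ▸ hlt) Y₁ rfl inferInstance (hY.to_le hY₁Y) hY₁inv
        (fun z hz hs => hsmall z (hY₁Y hz) hs)
    intro y hy
    exact hY₁fix _ (hDY₁ y hy)
  · -- `Y₁ = Y`: then `N` is central in `Y`
    have hYeq : Y₁ = Y := Subgroup.eq_of_le_of_card_ge hY₁Y (not_lt.1 hlt)
    have hcent : ∀ z ∈ N, ∀ y ∈ Y, z * y = y * z := by
      intro z hz y hy
      have h1 : Y₁ ≤ Subgroup.centralizer {z} := by
        rw [hY₁def, Subgroup.closure_le]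
        rintro _ ⟨y', hy', rfl⟩
        rw [SetLike.mem_coe, Subgroup.mem_centralizer_iff]
        intro h hh
        rw [Set.mem_singleton_iff] at hh
        rw [hh]
        exact (hcommD y' hy' z hz).symm
      have h2 := h1 (hYeq ▸ hy)
      rw [Subgroup.mem_centralizer_iff] at h2
      exact h2 z rfl
    intro y hy
    have hnY : y⁻¹ * β y ∈ Y := Y.mul_mem (Y.inv_mem hy) (hinv y hy)
    obtain ⟨n, hndef⟩ : ∃ n : M, n = y⁻¹ * β y := ⟨_, rfl⟩
    rw [← hndef]
    rw [← hndef] at hnY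
    have hβy : β y = y * n := by rw [hndef]; group
    obtain ⟨zc, hzcdef⟩ : ∃ zc : M, zc = n⁻¹ * y⁻¹ * n * y := ⟨_, rfl⟩
    have hzcN : zc ∈ N := by
      apply hgensN
      left
      refine ⟨n⁻¹, Y.inv_mem hnY, y⁻¹, Y.inv_mem hy, ?_⟩
      rw [hzcdef, inv_inv, inv_inv]
    have hzc1 : n * y = y * n * zc := by rw [hzcdef]; group
    have hzcy : Commute zc y := hcent zc hzcN y hy
    have hzcn : Commute zc n := hcent zc hzcN n hnY
    have hnpN : n ^ p ∈ N := hgensN _ (Or.inr ⟨n, hnY, rfl⟩)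
    have hzcp : zc ^ p = 1 := by
      have h1 : y⁻¹ * n * y = n * zc := by rw [hzcdef]; group
      have h2 : (y⁻¹ * n * y) ^ p = n ^ p := by
        have h3 : y⁻¹ * n * y = y⁻¹ * n * (y⁻¹)⁻¹ := by rw [inv_inv]
        rw [h3, conj_pow, inv_inv]
        have h4 := hcent (n ^ p) hnpN y hy
        rw [mul_assoc, h4, inv_mul_cancel_left]
      rw [h1, (hzcn.symm).mul_pow] at h2
      exact mul_left_cancel (a := n ^ p) (by rw [h2, mul_one])
    -- the exponent `q`
    have key : ∀ q : ℕ, zc ^ (q.choose 2) = 1 → y ^ q ∈ N → n ^ q = 1 := by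
      intro q hq1 hq2
      have h1 := mul_pow_of_central hzc1 hzcy hzcn q
      rw [hq1, mul_one] at h1
      have h2 : β (y ^ q) = y ^ q := hNfix _ hq2
      rw [map_pow, hβy, h1] at h2
      exact mul_left_cancel (a := y ^ q) (by rw [h2, mul_one])
    rcases hp.eq_two_or_odd' with h2 | hodd
    · -- p = 2, q = 4
      have hzc2 : zc ^ 2 = 1 := by rw [← h2]; exact hzcp
      have h4 : n ^ 4 = 1 := by
        apply key 4
        · have : (4 : ℕ).choose 2 = 2 * 3 := by decide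
          rw [this, pow_mul, hzc2, one_pow]
        · have h5 : y ^ 4 = (y ^ 2) ^ p := by rw [h2, ← pow_mul]
          rw [h5]
          exact hgensN _ (Or.inr ⟨y ^ 2, Y.pow_mem hy 2, rfl⟩)
      exact hsmall n hnY (Or.inr ⟨h2, h4⟩)
    · -- p odd, q = p
      have hnp : n ^ p = 1 := by
        apply key p
        · obtain ⟨t, ht⟩ := hodd
          have hch : p.choose 2 = p * t := by
            rw [Nat.choose_two_right, ht]
            have : (2 * t + 1) * (2 * t + 1 - 1) = 2 * ((2 * t + 1) * t) := by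
              rw [Nat.add_sub_cancel]; ring
            rw [this, Nat.mul_div_cancel_left _ (by norm_num : 0 < 2)]
          rw [hch, pow_mul, hzcp, one_pow]
        · exact hgensN _ (Or.inr ⟨y, hy, rfl⟩)
      exact hsmall n hnY (Or.inl hnp)

/-- a `p`-element normalizing a subgroup of order `p` centralizes it -/
theorem conj_eq_of_pow_p {p : ℕ} [Fact p.Prime] {s x : M} {a : ℕ} (hs : s ^ (p ^ a) = 1) (hx : x ^ p = 1)
    (h : s * x * s⁻¹ ∈ Subgroup.zpowers x) : s * x * s⁻¹ = x := by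
  by_cases hx1 : x = 1
  · subst hx1
    simp
  have hox : orderOf x = p := orderOf_eq_prime hx hx1
  obtain ⟨k, hk⟩ := Subgroup.mem_zpowers_iff.1 h
  have hj : ∀ j : ℕ, s ^ j * x * (s ^ j)⁻¹ = x ^ (k ^ j) := by
    intro j
    induction j with
    | zero => simp
    | succ j ih =>
      have h1 : s ^ (j + 1) * x * (s ^ (j + 1))⁻¹ = s * (s ^ j * x * (s ^ j)⁻¹) * s⁻¹ := by
        rw [pow_succ']
        group
      rw [h1, ih, ← conj_zpow, ← hk, ← zpow_mul, pow_succ']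
  have h1 := hj (p ^ a)
  rw [hs] at h1
  have h2 : x ^ (1 : ℤ) = x ^ (k ^ (p ^ a)) := by
    rw [zpow_one, ← h1]
    group
  rw [zpow_eq_zpow_iff_modEq, hox] at h2
  have h3 := (ZMod.intCast_eq_intCast_iff _ _ p).2 h2
  push_cast at h3
  rw [ZMod.pow_card_pow] at h3
  have h4 : ((1 : ℤ) : ZMod p) = ((k : ℤ) : ZMod p) := by
    push_cast
    exact h3
  have h5 := (ZMod.intCast_eq_intCast_iff _ _ p).1 h4
  rw [← hox, ← zpow_eq_zpow_iff_modEq, zpow_one] at h5
  rw [← hk, ← h5]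

/-- in a cyclic group of order dividing `4` the generators are `x` and `x⁻¹` -/
theorem eq_or_eq_inv_of_pow_four {x y : M} (hx : x ^ 4 = 1) (hy : y ∈ Subgroup.zpowers x)
    (ho : orderOf y = orderOf x) : y = x ∨ y = x⁻¹ := by
  obtain ⟨k, rfl⟩ := Subgroup.mem_zpowers_iff.1 hy
  have h1 : x ^ k = x ^ (k % 4) := by
    conv_lhs => rw [← Int.emod_add_mul_ediv k 4]
    rw [zpow_add, zpow_mul]
    have : x ^ (4 : ℤ) = 1 := by
      have : x ^ ((4 : ℕ) : ℤ) = 1 := by rw [zpow_natCast]; exact hx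
      exact_mod_cast this
    rw [this, one_zpow, mul_one]
  obtain ⟨r, hr⟩ : ∃ r : ℤ, r = k % 4 := ⟨_, rfl⟩
  have hr0 : 0 ≤ r := hr ▸ Int.emod_nonneg k (by norm_num)
  have hr4 : r < 4 := hr ▸ Int.emod_lt_of_pos k (by norm_num)
  rw [h1, ← hr] at ho ⊢
  have hx1 : ∀ hy1 : x ^ r = 1, x ^ r = x := by
    intro hy1
    rw [hy1, orderOf_one] at ho
    rw [hy1]
    exact (orderOf_eq_one_iff.1 ho.symm).symm
  interval_cases r
  · left
    exact hx1 (zpow_zero x)
  · left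
    exact zpow_one x
  · left
    apply hx1
    have h2 : (x ^ (2 : ℤ)) ^ 2 = 1 := by
      rw [← zpow_natCast, ← zpow_mul]
      have : x ^ ((4 : ℕ) : ℤ) = 1 := by rw [zpow_natCast]; exact hx
      exact_mod_cast this
    have h3 : orderOf (x ^ (2 : ℤ)) ∣ 2 := orderOf_dvd_of_pow_eq_one h2
    rw [ho] at h3
    have h4 : x ^ 2 = 1 := orderOf_dvd_iff_pow_eq_one.1 h3
    have : x ^ ((2 : ℕ) : ℤ) = 1 := by rw [zpow_natCast]; exact h4
    exact_mod_cast this
  · right
    have h2 : x ^ (3 : ℤ) * x = 1 := by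
      have : x ^ (3 : ℤ) * x = x ^ ((4 : ℕ) : ℤ) := by
        rw [← zpow_add_one]
        norm_num
      rw [this, zpow_natCast]
      exact hx
    exact eq_inv_of_mul_eq_one_left h2

end Cfsg.Agent.Lib.Helper25
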