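import Cfsg.Agent.Lib.Helper25.ZStarC
import Cfsg.Agent.Lib.Lead.UniqueSubgroup

/-!
Glauberman's Z*-theorem (helper25): the Brauer-Suzuki hypothesis `BSHyp` follows from the
statement of the Brauer-Suzuki theorem (S0201) and Burnside's transfer theorem.
-/

set_option autoImplicit false
open Cfsg

namespace Cfsg.Agent.Lib.Helper25.ZStar

open Cfsg.Agent.Lib.Helper18 Cfsg.Agent.Lib.Helper20
open Cfsg.Agent.Lib.Lead.UniqueOrderP Cfsg.Agent.Lib.Lead.UniqueSubgroup

universe u

/-- the statement of the Brauer-Suzuki theorem, in the shape of S0201 -/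
def BSStmt : Prop :=
  ∀ (G : Type u) [Group G] [Finite G] (S : Sylow 2 G) (n : ℕ)
    (_ : (S : Subgroup G) ≃* QuaternionGroup (2 ^ (n + 1)))
    (_ : ∀ N : Subgroup G, N.Normal → Odd (Nat.card N) → N = ⊥),
    Nat.card (Subgroup.center G) = 2

theorem central_of_cyclic_sylow {H : Type u} [Group H] [Finite H] (S : Sylow 2 H)
    (hS : IsCyclic ↥(S : Subgroup H)) (hO : pPrimeCore 2 H = ⊥) (x : H) (hx2 : orderOf x = 2) :
    x ∈ Subgroup.center H := by
  have h2 : 2 ∣ Nat.card H := hx2 ▸ orderOf_dvd_natCard x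
  have hp : (Nat.card H).minFac = 2 := (Nat.minFac_eq_two_iff _).mpr h2
  have hc := IsCyclic.isComplement' hp hS
  have hnd := MonoidHom.not_dvd_card_ker_transferSylow S (hS.normalizer_le_centralizer hp)
  have hcop : (Nat.card (MonoidHom.transferSylow S (hS.normalizer_le_centralizer hp)).ker).Coprime 2 :=
    ((Nat.Prime.coprime_iff_not_dvd Nat.prime_two).mpr hnd).symm
  have hle := le_pPrimeCore' (MonoidHom.normal_ker _) hcop
  rw [hO] at hle
  rw [le_bot_iff.mp hle] at hc
  have hStop : (S : Subgroup H) = ⊤ := Subgroup.isComplement'_bot_left.mp hc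
  obtain ⟨g, hg⟩ := IsCyclic.exists_generator (α := ↥(S : Subgroup H))
  rw [Subgroup.mem_center_iff]
  intro y
  have hyS : y ∈ (S : Subgroup H) := by rw [hStop]; trivial
  have hxS : x ∈ (S : Subgroup H) := by rw [hStop]; trivial
  obtain ⟨m, hm⟩ := Subgroup.mem_zpowers_iff.mp (hg ⟨y, hyS⟩)
  obtain ⟨k, hk⟩ := Subgroup.mem_zpowers_iff.mp (hg ⟨x, hxS⟩)
  have h3 : (⟨y, hyS⟩ : ↥(S : Subgroup H)) * ⟨x, hxS⟩ = ⟨x, hxS⟩ * ⟨y, hyS⟩ := by
    rw [← hm, ← hk]
    exact ((Commute.refl g).zpow_zpow m k).eq
  exact congrArg Subtype.val h3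

theorem bsHyp_of_bsStmt (h : BSStmt.{u}) : BSHyp.{u} := by
  intro H _ _ x hx2 huniq hO
  have hxx : x * x = 1 := mul_self_of_orderOf_two hx2
  have hx1 : x ≠ 1 := ne_one_of_orderOf_two hx2
  have hU : IsPGroup 2 (Subgroup.zpowers x) :=
    IsPGroup.of_card (n := 1) (by rw [Nat.card_zpowers, hx2, pow_one])
  obtain ⟨S, hS⟩ := hU.exists_le_sylow
  have hxS : x ∈ (S : Subgroup H) := hS (Subgroup.mem_zpowers x)
  have hSp : IsPGroup 2 ↥(S : Subgroup H) := S.isPGroup'
  -- x is central in S
  have hxZ : ∀ s : H, s ∈ (S : Subgroup H) → s * x = x * s := by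
    haveI : Nontrivial ↥(S : Subgroup H) :=
      ⟨⟨⟨x, hxS⟩, 1, fun h => hx1 (congrArg Subtype.val h)⟩⟩
    haveI := hSp.center_nontrivial
    have h2 : 2 ∣ Nat.card (Subgroup.center ↥(S : Subgroup H)) := by
      obtain ⟨k, hk⟩ := IsPGroup.iff_card.mp (hSp.to_subgroup (Subgroup.center _))
      have hk0 : k ≠ 0 := by
        rintro rfl
        rw [pow_zero] at hk
        have := (Nat.card_eq_one_iff_unique.mp hk).1
        exact not_subsingleton _ this
      rw [hk]; exact dvd_pow_self 2 hk0
    obtain ⟨y, hy⟩ := exists_prime_orderOf_dvd_card' 2 h2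
    have hyc : ∀ s : ↥(S : Subgroup H), s * (y : ↥(S : Subgroup H)) = (y : ↥(S : Subgroup H)) * s :=
      fun s => Subgroup.mem_center_iff.mp y.2 s
    have hy2 : ((y : ↥(S : Subgroup H)) : H) * ((y : ↥(S : Subgroup H)) : H) = 1 := by
      have h3 : y ^ 2 = 1 := by
        have := pow_orderOf_eq_one y
        rwa [hy] at this
      have h4 := congrArg (fun z : ↥(Subgroup.center ↥(S : Subgroup H)) =>
        ((z : ↥(S : Subgroup H)) : H)) h3
      simpa [pow_two] using h4
    have hy1 : ((y : ↥(S : Subgroup H)) : H) ≠ 1 := by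
      intro h3
      have : y = 1 := Subtype.ext (Subtype.ext h3)
      rw [this, orderOf_one] at hy
      omega
    have hyx : Commute ((y : ↥(S : Subgroup H)) : H) x := by
      have := congrArg Subtype.val (hyc ⟨x, hxS⟩)
      exact this.symm
    rcases huniq _ hy2 hyx with h3 | h3
    · exact (hy1 h3).elim
    · intro s hs
      have := congrArg Subtype.val (hyc ⟨s, hs⟩)
      rw [← h3]
      exact this
  -- unique subgroup of order 2
  have hUO : UniqueOrderP 2 ↥(S : Subgroup H) := by
    have key : ∀ A : Subgroup ↥(S : Subgroup H), Nat.card A = 2 →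
        A = Subgroup.zpowers ⟨x, hxS⟩ := by
      intro A hA
      have hex : ∃ a ∈ A, a ≠ 1 := by
        by_contra hcon
        push Not at hcon
        have hb : A = ⊥ := (Subgroup.eq_bot_iff_forall _).mpr hcon
        rw [hb, Subgroup.card_bot] at hA
        omega
      obtain ⟨a, haA, ha1⟩ := hex
      have ha2 : a * a = 1 := by
        have h3 : (⟨a, haA⟩ : A) ^ Nat.card A = 1 := pow_card_eq_one'
        rw [hA] at h3
        have h4 := congrArg Subtype.val h3
        simpa [pow_two] using h4
      have ha2' : (a : H) * (a : H) = 1 := by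
        have := congrArg Subtype.val ha2
        simpa using this
      have hax : Commute (a : H) x := hxZ _ a.2
      rcases huniq _ ha2' hax with h3 | h3
      · exact (ha1 (Subtype.ext h3)).elim
      · have hax' : a = ⟨x, hxS⟩ := Subtype.ext h3
        symm
        apply Subgroup.eq_of_le_of_card_ge
        · rw [Subgroup.zpowers_le, ← hax']; exact haA
        · rw [hA, Nat.card_zpowers, Subgroup.orderOf_mk, hx2]
    intro A B hA hB
    rw [key A hA, key B hB]
  rcases cyclic_or_quaternion hSp hUO with hcyc | ⟨-, n, ⟨e⟩⟩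
  · exact central_of_cyclic_sylow S hcyc hO x hx2
  · rcases n with _ | n
    · have hcyc : IsCyclic ↥(S : Subgroup H) := by
        haveI h1 : IsCyclic (QuaternionGroup (2 ^ 0)) :=
          QuaternionGroup.quaternionGroup_one_isCyclic
        exact isCyclic_of_surjective e.symm e.symm.surjective
      exact central_of_cyclic_sylow S hcyc hO x hx2
    · have hcard := h H S n e (fun N hN hodd => by
        have h3 := le_pPrimeCore' hN (Nat.coprime_two_right.mpr hodd)
        rw [hO] at h3
        exact le_bot_iff.mp h3)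
      have hex : ∃ y ∈ Subgroup.center H, y ≠ 1 := by
        by_contra hcon
        push Not at hcon
        have hb : Subgroup.center H = ⊥ := (Subgroup.eq_bot_iff_forall _).mpr hcon
        rw [hb, Subgroup.card_bot] at hcard
        omega
      obtain ⟨y, hyc, hy1⟩ := hex
      have hy2 : y * y = 1 := by
        have h3 : (⟨y, hyc⟩ : Subgroup.center H) ^ Nat.card (Subgroup.center H) = 1 :=
          pow_card_eq_one'
        rw [hcard] at h3
        have h4 := congrArg Subtype.val h3
        simpa [pow_two] using h4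
      have hyx : Commute y x := (Subgroup.mem_center_iff.mp hyc x).symm
      rcases huniq y hy2 hyx with h3 | h3
      · exact (hy1 h3).elim
      · rw [← h3]; exact hyc

/-- **Glauberman's Z*-theorem** from the statement of the Brauer-Suzuki theorem -/
theorem zstar_of_bsStmt (h : BSStmt.{u}) (G : Type u) [Group G] [Finite G] : ZProp G :=
  zstar (bsHyp_of_bsStmt h) G

end Cfsg.Agent.Lib.Helper25.ZStar
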