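import Cfsg.Agent.Lib.Helper25.ThreeTrRankB
import Cfsg.Agent.Lib.Helper14.DkSub1

/-!
Fischer's hypotheses give primitivity; the commuting partners form one class of the subgroup
they generate (helper25).
-/

set_option autoImplicit false
open Cfsg
open scoped commutatorElement

namespace Cfsg.Agent.Lib.Helper25.ThreeTrPrim

open Cfsg.Agent.Lib.Helper20 Cfsg.Agent.Lib.Helper25.ThreeTr Cfsg.Agent.Lib.Helper25.ZStar

universe u
variable {G : Type u} [Group G] {D : Set G}

/-- a perfect derived subgroup lies in a normal subgroup modulo which `D` has width one -/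
theorem commutator_le_of_width_one_quot [Finite G] (h : TT D)
    (hperf : ⁅commutator G, commutator G⁆ = commutator G) (L : Subgroup G) [hLn : L.Normal]
    (hdich : ∀ a ∈ D, ∀ b ∈ D, a * b * a⁻¹ * b⁻¹ ∈ L → a⁻¹ * b ∈ L) :
    commutator G ≤ L := by
  by_cases hLtop : L = ⊤
  · rw [hLtop]; exact le_top
  haveI : Fact (Nat.Prime 3) := ⟨Nat.prime_three⟩
  let π : G →* G ⧸ L := QuotientGroup.mk' L
  have hπ1 : ∀ x, π x = 1 ↔ x ∈ L := fun x => QuotientGroup.eq_one_iff x
  have hπsurj : Function.Surjective π := QuotientGroup.mk'_surjective L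
  have heq : ∀ a ∈ D, ∀ b ∈ D, Commute (π a) (π b) → π a = π b := by
    intro a ha b hb hc
    have h1 : π (a * b * a⁻¹ * b⁻¹) = 1 := by
      rw [map_mul, map_mul, map_mul, map_inv, map_inv, hc.eq, mul_inv_cancel_right,
        mul_inv_cancel]
    have h2 := hdich a ha b hb ((hπ1 _).mp h1)
    have h3 := (hπ1 _).mpr h2
    rw [map_mul, map_inv] at h3
    exact (inv_mul_eq_one.mp h3)
  have hW : W1 (π '' D) := by
    refine ⟨?_, ?_, ?_, ?_, ?_⟩
    · rintro _ ⟨d, hd, rfl⟩
      apply orderOf_eq_prime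
      · rw [← map_pow, pow_two, h.sq hd, map_one]
      · intro h1
        exact not_mem_of_ne_top h L hLtop hd ((hπ1 d).mp h1)
    · rintro q _ ⟨d, hd, rfl⟩
      obtain ⟨g, rfl⟩ := hπsurj q
      exact ⟨g * d * g⁻¹, h.conj g d hd, by rw [map_mul, map_mul, map_inv]⟩
    · rw [← MonoidHom.map_closure, h.gen]
      exact Subgroup.map_top_of_surjective π hπsurj
    · rintro _ ⟨d, hd, rfl⟩ _ ⟨e, he, rfl⟩
      by_cases hde : Commute d e
      · have h1 : π d = π e := heq d hd e he (hde.map π)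
        rw [← h1, ← map_mul, h.sq hd, map_one, one_pow]
      · rw [← map_mul, ← map_pow, cube_of_nc h hd he hde, map_one]
    · rintro _ ⟨d, hd, rfl⟩ _ ⟨e, he, rfl⟩ hc
      exact heq d hd e he hc
  obtain ⟨a, ha⟩ : ∃ a, a ∈ D := by
    by_contra hno
    push Not at hno
    apply hLtop
    rw [eq_top_iff, ← h.gen, Subgroup.closure_le]
    intro d hd
    exact absurd hd (hno d)
  have htop := hall_three (zprop (G ⧸ L)) hW (Set.mem_image_of_mem π ha)
  obtain ⟨R, hR⟩ : ∃ R : Subgroup (G ⧸ L), R = pCore 3 (G ⧸ L) := ⟨_, rfl⟩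
  haveI hRn : R.Normal := by rw [hR]; exact Cfsg.pCore_normal 3 (G ⧸ L)
  have hRpg : IsPGroup 3 R := by rw [hR]; exact pCore_isPGroup' 3
  rw [← hR] at htop
  let ρ : (G ⧸ L) →* (G ⧸ L) ⧸ R := QuotientGroup.mk' R
  have hρsurj : Function.Surjective ρ := QuotientGroup.mk'_surjective R
  have hcyc : IsCyclic ((G ⧸ L) ⧸ R) := by
    rw [isCyclic_iff_exists_zpowers_eq_top]
    refine ⟨ρ (π a), ?_⟩
    have h1 : Subgroup.map ρ (Subgroup.zpowers (π a) ⊔ R) = ⊤ := by
      rw [htop]; exact Subgroup.map_top_of_surjective ρ hρsurj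
    rw [Subgroup.map_sup, MonoidHom.map_zpowers, QuotientGroup.map_mk'_self, sup_bot_eq] at h1
    exact h1
  letI : CommGroup ((G ⧸ L) ⧸ R) := IsCyclic.commGroup
  have hker : commutator G ≤ (ρ.comp π).ker := Abelianization.commutator_subset_ker (ρ.comp π)
  obtain ⟨K, hK⟩ : ∃ K : Subgroup (G ⧸ L), K = (commutator G).map π := ⟨_, rfl⟩
  have hKR : K ≤ R := by
    rw [hK]
    rintro _ ⟨g, hg, rfl⟩
    have := hker hg
    rw [MonoidHom.mem_ker, MonoidHom.comp_apply] at this
    exact (QuotientGroup.eq_one_iff _).mp this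
  have hKp : IsPGroup 3 K := hRpg.to_le hKR
  have hKperf : ⁅K, K⁆ = K := by
    rw [hK, ← Subgroup.map_commutator, hperf]
  have hKbot : K = ⊥ :=
    Cfsg.Agent.Lib.Helper14.DkSub.eq_bot_of_perfect_of_isPGroup K hKperf hKp
  intro g hg
  have h1 : π g ∈ K := by rw [hK]; exact Subgroup.mem_map_of_mem π hg
  rw [hKbot, Subgroup.mem_bot] at h1
  exact (hπ1 g).mp h1

/-- Fischer's hypotheses give primitivity -/
theorem prim_of_fischer [Finite G]
    (hsol : ∀ N : Subgroup G, N.Normal → Group.IsSolvable ↥N → N = ⊥)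
    (hperf : ⁅commutator G, commutator G⁆ = commutator G)
    (hD : IsThreeTranspositionClass D) (hD2 : ∃ a ∈ D, ∃ b ∈ D, a ≠ b) :
    IsPrimitiveUnderConj D := by
  have h := tt_of_class hD
  haveI : Fact (Nat.Prime 2) := ⟨Nat.prime_two⟩
  haveI : Fact (Nat.Prime 3) := ⟨Nat.prime_three⟩
  have hcore : ∀ (p : ℕ) [Fact p.Prime], pCore p G ≤ Subgroup.center G := by
    intro p _
    have hnil : Group.IsNilpotent ↥(pCore p G) := (pCore_isPGroup' p).isNilpotent
    rw [hsol (pCore p G) (Cfsg.pCore_normal p G) inferInstance]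
    exact bot_le
  obtain ⟨L, hLn, hLq, hF, hdich⟩ := s5352_of_zprop (fun X _ _ => zprop X) hD hD2 (hcore 2) (hcore 3)
  haveI := hLn
  have hle : commutator G ≤ L := by
    rcases hdich with hLtop | hdich
    · rw [hLtop]; exact le_top
    · exact commutator_le_of_width_one_quot h hperf L hdich
  obtain ⟨a, ha, b, hb, hab⟩ := hD2
  have hall : ∀ d ∈ D, a⁻¹ * d ∈ L := by
    intro d hd
    obtain ⟨g, rfl⟩ := h.trans a ha d hd
    have e : a⁻¹ * (g * a * g⁻¹) = ⁅a⁻¹, g⁆ := by
      rw [commutatorElement_def]; group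
    rw [e]
    apply hle
    rw [commutator_def]
    exact Subgroup.commutator_mem_commutator (Subgroup.mem_top _) (Subgroup.mem_top _)
  have hidx : L.index ≤ 2 := index_le_two_of_coset h L ha hall
  exact primitive_of_index hD ⟨a, ha, b, hb, hab⟩ (hcore 2) (hcore 3) L hLq hidx

/-- the commuting partners form one class of the subgroup they generate -/
theorem s1613_main [Finite G]
    (hsol : ∀ N : Subgroup G, N.Normal → Group.IsSolvable ↥N → N = ⊥)
    (hperf : ⁅commutator G, commutator G⁆ = commutator G)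
    (hD : IsThreeTranspositionClass D) (x : G) (hx : x ∈ D) :
    ∀ y ∈ {y : G | y ∈ D ∧ y ≠ x ∧ Commute x y}, ∀ y' ∈ {y : G | y ∈ D ∧ y ≠ x ∧ Commute x y},
      ∃ g ∈ Subgroup.closure {y : G | y ∈ D ∧ y ≠ x ∧ Commute x y}, g * y * g⁻¹ = y' := by
  intro y hy y' hy'
  have h := tt_of_class hD
  have hw : ∃ a ∈ D, ∃ b ∈ D, a ≠ b ∧ Commute a b := ⟨x, hx, y, hy.1, hy.2.1.symm, hy.2.2⟩
  have hprim := prim_of_fischer hsol hperf hD ⟨x, hx, y, hy.1, hy.2.1.symm⟩
  have hr := ddConn h hprim hw hx y hy y' hy'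
  induction hr with
  | refl => exact ⟨1, Subgroup.one_mem _, by group⟩
  | @tail b c _ hbc ih =>
    obtain ⟨hu, hv, hn⟩ := hbc
    obtain ⟨g, hg, hgy⟩ := ih hu
    refine ⟨(b * c) * g, Subgroup.mul_mem _
      (Subgroup.mul_mem _ (Subgroup.subset_closure hu) (Subgroup.subset_closure hv)) hg, ?_⟩
    have e := conj_of_nc h hv.1 hu.1 (fun hc => hn hc.symm)
    have e2 : (b * c) * g * y * ((b * c) * g)⁻¹ = (b * c) * (g * y * g⁻¹) * (b * c)⁻¹ := by group
    rw [e2, hgy]
    exact e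

end Cfsg.Agent.Lib.Helper25.ThreeTrPrim
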