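import Mathlib
import Cfsg.Agent.Lib.Helper20.CyclicSylow

/-!
helper25: quotients of groups in which abelian subgroups of equal order are conjugate
(minimal supplements of a normal subgroup in the preimage of an abelian subgroup).
-/

set_option autoImplicit false

namespace Cfsg.Agent.Lib.Helper25.BGroupQuot


theorem sylow_normal_of_min {H : Type*} [Group H] [Finite H] (K : Subgroup H)
    (hab : ∀ a b : H, a * b * a⁻¹ * b⁻¹ ∈ K)
    (hmin : ∀ X : Subgroup H, X ⊔ K = ⊤ → X = ⊤) {p : ℕ} [Fact p.Prime] (Q : Sylow p H) :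
    (Q : Subgroup H).Normal := by
  have hLn : ((Q : Subgroup H) ⊔ K).Normal := by
    constructor
    intro x hx g
    have : g * x * g⁻¹ = (g * x * g⁻¹ * x⁻¹) * x := by group
    rw [this]
    exact mul_mem ((le_sup_right : K ≤ (Q : Subgroup H) ⊔ K) (hab g x)) hx
  have h1 := Sylow.normalizer_sup_eq_top' Q (N := (Q : Subgroup H) ⊔ K) le_sup_left
  have h2 : Subgroup.normalizer ((Q : Subgroup H) : Set H) ⊔ K = ⊤ := by
    rw [eq_top_iff]
    calc (⊤ : Subgroup H) = _ := h1.symm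
      _ ≤ _ := sup_le le_sup_left (sup_le (le_trans Subgroup.le_normalizer le_sup_left) le_sup_right)
  exact Subgroup.normalizer_eq_top_iff.mp (hmin _ h2)

theorem sylow_eq_bot_of_le {H : Type*} [Group H] [Finite H] (K : Subgroup H)
    (hab : ∀ a b : H, a * b * a⁻¹ * b⁻¹ ∈ K)
    (hmin : ∀ X : Subgroup H, X ⊔ K = ⊤ → X = ⊤) {p : ℕ} [Fact p.Prime] (Q : Sylow p H)
    (hQK : (Q : Subgroup H) ≤ K) : (Q : Subgroup H) = ⊥ := by
  haveI := sylow_normal_of_min K hab hmin Q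
  have hcop : Nat.Coprime (Nat.card (Q : Subgroup H)) (Q : Subgroup H).index := by
    obtain ⟨k, hk⟩ := IsPGroup.iff_card.mp Q.isPGroup'
    rw [hk]
    exact Nat.Coprime.pow_left _ ((Nat.Prime.coprime_iff_not_dvd Fact.out).mpr Q.not_dvd_index)
  obtain ⟨X, hX⟩ := Subgroup.exists_right_complement'_of_coprime hcop
  have hsup : (Q : Subgroup H) ⊔ X = ⊤ := hX.sup_eq_top
  have hXK : X ⊔ K = ⊤ := by
    rw [eq_top_iff, ← hsup]; exact sup_le (hQK.trans le_sup_right) le_sup_left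
  have hXtop := hmin X hXK
  have hc := hX.card_mul_card
  rw [hXtop, Subgroup.card_top] at hc
  have h1 : Nat.card (Q : Subgroup H) = 1 := by
    have hpos : 0 < Nat.card H := Nat.card_pos
    exact Nat.eq_of_mul_eq_mul_right hpos (by rw [hc, one_mul])
  exact Subgroup.card_eq_one.mp h1


section
variable {G : Type*} [Group G] [Finite G]

theorem quot_comm (M : Subgroup G) [M.Normal] (Abar : Subgroup (G ⧸ M))
    (hA : IsMulCommutative ↥Abar)
    (N : Subgroup G) (hN : N.map (QuotientGroup.mk' M) = Abar) (a b : ↥N) :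
    a * b * a⁻¹ * b⁻¹ ∈ M.subgroupOf N := by
  rw [Subgroup.mem_subgroupOf]
  have ha : (QuotientGroup.mk' M) a.1 ∈ Abar := hN ▸ Subgroup.mem_map_of_mem _ a.2
  have hb : (QuotientGroup.mk' M) b.1 ∈ Abar := hN ▸ Subgroup.mem_map_of_mem _ b.2
  have hc := congrArg Subtype.val (hA.is_comm.comm ⟨_, ha⟩ ⟨_, hb⟩)
  have hc' : (a.1 : G ⧸ M) * (b.1 : G ⧸ M) = (b.1 : G ⧸ M) * (a.1 : G ⧸ M) := hc
  rw [← QuotientGroup.eq_one_iff]
  push_cast
  simp only [QuotientGroup.mk_mul, QuotientGroup.mk_inv]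
  rw [hc']; group

theorem min_transfer (M : Subgroup G) [M.Normal] (Abar : Subgroup (G ⧸ M))
    (N : Subgroup G) (hN : N.map (QuotientGroup.mk' M) = Abar)
    (hmin : ∀ N' : Subgroup G, N'.map (QuotientGroup.mk' M) = Abar → N' ≤ N → N ≤ N')
    (X : Subgroup ↥N) (hX : X ⊔ M.subgroupOf N = ⊤) : X = ⊤ := by
  have hle : X.map N.subtype ≤ N := by
    intro x hx; obtain ⟨y, _, rfl⟩ := hx; exact y.2
  have h1 : (X.map N.subtype).map (QuotientGroup.mk' M) = Abar := by
    rw [← hN]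
    apply le_antisymm (Subgroup.map_mono hle)
    rintro _ ⟨n, hn, rfl⟩
    have hmem : (⟨n, hn⟩ : ↥N) ∈ ((X ⊔ M.subgroupOf N : Subgroup ↥N) : Set ↥N) := by
      rw [hX]; exact Set.mem_univ _
    rw [Subgroup.mul_normal, Set.mem_mul] at hmem
    obtain ⟨x, hx, k, hk, hxk⟩ := hmem
    refine ⟨x.1, ⟨x, hx, rfl⟩, ?_⟩
    have hn' : n = x.1 * k.1 := by
      have := congrArg Subtype.val hxk
      simpa using this.symm
    have hk1 : ((k.1 : G) : G ⧸ M) = 1 :=
      (QuotientGroup.eq_one_iff k.1).mpr (Subgroup.mem_subgroupOf.mp hk)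
    rw [hn']
    simp [hk1]
  have h2 := hmin _ h1 hle
  rw [eq_top_iff]; intro x _
  obtain ⟨y, hy, hyx⟩ := h2 x.2
  have : y = x := Subtype.ext hyx
  exact this ▸ hy

theorem card_eq (M : Subgroup G) [M.Normal] (Abar : Subgroup (G ⧸ M))
    (N : Subgroup G) (hN : N.map (QuotientGroup.mk' M) = Abar) :
    Nat.card ↥N = Nat.card ↥(M.subgroupOf N) * Nat.card ↥Abar := by
  let φ : ↥N →* G ⧸ M := (QuotientGroup.mk' M).comp N.subtype
  have hker : φ.ker = M.subgroupOf N := by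
    ext x
    rw [MonoidHom.mem_ker, Subgroup.mem_subgroupOf]
    exact QuotientGroup.eq_one_iff x.1
  have hrange : φ.range = Abar := by
    rw [← hN]
    ext y
    constructor
    · rintro ⟨x, rfl⟩; exact ⟨x.1, x.2, rfl⟩
    · rintro ⟨x, hx, rfl⟩; exact ⟨⟨x, hx⟩, rfl⟩
  have h1 := Subgroup.card_mul_index φ.ker
  rw [Subgroup.index_ker, hker, hrange] at h1
  exact h1.symm

theorem card_K_dvd (M : Subgroup G) (N : Subgroup G) :
    Nat.card ↥(M.subgroupOf N) ∣ Nat.card ↥M := by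
  let f : ↥(M.subgroupOf N) →* ↥M :=
    { toFun := fun x => ⟨x.1.1, Subgroup.mem_subgroupOf.mp x.2⟩
      map_one' := rfl
      map_mul' := fun _ _ => rfl }
  apply Subgroup.card_dvd_of_injective f
  intro x y hxy
  have := congrArg Subtype.val hxy
  exact Subtype.ext (Subtype.ext this)


theorem eq_one_of_pow_coprime {H : Type*} [Group H] (c : H) (a b : ℕ) (hab : Nat.Coprime a b)
    (ha : c ^ a = 1) (hb : c ^ b = 1) : c = 1 := by
  have h3 : orderOf c ∣ Nat.gcd a b :=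
    Nat.dvd_gcd (orderOf_dvd_of_pow_eq_one ha) (orderOf_dvd_of_pow_eq_one hb)
  rw [hab.gcd_eq_one, Nat.dvd_one] at h3
  exact orderOf_eq_one_iff.mp h3

/-- Order of `P ∩ M` for a Sylow `P` and normal `M`. -/
theorem card_sylow_inf_normal (M : Subgroup G) [M.Normal] (p : ℕ) [Fact p.Prime] (P : Sylow p G) :
    Nat.card ↥(M.subgroupOf (P : Subgroup G)) = p ^ (Nat.card ↥M).factorization p := by
  have hp : p.Prime := Fact.out
  have h1 := card_eq M ((P : Subgroup G).map (QuotientGroup.mk' M)) (P : Subgroup G) rfl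
  have hsurj : Function.Surjective (QuotientGroup.mk' M) := QuotientGroup.mk'_surjective M
  have h2 : Nat.card ↥((P : Subgroup G).map (QuotientGroup.mk' M)) =
      p ^ (Nat.card (G ⧸ M)).factorization p := by
    have := (P.mapSurjective hsurj).card_eq_multiplicity
    rwa [Sylow.coe_mapSurjective] at this
  have h3 : Nat.card ↥(P : Subgroup G) = p ^ (Nat.card G).factorization p := P.card_eq_multiplicity
  have h4 : Nat.card G = Nat.card (G ⧸ M) * Nat.card ↥M :=
    Subgroup.card_eq_card_quotient_mul_card_subgroup M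
  have h5 : (Nat.card G).factorization p =
      (Nat.card (G ⧸ M)).factorization p + (Nat.card ↥M).factorization p := by
    rw [h4, Nat.factorization_mul Nat.card_pos.ne' Nat.card_pos.ne']; rfl
  rw [h3, h2, h5, pow_add, mul_comm] at h1
  exact (Nat.eq_of_mul_eq_mul_right (pow_pos hp.pos _) h1).symm


noncomputable def hfun (m p n : ℕ) : ℕ :=
  if p ∣ m then (if p ∣ n then m.factorization p + n.factorization p else 0)
  else n.factorization p

/-- General form: the main branch is an abstract hypothesis. -/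
theorem sylow_facts_gen
    (M : Subgroup G) [M.Normal]
    (Abar : Subgroup (G ⧸ M)) (hA : IsMulCommutative ↥Abar)
    (N : Subgroup G) (hN : N.map (QuotientGroup.mk' M) = Abar)
    (hmin : ∀ N' : Subgroup G, N'.map (QuotientGroup.mk' M) = Abar → N' ≤ N → N ≤ N')
    (p : ℕ) [Fact p.Prime] (Q : Sylow p ↥N)
    (hmain : p ∣ Nat.card ↥M → p ∣ Nat.card ↥Abar → ¬ ((Q : Subgroup ↥N) ≤ M.subgroupOf N) →
      IsMulCommutative ↥(Q : Subgroup ↥N) ∧
      (Nat.card ↥(M.subgroupOf N)).factorization p = (Nat.card ↥M).factorization p) :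
    IsMulCommutative ↥(Q : Subgroup ↥N) ∧
      (Nat.card ↥N).factorization p = hfun (Nat.card ↥M) p (Nat.card ↥Abar) := by
  have hp : p.Prime := Fact.out
  set K := M.subgroupOf N with hK
  have hab := quot_comm M Abar hA N hN
  have hmin' := min_transfer M Abar N hN hmin
  have hcard := card_eq M Abar N hN
  have hKM := card_K_dvd M N
  have hKpos : Nat.card ↥K ≠ 0 := Nat.card_pos.ne'
  have hApos : Nat.card ↥Abar ≠ 0 := Nat.card_pos.ne'
  have hMpos : Nat.card ↥M ≠ 0 := Nat.card_pos.ne'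
  have hfac : (Nat.card ↥N).factorization p =
      (Nat.card ↥K).factorization p + (Nat.card ↥Abar).factorization p := by
    rw [hcard, Nat.factorization_mul hKpos hApos]; rfl
  have hQcard : Nat.card ↥(Q : Subgroup ↥N) = p ^ (Nat.card ↥N).factorization p :=
    Q.card_eq_multiplicity
  have hbot : (Q : Subgroup ↥N) ≤ K → (Nat.card ↥N).factorization p = 0 := by
    intro hle
    have h0 := sylow_eq_bot_of_le K hab hmin' Q hle
    rw [h0, Subgroup.card_bot] at hQcard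
    by_contra h
    exact absurd hQcard.symm (Nat.one_lt_pow h hp.one_lt).ne'
  have hcommbot : (Q : Subgroup ↥N) ≤ K → IsMulCommutative ↥(Q : Subgroup ↥N) := by
    intro hle
    have h0 := sylow_eq_bot_of_le K hab hmin' Q hle
    refine ⟨⟨fun x y => ?_⟩⟩
    have hx : x = 1 := Subtype.ext ((Subgroup.mem_bot).mp (h0 ▸ x.2))
    have hy : y = 1 := Subtype.ext ((Subgroup.mem_bot).mp (h0 ▸ y.2))
    rw [hx, hy]
  have hQK_of : ¬ p ∣ Nat.card ↥Abar → (Q : Subgroup ↥N) ≤ K := by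
    intro hpA x hx
    rw [hK, Subgroup.mem_subgroupOf]
    have hxA : (QuotientGroup.mk' M) x.1 ∈ Abar := hN ▸ Subgroup.mem_map_of_mem _ x.2
    obtain ⟨k, hk⟩ := Q.isPGroup' ⟨x, hx⟩
    have hk' : x ^ p ^ k = 1 := by simpa using congrArg Subtype.val hk
    have h1 : ((QuotientGroup.mk' M) x.1) ^ p ^ k = 1 := by
      rw [← map_pow]
      have : (x.1) ^ p ^ k = 1 := by simpa using congrArg Subtype.val hk'
      rw [this, map_one]
    have h2 : ((QuotientGroup.mk' M) x.1) ^ Nat.card ↥Abar = 1 := by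
      have : (⟨_, hxA⟩ : ↥Abar) ^ Nat.card ↥Abar = 1 := pow_card_eq_one'
      simpa only [Subgroup.coe_pow, Subgroup.coe_one] using congrArg Subtype.val this
    have hcop : Nat.Coprime (p ^ k) (Nat.card ↥Abar) :=
      Nat.Coprime.pow_left _ ((Nat.Prime.coprime_iff_not_dvd hp).mpr hpA)
    have h4 := eq_one_of_pow_coprime _ _ _ hcop h1 h2
    exact (QuotientGroup.eq_one_iff x.1).mp h4
  by_cases hpM : p ∣ Nat.card ↥M
  · by_cases hpA : p ∣ Nat.card ↥Abar
    · have hQK : ¬ (Q : Subgroup ↥N) ≤ K := by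
        intro hle
        have h2 := hbot hle
        have h3 : p ∣ Nat.card ↥N := hcard ▸ Dvd.dvd.mul_left hpA _
        have : 0 < (Nat.card ↥N).factorization p :=
          hp.factorization_pos_of_dvd Nat.card_pos.ne' h3
        omega
      obtain ⟨h1, h2⟩ := hmain hpM hpA hQK
      refine ⟨h1, ?_⟩
      rw [hfac, h2, hfun, if_pos hpM, if_pos hpA]
    · have hle := hQK_of hpA
      refine ⟨hcommbot hle, ?_⟩
      rw [hbot hle, hfun, if_pos hpM, if_neg hpA]
  · have hpK : ¬ p ∣ Nat.card ↥K := fun h => hpM (h.trans hKM)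
    constructor
    · refine ⟨⟨fun x y => ?_⟩⟩
      have hc : x.1 * y.1 * x.1⁻¹ * y.1⁻¹ ∈ K := hab x.1 y.1
      have hcQ : x.1 * y.1 * x.1⁻¹ * y.1⁻¹ ∈ (Q : Subgroup ↥N) :=
        mul_mem (mul_mem (mul_mem x.2 y.2) (inv_mem x.2)) (inv_mem y.2)
      obtain ⟨k, hk⟩ := Q.isPGroup' ⟨_, hcQ⟩
      have hk' : (x.1 * y.1 * x.1⁻¹ * y.1⁻¹) ^ p ^ k = 1 := by
        simpa using congrArg Subtype.val hk
      have hk2 : (x.1 * y.1 * x.1⁻¹ * y.1⁻¹) ^ Nat.card ↥K = 1 := by
        have : (⟨_, hc⟩ : ↥K) ^ Nat.card ↥K = 1 := pow_card_eq_one'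
        simpa only [Subgroup.coe_pow, Subgroup.coe_one] using congrArg Subtype.val this
      have hcop : Nat.Coprime (p ^ k) (Nat.card ↥K) :=
        Nat.Coprime.pow_left _ ((Nat.Prime.coprime_iff_not_dvd hp).mpr hpK)
      have h1 := eq_one_of_pow_coprime _ _ _ hcop hk' hk2
      apply Subtype.ext
      have h2 : x.1 * y.1 = (x.1 * y.1 * x.1⁻¹ * y.1⁻¹) * (y.1 * x.1) := by group
      rw [h1, one_mul] at h2
      exact h2
    · rw [hfac, Nat.factorization_eq_zero_of_not_dvd hpK, zero_add, hfun, if_neg hpM]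

/-- The main branch when Sylow `p`-subgroups of `G` are cyclic or of exponent `p`. -/
theorem hmain_of_good (M : Subgroup G) [M.Normal]
    (hS9 : ∀ a : G, (∃ m ∈ M, orderOf m = orderOf a) → a ∈ M)
    (N : Subgroup G) (p : ℕ) [Fact p.Prime] (Q : Sylow p ↥N)
    (hgood : ∀ P : Sylow p G, IsCyclic ↥(P : Subgroup G) ∨ ∀ x ∈ (P : Subgroup G), x ^ p = 1)
    (hpM : p ∣ Nat.card ↥M) (hQK : ¬ ((Q : Subgroup ↥N) ≤ M.subgroupOf N)) :
    IsMulCommutative ↥(Q : Subgroup ↥N) ∧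
      (Nat.card ↥(M.subgroupOf N)).factorization p = (Nat.card ↥M).factorization p := by
  have hp : p.Prime := Fact.out
  have hKM := card_K_dvd M N
  have hKpos : Nat.card ↥(M.subgroupOf N) ≠ 0 := Nat.card_pos.ne'
  have hMpos : Nat.card ↥M ≠ 0 := Nat.card_pos.ne'
  obtain ⟨P, hP⟩ := (Q.isPGroup'.map N.subtype).exists_le_sylow
  rcases hgood P with hcyc | hexp
  · have hmemP : ∀ q : ↥N, q ∈ (Q : Subgroup ↥N) → q.1 ∈ (P : Subgroup G) :=
      fun q hq => hP ⟨q, hq, rfl⟩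
    constructor
    · haveI := hcyc
      have hPc : IsMulCommutative ↥(P : Subgroup G) := inferInstance
      refine ⟨⟨fun x y => ?_⟩⟩
      have := congrArg Subtype.val
        (hPc.is_comm.comm ⟨x.1.1, hmemP x.1 x.2⟩ ⟨y.1.1, hmemP y.1 y.2⟩)
      exact Subtype.ext (Subtype.ext this)
    · haveI := hcyc
      have hPp : IsPGroup p ↥(P : Subgroup G) := P.isPGroup'
      have hBA : M.subgroupOf (P : Subgroup G) ≤
          (((Q : Subgroup ↥N).map N.subtype).subgroupOf (P : Subgroup G)) := by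
        rcases Cfsg.Agent.Lib.Helper20.le_or_le_of_isCyclic_of_isPGroup hPp
          (((Q : Subgroup ↥N).map N.subtype).subgroupOf (P : Subgroup G))
          (M.subgroupOf (P : Subgroup G)) with h | h
        · exfalso; apply hQK
          intro q hq
          have h1 : (⟨q.1, hmemP q hq⟩ : ↥(P : Subgroup G)) ∈
              (((Q : Subgroup ↥N).map N.subtype).subgroupOf (P : Subgroup G)) :=
            Subgroup.mem_subgroupOf.mpr ⟨q, hq, rfl⟩
          have h2 := h h1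
          rw [Subgroup.mem_subgroupOf]
          exact Subgroup.mem_subgroupOf.mp h2
        · exact h
      have hmemN : ∀ x : ↥(M.subgroupOf (P : Subgroup G)), x.1.1 ∈ N := by
        intro x
        obtain ⟨q, _, hq⟩ := Subgroup.mem_subgroupOf.mp (hBA x.2)
        have : (q : G) = x.1.1 := hq
        rw [← this]; exact q.2
      let f : ↥(M.subgroupOf (P : Subgroup G)) →* ↥(M.subgroupOf N) :=
        { toFun := fun x => ⟨⟨x.1.1, hmemN x⟩, Subgroup.mem_subgroupOf.mpr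
            (Subgroup.mem_subgroupOf.mp x.2)⟩
          map_one' := rfl
          map_mul' := fun _ _ => rfl }
      have hfinj : Function.Injective f := by
        intro x y hxy
        have := congrArg (fun z : ↥(M.subgroupOf N) => (z.1.1 : G)) hxy
        exact Subtype.ext (Subtype.ext this)
      have hdvd := Subgroup.card_dvd_of_injective f hfinj
      rw [card_sylow_inf_normal M p P] at hdvd
      have h1 : (Nat.card ↥M).factorization p ≤ (Nat.card ↥(M.subgroupOf N)).factorization p :=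
        (Nat.Prime.pow_dvd_iff_le_factorization hp hKpos).mp hdvd
      have h2 : (Nat.card ↥(M.subgroupOf N)).factorization p ≤ (Nat.card ↥M).factorization p :=
        (Nat.factorization_le_iff_dvd hKpos hMpos).mpr hKM p
      omega
  · exfalso; apply hQK
    obtain ⟨m, hm⟩ := exists_prime_orderOf_dvd_card' (G := ↥M) p hpM
    have hPM : (P : Subgroup G) ≤ M := by
      intro x hx
      by_cases hx1 : x = 1
      · rw [hx1]; exact one_mem _
      apply hS9 x
      refine ⟨m.1, m.2, ?_⟩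
      rw [Subgroup.orderOf_coe, hm]
      exact (orderOf_eq_prime (hexp x hx) hx1).symm
    intro q hq
    rw [Subgroup.mem_subgroupOf]
    exact hPM (hP ⟨q, hq, rfl⟩)

theorem abelian_of_facts
    (M : Subgroup G) [M.Normal]
    (Abar : Subgroup (G ⧸ M)) (hA : IsMulCommutative ↥Abar)
    (N : Subgroup G) (hN : N.map (QuotientGroup.mk' M) = Abar)
    (hmin : ∀ N' : Subgroup G, N'.map (QuotientGroup.mk' M) = Abar → N' ≤ N → N ≤ N')
    (hf : ∀ (p : ℕ) [Fact p.Prime] (Q : Sylow p ↥N), IsMulCommutative ↥(Q : Subgroup ↥N)) :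
    IsMulCommutative ↥N := by
  have hab := quot_comm M Abar hA N hN
  have hmin' := min_transfer M Abar N hN hmin
  have hn : ∀ {p : ℕ} [Fact p.Prime] (P : Sylow p ↥N), (P : Subgroup ↥N).Normal :=
    fun P => sylow_normal_of_min _ hab hmin' P
  let e := Sylow.directProductOfNormal hn
  refine ⟨⟨fun x y => ?_⟩⟩
  obtain ⟨a, rfl⟩ := e.surjective x
  obtain ⟨b, rfl⟩ := e.surjective y
  rw [← map_mul, ← map_mul]
  congr 1
  funext p P
  haveI : Fact (p.1).Prime := ⟨Nat.prime_of_mem_primeFactors p.2⟩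
  have hc := hf p.1 P
  exact hc.is_comm.comm (a p P) (b p P)

theorem card_eq_of_facts (m a : ℕ) (N₁ N₂ : Subgroup G)
    (hf₁ : ∀ (p : ℕ) [Fact p.Prime], (Nat.card ↥N₁).factorization p = hfun m p a)
    (hf₂ : ∀ (p : ℕ) [Fact p.Prime], (Nat.card ↥N₂).factorization p = hfun m p a) :
    Nat.card ↥N₁ = Nat.card ↥N₂ := by
  apply Nat.eq_of_factorization_eq Nat.card_pos.ne' Nat.card_pos.ne'
  intro p
  by_cases hp : p.Prime
  · haveI := Fact.mk hp
    rw [hf₁ p, hf₂ p]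
  · rw [Nat.factorization_eq_zero_of_not_prime _ hp, Nat.factorization_eq_zero_of_not_prime _ hp]

theorem exists_min (M : Subgroup G) [M.Normal] (Abar : Subgroup (G ⧸ M)) :
    ∃ N : Subgroup G, N.map (QuotientGroup.mk' M) = Abar ∧
      ∀ N' : Subgroup G, N'.map (QuotientGroup.mk' M) = Abar → N' ≤ N → N ≤ N' := by
  have hne : {N : Subgroup G | N.map (QuotientGroup.mk' M) = Abar}.Nonempty :=
    ⟨Abar.comap (QuotientGroup.mk' M),
      Subgroup.map_comap_eq_self_of_surjective (QuotientGroup.mk'_surjective M) Abar⟩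
  obtain ⟨N, hN⟩ := (Set.toFinite _).exists_minimal hne
  exact ⟨N, hN.prop, fun N' h1 h2 => hN.le_of_le h1 h2⟩

theorem conj_of_supplements
    (hB : ∀ A B : Subgroup G, IsMulCommutative ↥A → IsMulCommutative ↥B →
      Nat.card ↥A = Nat.card ↥B → ∃ g : G, B = A.map (MulAut.conj g).toMonoidHom)
    (M : Subgroup G) [M.Normal] (A B : Subgroup (G ⧸ M))
    (N₁ N₂ : Subgroup G) (hN₁ : N₁.map (QuotientGroup.mk' M) = A)
    (hN₂ : N₂.map (QuotientGroup.mk' M) = B)
    (hc₁ : IsMulCommutative ↥N₁) (hc₂ : IsMulCommutative ↥N₂)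
    (hcard : Nat.card ↥N₁ = Nat.card ↥N₂) :
    ∃ g : G ⧸ M, B = A.map (MulAut.conj g).toMonoidHom := by
  obtain ⟨g, hg⟩ := hB N₁ N₂ hc₁ hc₂ hcard
  refine ⟨(g : G ⧸ M), ?_⟩
  rw [← hN₂, hg, ← hN₁, Subgroup.map_map, Subgroup.map_map]
  congr 1

/-- Conjugacy in the quotient when the relevant Sylow subgroups of `G` are cyclic or of prime
exponent. -/
theorem conj_of_good
    (hB : ∀ A B : Subgroup G, IsMulCommutative ↥A → IsMulCommutative ↥B →
      Nat.card ↥A = Nat.card ↥B → ∃ g : G, B = A.map (MulAut.conj g).toMonoidHom)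
    (M : Subgroup G) [M.Normal]
    (hS9 : ∀ a : G, (∃ m ∈ M, orderOf m = orderOf a) → a ∈ M)
    (A B : Subgroup (G ⧸ M)) (hA : IsMulCommutative ↥A) (hB' : IsMulCommutative ↥B)
    (hAB : Nat.card ↥A = Nat.card ↥B)
    (hgood : ∀ (p : ℕ) [Fact p.Prime], p ∣ Nat.card ↥M → p ∣ Nat.card ↥A →
      ∀ P : Sylow p G, IsCyclic ↥(P : Subgroup G) ∨ ∀ x ∈ (P : Subgroup G), x ^ p = 1) :
    ∃ g : G ⧸ M, B = A.map (MulAut.conj g).toMonoidHom := by
  obtain ⟨N₁, hN₁, hmin₁⟩ := exists_min M A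
  obtain ⟨N₂, hN₂, hmin₂⟩ := exists_min M B
  have hf₁ : ∀ (p : ℕ) [Fact p.Prime] (Q : Sylow p ↥N₁),
      IsMulCommutative ↥(Q : Subgroup ↥N₁) ∧
      (Nat.card ↥N₁).factorization p = hfun (Nat.card ↥M) p (Nat.card ↥A) := by
    intro p _ Q
    exact sylow_facts_gen M A hA N₁ hN₁ hmin₁ p Q
      (fun hpM hpA hQK => hmain_of_good M hS9 N₁ p Q (hgood p hpM hpA) hpM hQK)
  have hf₂ : ∀ (p : ℕ) [Fact p.Prime] (Q : Sylow p ↥N₂),
      IsMulCommutative ↥(Q : Subgroup ↥N₂) ∧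
      (Nat.card ↥N₂).factorization p = hfun (Nat.card ↥M) p (Nat.card ↥A) := by
    intro p _ Q
    rw [hAB]
    exact sylow_facts_gen M B hB' N₂ hN₂ hmin₂ p Q
      (fun hpM hpA hQK => hmain_of_good M hS9 N₂ p Q (hgood p hpM (hAB ▸ hpA)) hpM hQK)
  have hc₁ := abelian_of_facts M A hA N₁ hN₁ hmin₁ (fun p _ Q => (hf₁ p Q).1)
  have hc₂ := abelian_of_facts M B hB' N₂ hN₂ hmin₂ (fun p _ Q => (hf₂ p Q).1)
  have hcard := card_eq_of_facts (Nat.card ↥M) (Nat.card ↥A) N₁ N₂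
    (fun p _ => by
      obtain ⟨Q⟩ := (inferInstance : Nonempty (Sylow p ↥N₁)); exact (hf₁ p Q).2)
    (fun p _ => by
      obtain ⟨Q⟩ := (inferInstance : Nonempty (Sylow p ↥N₂)); exact (hf₂ p Q).2)
  exact conj_of_supplements hB M A B N₁ N₂ hN₁ hN₂ hc₁ hc₂ hcard

end

section LemmaL
variable {Γ : Type*} [Group Γ] [Finite Γ]

/-- decomposition of a commutative subgroup into its Sylow 2-part and an odd complement -/
theorem decomp (A : Subgroup Γ) (hA : IsMulCommutative ↥A) :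
    ∃ S D : Subgroup Γ, S ≤ A ∧ D ≤ A ∧ Nat.card ↥S = 2 ^ (Nat.card ↥A).factorization 2 ∧
      Nat.card ↥S * Nat.card ↥D = Nat.card ↥A ∧ S ⊔ D = A := by
  haveI : Fact (Nat.Prime 2) := ⟨Nat.prime_two⟩
  obtain ⟨Q⟩ := (inferInstance : Nonempty (Sylow 2 ↥A))
  have hQn : (Q : Subgroup ↥A).Normal := by
    constructor
    intro x hx g
    have : g * x * g⁻¹ = x := by
      rw [hA.is_comm.comm g x, mul_assoc, mul_inv_cancel, mul_one]
    rw [this]; exact hx
  have hcop : Nat.Coprime (Nat.card (Q : Subgroup ↥A)) (Q : Subgroup ↥A).index := by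
    obtain ⟨k, hk⟩ := IsPGroup.iff_card.mp Q.isPGroup'
    rw [hk]
    exact Nat.Coprime.pow_left _
      ((Nat.Prime.coprime_iff_not_dvd Nat.prime_two).mpr Q.not_dvd_index)
  obtain ⟨D', hD'⟩ := Subgroup.exists_right_complement'_of_coprime hcop
  refine ⟨(Q : Subgroup ↥A).map A.subtype, D'.map A.subtype, ?_, ?_, ?_, ?_, ?_⟩
  · exact Subgroup.map_subtype_le _
  · exact Subgroup.map_subtype_le _
  · rw [Subgroup.card_map_of_injective (Subgroup.subtype_injective A)]
    exact Q.card_eq_multiplicity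
  · rw [Subgroup.card_map_of_injective (Subgroup.subtype_injective A),
      Subgroup.card_map_of_injective (Subgroup.subtype_injective A)]
    exact hD'.card_mul_card
  · rw [← Subgroup.map_sup, hD'.sup_eq_top, ← MonoidHom.range_eq_map, Subgroup.range_subtype]

theorem conj_of_sylow_two (A B : Subgroup Γ) (hA : IsMulCommutative ↥A)
    (hB : IsMulCommutative ↥B) (hAB : Nat.card ↥A = Nat.card ↥B)
    (hsyl : (Nat.card ↥A).factorization 2 = (Nat.card Γ).factorization 2)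
    (hodd : ∀ D₁ D₂ : Subgroup Γ, IsMulCommutative ↥D₁ → IsMulCommutative ↥D₂ →
      Nat.card ↥D₁ = Nat.card ↥D₂ → ¬ 2 ∣ Nat.card ↥D₁ →
      ∃ g : Γ, D₂ = D₁.map (MulAut.conj g).toMonoidHom) :
    ∃ g : Γ, B = A.map (MulAut.conj g).toMonoidHom := by
  haveI : Fact (Nat.Prime 2) := ⟨Nat.prime_two⟩
  obtain ⟨S₁, D₁, hS₁A, hD₁A, hS₁c, hSD₁, hsup₁⟩ := decomp A hA
  obtain ⟨S₂, D₂, hS₂B, hD₂B, hS₂c, hSD₂, hsup₂⟩ := decomp B hB
  obtain ⟨a, ha⟩ : ∃ a, a = (Nat.card ↥A).factorization 2 := ⟨_, rfl⟩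
  rw [← ha] at hS₁c hsyl
  rw [← hAB, ← ha] at hS₂c
  have hD : Nat.card ↥D₁ = Nat.card ↥D₂ := by
    have h1 : 2 ^ a * Nat.card ↥D₁ = 2 ^ a * Nat.card ↥D₂ := by
      rw [hS₁c] at hSD₁
      rw [hS₂c] at hSD₂
      rw [hSD₁, hSD₂, hAB]
    exact Nat.eq_of_mul_eq_mul_left (by positivity) h1
  have hDodd : ¬ 2 ∣ Nat.card ↥D₁ := by
    intro h2
    have h3 : 2 ^ (a + 1) ∣ Nat.card ↥A := by
      rw [← hSD₁, hS₁c, pow_succ]; exact Nat.mul_dvd_mul_left _ h2
    have := (Nat.Prime.pow_dvd_iff_le_factorization Nat.prime_two Nat.card_pos.ne').mp h3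
    omega
  have hcD₁ : IsMulCommutative ↥D₁ := ⟨⟨fun x y => Subtype.ext (by
    have := congrArg Subtype.val (hA.is_comm.comm ⟨x.1, hD₁A x.2⟩ ⟨y.1, hD₁A y.2⟩)
    exact this)⟩⟩
  have hcD₂ : IsMulCommutative ↥D₂ := ⟨⟨fun x y => Subtype.ext (by
    have := congrArg Subtype.val (hB.is_comm.comm ⟨x.1, hD₂B x.2⟩ ⟨y.1, hD₂B y.2⟩)
    exact this)⟩⟩
  obtain ⟨g, hg⟩ := hodd D₁ D₂ hcD₁ hcD₂ hD hDodd
  obtain ⟨S', hS'⟩ : ∃ S' : Subgroup Γ, S' = S₁.map (MulAut.conj g).toMonoidHom := ⟨_, rfl⟩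
  have hS'c : Nat.card ↥S' = 2 ^ a := by
    rw [hS', Subgroup.card_map_of_injective (MulAut.conj g).injective, hS₁c]
  obtain ⟨C, hC⟩ : ∃ C : Subgroup Γ, C = Subgroup.centralizer (D₂ : Set Γ) := ⟨_, rfl⟩
  have hS'C : S' ≤ C := by
    rw [hS']
    rintro _ ⟨s, hs, rfl⟩
    rw [hC, Subgroup.mem_centralizer_iff]
    intro d hd
    rw [hg] at hd
    obtain ⟨d', hd', rfl⟩ := hd
    have hcomm : d' * s = s * d' := by
      have := congrArg Subtype.val (hA.is_comm.comm ⟨d', hD₁A hd'⟩ ⟨s, hS₁A hs⟩)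
      exact this
    simp only [MulEquiv.coe_toMonoidHom, MulAut.conj_apply]
    calc g * d' * g⁻¹ * (g * s * g⁻¹) = g * (d' * s) * g⁻¹ := by group
      _ = g * (s * d') * g⁻¹ := by rw [hcomm]
      _ = g * s * g⁻¹ * (g * d' * g⁻¹) := by group
  have hS₂C : S₂ ≤ C := by
    intro s hs
    rw [hC, Subgroup.mem_centralizer_iff]
    intro d hd
    have := congrArg Subtype.val (hB.is_comm.comm ⟨d, hD₂B hd⟩ ⟨s, hS₂B hs⟩)
    exact this
  have hvC : (Nat.card ↥C).factorization 2 = a := by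
    apply le_antisymm
    · rw [hsyl]
      exact (Nat.factorization_le_iff_dvd Nat.card_pos.ne' Nat.card_pos.ne').mpr
        (Subgroup.card_subgroup_dvd_card C) 2
    · have h1 : 2 ^ a ∣ Nat.card ↥C := by
        rw [← hS'c]; exact Subgroup.card_dvd_of_le hS'C
      exact (Nat.Prime.pow_dvd_iff_le_factorization Nat.prime_two Nat.card_pos.ne').mp h1
  have hcardsub : ∀ S : Subgroup Γ, S ≤ C → Nat.card ↥(S.subgroupOf C) = Nat.card ↥S :=
    fun S h => Nat.card_congr (Subgroup.subgroupOfEquivOfLe h).toEquiv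
  let P' : Sylow 2 ↥C := Sylow.ofCard (S'.subgroupOf C) (by rw [hcardsub S' hS'C, hS'c, hvC])
  let Q' : Sylow 2 ↥C := Sylow.ofCard (S₂.subgroupOf C) (by rw [hcardsub S₂ hS₂C, hS₂c, hvC])
  obtain ⟨c, hc⟩ := MulAction.exists_smul_eq ↥C P' Q'
  refine ⟨(c : Γ) * g, ?_⟩
  apply Subgroup.eq_of_le_of_card_ge
  · rw [← hsup₂]
    apply sup_le
    · intro x hx
      have h1 : (⟨x, hS₂C hx⟩ : ↥C) ∈ (Q' : Subgroup ↥C) := by
        rw [Sylow.coe_ofCard, Subgroup.mem_subgroupOf]; exact hx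
      rw [← hc, Sylow.coe_subgroup_smul, Subgroup.mem_pointwise_smul_iff_inv_smul_mem] at h1
      rw [Sylow.coe_ofCard, Subgroup.mem_subgroupOf, hS'] at h1
      obtain ⟨s, hs, hsx⟩ := h1
      refine ⟨s, hS₁A hs, ?_⟩
      have h2 : g * s * g⁻¹ = (c : Γ)⁻¹ * x * c := by
        simpa [MulAut.smul_def] using hsx
      simp only [MulEquiv.coe_toMonoidHom, MulAut.conj_apply]
      calc (c : Γ) * g * s * ((c : Γ) * g)⁻¹ = c * (g * s * g⁻¹) * (c : Γ)⁻¹ := by group
        _ = x := by rw [h2]; group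
    · intro d hd
      have hcd : d * (c : Γ) = c * d := by
        have hcC : (c : Γ) ∈ Subgroup.centralizer (D₂ : Set Γ) := hC ▸ c.2
        exact (Subgroup.mem_centralizer_iff.mp hcC) d hd
      rw [hg] at hd
      obtain ⟨d', hd', rfl⟩ := hd
      refine ⟨d', hD₁A hd', ?_⟩
      simp only [MulEquiv.coe_toMonoidHom, MulAut.conj_apply] at hcd ⊢
      calc (c : Γ) * g * d' * ((c : Γ) * g)⁻¹ = c * (g * d' * g⁻¹) * (c : Γ)⁻¹ := by group
        _ = (g * d' * g⁻¹) * c * (c : Γ)⁻¹ := by rw [hcd]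
        _ = g * d' * g⁻¹ := by group
  · rw [Subgroup.card_map_of_injective (MulAut.conj ((c : Γ) * g)).injective, hAB]

end LemmaL

end Cfsg.Agent.Lib.Helper25.BGroupQuot
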