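import Mathlib
import Cfsg.Agent.Lib.Helper25.OmegaFix

/-!
An automorphism `β` of order prime to `p` of a subgroup `M` of a finite `p`-group `T`, such that
`β` acts on every element of order `p` (or `4` when `p = 2`) of `[M, β]` as some conjugation by
an element of `T`, is trivial.
-/
set_option autoImplicit false

namespace Cfsg.Agent.Lib.Helper25

/-- the exponent `q`: `4` if `p = 2`, otherwise `p` -/
def qExp (p : ℕ) : ℕ := if p = 2 then 4 else p

theorem pow_qExp_iff (p : ℕ) {M : Type*} [Monoid M] (y : M) :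
    y ^ qExp p = 1 ↔ (y ^ p = 1 ∨ (p = 2 ∧ y ^ 4 = 1)) := by
  unfold qExp
  split_ifs with h
  · constructor
    · intro h4
      exact Or.inr ⟨h, h4⟩
    · rintro (h2 | ⟨_, h4⟩)
      · rw [h] at h2
        have : y ^ 4 = (y ^ 2) ^ 2 := by rw [← pow_mul]
        rw [this, h2, one_pow]
      · exact h4
  · constructor
    · intro hp
      exact Or.inl hp
    · rintro (hp | ⟨h2, _⟩)
      · exact hp
      · exact absurd h2 h

theorem pow_choose_qExp {p : ℕ} (hp : p.Prime) {M : Type*} [Monoid M] {z : M} (hz : z ^ p = 1) :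
    z ^ ((qExp p).choose 2) = 1 := by
  unfold qExp
  split_ifs with h
  · have hz2 : z ^ 2 = 1 := by rw [← h]; exact hz
    have : (4 : ℕ).choose 2 = 2 * 3 := by decide
    rw [this, pow_mul, hz2, one_pow]
  · rcases hp.eq_two_or_odd' with h2 | ⟨t, ht⟩
    · exact absurd h2 h
    · have hch : p.choose 2 = p * t := by
        rw [Nat.choose_two_right]
        have : p * (p - 1) = 2 * (p * t) := by
          have : p - 1 = 2 * t := by omega
          rw [this]; ring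
        rw [this, Nat.mul_div_cancel_left _ (by norm_num : 0 < 2)]
      rw [hch, pow_mul, hz, one_pow]

theorem fix_of_conj_small {p : ℕ} [Fact p.Prime] {M T : Type*} [Group M] [Group T] [Finite T]
    (hT : IsPGroup p T) (ι : M →* T) (hι : Function.Injective ι)
    (β : MulAut M) {m : ℕ} (hm : β ^ m = 1) (hcop : m.Coprime p)
    (hconj : ∀ x ∈ Subgroup.closure {d : M | ∃ u : M, d = u⁻¹ * β u},
      (x ^ p = 1 ∨ (p = 2 ∧ x ^ 4 = 1)) → ∃ s : T, ι (β x) = s * ι x * s⁻¹) :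
    ∀ (c : ℕ) (Y : Subgroup M), Nat.card Y = c → (∀ y ∈ Y, β y ∈ Y) → ∀ y ∈ Y, β y = y := by
  have hp : p.Prime := Fact.out
  haveI : Finite M := Finite.of_injective ι hι
  have hM : IsPGroup p M := hT.of_injective ι hι
  intro c
  induction c using Nat.strong_induction_on with
  | _ c ih =>
  intro Y hc hinv
  by_cases hne : Y = ⊥
  · intro y hy
    rw [hne, Subgroup.mem_bot] at hy
    rw [hy, map_one]
  have hY : IsPGroup p Y := hM.to_subgroup Y
  have hsuff : (∀ y ∈ Y, β (y⁻¹ * β y) = y⁻¹ * β y) → ∀ y ∈ Y, β y = y := by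
    intro hfix y hy
    obtain ⟨k, hk⟩ := hM (y⁻¹ * β y)
    have h1 := eq_one_of_fixed_comm β hm hcop (y := y) (n := y⁻¹ * β y) (by group) (hfix y hy) hk
    have h2 : y * (y⁻¹ * β y) = y * 1 := by rw [h1]
    rw [mul_inv_cancel_left, mul_one] at h2
    exact h2
  -- Step 1: `Y₁ = [Y, β]`
  obtain ⟨Y₁, hY₁def⟩ : ∃ Y₁ : Subgroup M, Y₁ = Subgroup.closure {d | ∃ y ∈ Y, d = y⁻¹ * β y} := ⟨_, rfl⟩
  have hY₁Y : Y₁ ≤ Y := by
    rw [hY₁def, Subgroup.closure_le]
    rintro _ ⟨y, hy, rfl⟩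
    exact Y.mul_mem (Y.inv_mem hy) (hinv y hy)
  have hDY₁ : ∀ y ∈ Y, y⁻¹ * β y ∈ Y₁ := fun y hy => hY₁def ▸ Subgroup.subset_closure ⟨y, hy, rfl⟩
  have hY₁inv : ∀ z ∈ Y₁, β z ∈ Y₁ := by
    intro z hz
    have h1 : Y₁ ≤ Y₁.comap β.toMonoidHom := by
      conv_lhs => rw [hY₁def]
      rw [Subgroup.closure_le]
      rintro _ ⟨y, hy, rfl⟩
      have h2 := hDY₁ (β y) (hinv y hy)
      show β (y⁻¹ * β y) ∈ Y₁
      rw [map_mul, map_inv]
      exact h2
    exact h1 hz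
  by_cases hlt : Nat.card Y₁ < Nat.card Y
  · have hY₁fix : ∀ z ∈ Y₁, β z = z := ih (Nat.card Y₁) (hc ▸ hlt) Y₁ rfl hY₁inv
    exact hsuff (fun y hy => hY₁fix _ (hDY₁ y hy))
  have hYeq : Y₁ = Y := Subgroup.eq_of_le_of_card_ge hY₁Y (not_lt.1 hlt)
  have hYX : ∀ y ∈ Y, y ∈ Subgroup.closure {d : M | ∃ u : M, d = u⁻¹ * β u} := by
    intro y hy
    have h1 : Y₁ ≤ Subgroup.closure {d : M | ∃ u : M, d = u⁻¹ * β u} := by
      rw [hY₁def]
      apply Subgroup.closure_mono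
      rintro _ ⟨y, _, rfl⟩
      exact ⟨y, rfl⟩
    exact h1 (hYeq ▸ hy)
  -- Step 2: the Frattini-like subgroup `N` is fixed and central
  obtain ⟨K, hKY, hKlt, hKcomm, hKpow⟩ := exists_proper_frattini_like Y hY hne
  obtain ⟨N, hNdef⟩ : ∃ N : Subgroup M, N = Subgroup.closure (frGens p Y) := ⟨_, rfl⟩
  have hgensN : ∀ z ∈ frGens p Y, z ∈ N := fun z hz => hNdef ▸ Subgroup.subset_closure hz
  have hNK : N ≤ K := by
    rw [hNdef, Subgroup.closure_le]
    rintro z (⟨a, ha, b, hb, rfl⟩ | ⟨a, ha, rfl⟩)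
    · exact hKcomm a ha b hb
    · exact hKpow a ha
  have hNY : N ≤ Y := hNK.trans hKY
  have hNcard : Nat.card N < Nat.card Y := lt_of_le_of_lt (Subgroup.card_le_of_le hNK) hKlt
  have hNinv : ∀ z ∈ N, β z ∈ N := by
    intro z hz
    have h1 : N ≤ N.comap β.toMonoidHom := by
      conv_lhs => rw [hNdef]
      rw [Subgroup.closure_le]
      rintro z (⟨a, ha, b, hb, rfl⟩ | ⟨a, ha, rfl⟩)
      · apply hgensN
        left
        exact ⟨β a, hinv a ha, β b, hinv b hb, by simp⟩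
      · apply hgensN
        right
        exact ⟨β a, hinv a ha, by simp⟩
    exact h1 hz
  have hNfix : ∀ z ∈ N, β z = z := ih (Nat.card N) (hc ▸ hNcard) N rfl hNinv
  have hcommD : ∀ y ∈ Y, ∀ z ∈ N, (y⁻¹ * β y) * z = z * (y⁻¹ * β y) := by
    intro y hy z hz
    have hzY := hNY hz
    have h1 : y * z * y⁻¹ ∈ N := by
      have h2 : y * z * y⁻¹ * z⁻¹ ∈ N := hgensN _ (Or.inl ⟨y, hy, z, hzY, rfl⟩)
      have h3 := N.mul_mem h2 hz
      rwa [inv_mul_cancel_right] at h3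
    have h4 := hNfix _ h1
    rw [map_mul, map_mul, map_inv, hNfix z hz] at h4
    calc y⁻¹ * β y * z = y⁻¹ * (β y * z * (β y)⁻¹) * β y := by group
      _ = y⁻¹ * (y * z * y⁻¹) * β y := by rw [h4]
      _ = z * (y⁻¹ * β y) := by group
  have hcent : ∀ z ∈ N, ∀ y ∈ Y, z * y = y * z := by
    intro z hz y hy
    have h1 : Y₁ ≤ Subgroup.centralizer {z} := by
      rw [hY₁def, Subgroup.closure_le]
      rintro _ ⟨y', hy', rfl⟩
      rw [SetLike.mem_coe, Subgroup.mem_centralizer_iff]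
      intro h hh
      rw [Set.mem_singleton_iff] at hh
      rw [hh]
      exact (hcommD y' hy' z hz).symm
    have h2 := h1 (hYeq ▸ hy)
    rw [Subgroup.mem_centralizer_iff] at h2
    exact h2 z rfl
  -- Step 3: the elements of order dividing `q` form a subgroup `W`
  have hzcN : ∀ a ∈ Y, ∀ b ∈ Y, b⁻¹ * a⁻¹ * b * a ∈ N := by
    intro a ha b hb
    apply hgensN
    left
    refine ⟨b⁻¹, Y.inv_mem hb, a⁻¹, Y.inv_mem ha, ?_⟩
    rw [inv_inv, inv_inv]
  have hzpow : ∀ a ∈ Y, ∀ b ∈ Y, (b⁻¹ * a⁻¹ * b * a) ^ p = 1 := by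
    intro a ha b hb
    obtain ⟨zc, hzcdef⟩ : ∃ zc : M, zc = b⁻¹ * a⁻¹ * b * a := ⟨_, rfl⟩
    have hzcN' : zc ∈ N := hzcdef ▸ hzcN a ha b hb
    rw [← hzcdef]
    have hzcn : Commute zc b := hcent zc hzcN' b hb
    have hnpN : b ^ p ∈ N := hgensN _ (Or.inr ⟨b, hb, rfl⟩)
    have h1 : a⁻¹ * b * a = b * zc := by rw [hzcdef]; group
    have h2 : (a⁻¹ * b * a) ^ p = b ^ p := by
      have h3 : a⁻¹ * b * a = a⁻¹ * b * (a⁻¹)⁻¹ := by rw [inv_inv]
      rw [h3, conj_pow, inv_inv]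
      have h4 := hcent (b ^ p) hnpN a ha
      rw [mul_assoc, h4, inv_mul_cancel_left]
    rw [h1, (hzcn.symm).mul_pow] at h2
    exact mul_left_cancel (a := b ^ p) (by rw [h2, mul_one])
  obtain ⟨q, hqdef⟩ : ∃ q : ℕ, q = qExp p := ⟨_, rfl⟩
  have hmulq : ∀ a ∈ Y, ∀ b ∈ Y, a ^ q = 1 → b ^ q = 1 → (a * b) ^ q = 1 := by
    intro a ha b hb haq hbq
    obtain ⟨zc, hzcdef⟩ : ∃ zc : M, zc = b⁻¹ * a⁻¹ * b * a := ⟨_, rfl⟩
    have hzcN' : zc ∈ N := hzcdef ▸ hzcN a ha b hb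
    have hz1 : b * a = a * b * zc := by rw [hzcdef]; group
    have hza : Commute zc a := hcent zc hzcN' a ha
    have hzb : Commute zc b := hcent zc hzcN' b hb
    have hzp : zc ^ p = 1 := by rw [hzcdef]; exact hzpow a ha b hb
    have hzq : zc ^ (q.choose 2) = 1 := by rw [hqdef]; exact pow_choose_qExp hp hzp
    rw [mul_pow_of_central hz1 hza hzb q, haq, hbq, hzq, mul_one, mul_one]
  obtain ⟨W, hWdef⟩ : ∃ W : Subgroup M, ∀ y, y ∈ W ↔ (y ∈ Y ∧ y ^ q = 1) := by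
    refine ⟨{ carrier := {y | y ∈ Y ∧ y ^ q = 1}
              one_mem' := ⟨Y.one_mem, one_pow q⟩
              mul_mem' := fun {a b} ha hb => ⟨Y.mul_mem ha.1 hb.1, hmulq a ha.1 b hb.1 ha.2 hb.2⟩
              inv_mem' := fun {a} ha => ⟨Y.inv_mem ha.1, by rw [inv_pow, ha.2, inv_one]⟩ },
      fun y => Iff.rfl⟩
  have hWY : W ≤ Y := fun y hy => ((hWdef y).1 hy).1
  have hWinv : ∀ y ∈ W, β y ∈ W := by
    intro y hy
    obtain ⟨h1, h2⟩ := (hWdef y).1 hy
    exact (hWdef _).2 ⟨hinv y h1, by rw [← map_pow, h2, map_one]⟩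
  by_cases hltW : Nat.card W < Nat.card Y
  · have hWfix : ∀ z ∈ W, β z = z := ih (Nat.card W) (hc ▸ hltW) W rfl hWinv
    exact fix_of_fix_small β hm hcop (Nat.card Y) Y rfl inferInstance hY hinv
      (fun y hy hs => hWfix y ((hWdef y).2 ⟨hy, by rw [hqdef]; exact (pow_qExp_iff p y).2 hs⟩))
  have hWeq : W = Y := Subgroup.eq_of_le_of_card_ge hWY (not_lt.1 hltW)
  have hallsmall : ∀ y ∈ Y, (y ^ p = 1 ∨ (p = 2 ∧ y ^ 4 = 1)) := by
    intro y hy
    have h1 : y ∈ W := hWeq ▸ hy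
    have h2 := ((hWdef y).1 h1).2
    rw [hqdef] at h2
    exact (pow_qExp_iff p y).1 h2
  -- Step 4: filter by the upper central series of `T`
  have hconjY : ∀ y ∈ Y, ∃ s : T, ι (β y) = s * ι y * s⁻¹ :=
    fun y hy => hconj y (hYX y hy) (hallsmall y hy)
  have hucs : ∀ i : ℕ, ∀ y ∈ Y, ι y ∈ Subgroup.upperCentralSeries T i → β y = y := by
    intro i
    induction i with
    | zero =>
      intro y hy hyi
      rw [Subgroup.upperCentralSeries_zero, Subgroup.mem_bot] at hyi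
      have : y = 1 := hι (by rw [hyi, map_one])
      rw [this, map_one]
    | succ i ihi =>
      intro y hy hyi
      obtain ⟨s, hs⟩ := hconjY y hy
      have hnY : y⁻¹ * β y ∈ Y := Y.mul_mem (Y.inv_mem hy) (hinv y hy)
      have hni : ι (y⁻¹ * β y) ∈ Subgroup.upperCentralSeries T i := by
        have h1 := (Subgroup.mem_upperCentralSeries_succ_iff).1
          ((Subgroup.upperCentralSeries T (i + 1)).inv_mem hyi) s
        rw [commutatorElement_def] at h1
        rw [map_mul, map_inv, hs]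
        have e : (ι y)⁻¹ * (s * ι y * s⁻¹) = (ι y)⁻¹ * s * (ι y)⁻¹⁻¹ * s⁻¹ := by group
        rw [e]
        exact h1
      have hfixn := ihi _ hnY hni
      obtain ⟨k, hk⟩ := hM (y⁻¹ * β y)
      have h1 := eq_one_of_fixed_comm β hm hcop (y := y) (n := y⁻¹ * β y) (by group) hfixn hk
      have h2 : y * (y⁻¹ * β y) = y * 1 := by rw [h1]
      rw [mul_inv_cancel_left, mul_one] at h2
      exact h2
  haveI : Group.IsNilpotent T := hT.isNilpotent
  obtain ⟨k, hk⟩ := Group.IsNilpotent.nilpotent T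
  intro y hy
  exact hucs k y hy (by rw [hk]; exact Subgroup.mem_top _)

end Cfsg.Agent.Lib.Helper25
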