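import Mathlib
import Cfsg.Agent.Lib.Helper25.ConjSmallFix

/-!
Let `H` act on a subgroup `M` of a finite `p`-group `T`, let `R ≤ H` act by conjugations of `T`, and
suppose that the action of `H` on the elements of order `p` (or `4`) of an `H`-invariant subgroup `V`
preserves the upper central series of `T`.  Then the elements of order prime to `p` of the normal
closure of `R` in `H` centralize `V`.
-/
set_option autoImplicit false

namespace Cfsg.Agent.Lib.Helper25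

theorem fix_of_chain {p : ℕ} [Fact p.Prime] {M T H : Type*} [Group M] [Group T] [Group H] [Finite T]
    (hT : IsPGroup p T) (ι : M →* T) (hι : Function.Injective ι) (act : H →* MulAut M)
    (R : Subgroup H) (hR : ∀ ρ ∈ R, ∃ s : T, ∀ x : M, ι (act ρ x) = s * ι x * s⁻¹)
    (V : Subgroup M)
    (hchar : ∀ γ : H, ∀ x ∈ V, (x ^ p = 1 ∨ (p = 2 ∧ x ^ 4 = 1)) → ∀ i : ℕ,
       ι x ∈ Subgroup.upperCentralSeries T i → ι (act γ x) ∈ Subgroup.upperCentralSeries T i) :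
    ∀ (c : ℕ) (Y : Subgroup M), Nat.card Y = c → Y ≤ V → (∀ γ : H, ∀ y ∈ Y, act γ y ∈ Y) →
      ∀ β ∈ Subgroup.normalClosure (R : Set H), ∀ m : ℕ, m.Coprime p → β ^ m = 1 →
        ∀ y ∈ Y, act β y = y := by
  have hp : p.Prime := Fact.out
  haveI : Finite M := Finite.of_injective ι hι
  have hM : IsPGroup p M := hT.of_injective ι hι
  intro c
  induction c using Nat.strong_induction_on with
  | _ c ih =>
  intro Y hc hYV hinv
  by_cases hne : Y = ⊥
  · intro β _ m _ _ y hy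
    rw [hne, Subgroup.mem_bot] at hy
    rw [hy, map_one]
  have hY : IsPGroup p Y := hM.to_subgroup Y
  obtain ⟨PP, hPPdef⟩ : ∃ PP : Set H, PP = {β | β ∈ Subgroup.normalClosure (R : Set H) ∧
      ∃ m : ℕ, m.Coprime p ∧ β ^ m = 1} := ⟨_, rfl⟩
  have hPPconj : ∀ γ : H, ∀ β ∈ PP, γ * β * γ⁻¹ ∈ PP := by
    intro γ β hβ
    rw [hPPdef] at hβ ⊢
    obtain ⟨h1, m, hm, hβm⟩ := hβ
    refine ⟨Subgroup.normalClosure_normal.conj_mem β h1 γ, m, hm, ?_⟩
    rw [conj_pow, hβm, mul_one, mul_inv_cancel]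
  have hactpow : ∀ β : H, ∀ m : ℕ, β ^ m = 1 → (act β) ^ m = 1 := by
    intro β m h
    rw [← map_pow, h, map_one]
  have hsuff : ∀ β ∈ PP, (∀ y ∈ Y, act β (y⁻¹ * act β y) = y⁻¹ * act β y) →
      ∀ y ∈ Y, act β y = y := by
    intro β hβ hfix y hy
    rw [hPPdef] at hβ
    obtain ⟨_, m, hm, hβm⟩ := hβ
    obtain ⟨k, hk⟩ := hM (y⁻¹ * act β y)
    have h1 := eq_one_of_fixed_comm (act β) (hactpow β m hβm) hm (y := y) (n := y⁻¹ * act β y)
      (by group) (hfix y hy) hk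
    have h2 : y * (y⁻¹ * act β y) = y * 1 := by rw [h1]
    rw [mul_inv_cancel_left, mul_one] at h2
    exact h2
  suffices hmain : ∀ β ∈ PP, ∀ y ∈ Y, act β y = y by
    intro β hβ m hm hβm y hy
    exact hmain β (hPPdef ▸ ⟨hβ, m, hm, hβm⟩) y hy
  have ih' : ∀ Y' : Subgroup M, Nat.card Y' < Nat.card Y → Y' ≤ Y →
      (∀ γ : H, ∀ y ∈ Y', act γ y ∈ Y') → ∀ β ∈ PP, ∀ y ∈ Y', act β y = y := by
    intro Y' hlt hle hinv' β hβ y hy
    rw [hPPdef] at hβ
    obtain ⟨h1, m, hm, hβm⟩ := hβ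
    exact ih (Nat.card Y') (hc ▸ hlt) Y' rfl (hle.trans hYV) hinv' β h1 m hm hβm y hy
  -- Step 1: `Y₁ = [Y, PP]`
  obtain ⟨Y₁, hY₁def⟩ : ∃ Y₁ : Subgroup M,
      Y₁ = Subgroup.closure {d | ∃ y ∈ Y, ∃ β ∈ PP, d = y⁻¹ * act β y} := ⟨_, rfl⟩
  have hY₁Y : Y₁ ≤ Y := by
    rw [hY₁def, Subgroup.closure_le]
    rintro _ ⟨y, hy, β, _, rfl⟩
    exact Y.mul_mem (Y.inv_mem hy) (hinv β y hy)
  have hDY₁ : ∀ y ∈ Y, ∀ β ∈ PP, y⁻¹ * act β y ∈ Y₁ :=
    fun y hy β hβ => hY₁def ▸ Subgroup.subset_closure ⟨y, hy, β, hβ, rfl⟩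
  have hY₁inv : ∀ γ : H, ∀ z ∈ Y₁, act γ z ∈ Y₁ := by
    intro γ z hz
    have h1 : Y₁ ≤ Y₁.comap (act γ).toMonoidHom := by
      conv_lhs => rw [hY₁def]
      rw [Subgroup.closure_le]
      rintro _ ⟨y, hy, β, hβ, rfl⟩
      have h2 := hDY₁ (act γ y) (hinv γ y hy) (γ * β * γ⁻¹) (hPPconj γ β hβ)
      show act γ (y⁻¹ * act β y) ∈ Y₁
      have e : act γ (y⁻¹ * act β y) = (act γ y)⁻¹ * act (γ * β * γ⁻¹) (act γ y) := by
        simp [MulAut.mul_apply]
      rw [e]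
      exact h2
    exact h1 hz
  by_cases hlt : Nat.card Y₁ < Nat.card Y
  · intro β hβ
    apply hsuff β hβ
    intro y hy
    exact ih' Y₁ hlt hY₁Y hY₁inv β hβ _ (hDY₁ y hy β hβ)
  have hYeq : Y₁ = Y := Subgroup.eq_of_le_of_card_ge hY₁Y (not_lt.1 hlt)
  -- Step 2: the Frattini-like subgroup `N` is fixed and central
  obtain ⟨K, hKY, hKlt, hKcomm, hKpow⟩ := exists_proper_frattini_like Y hY hne
  obtain ⟨N, hNdef⟩ : ∃ N : Subgroup M, N = Subgroup.closure (frGens p Y) := ⟨_, rfl⟩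
  have hgensN : ∀ z ∈ frGens p Y, z ∈ N := fun z hz => hNdef ▸ Subgroup.subset_closure hz
  have hNK : N ≤ K := by
    rw [hNdef, Subgroup.closure_le]
    rintro z (⟨a, ha, b, hb, rfl⟩ | ⟨a, ha, rfl⟩)
    · exact hKcomm a ha b hb
    · exact hKpow a ha
  have hNY : N ≤ Y := hNK.trans hKY
  have hNcard : Nat.card N < Nat.card Y := lt_of_le_of_lt (Subgroup.card_le_of_le hNK) hKlt
  have hNinv : ∀ γ : H, ∀ z ∈ N, act γ z ∈ N := by
    intro γ z hz
    have h1 : N ≤ N.comap (act γ).toMonoidHom := by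
      conv_lhs => rw [hNdef]
      rw [Subgroup.closure_le]
      rintro z (⟨a, ha, b, hb, rfl⟩ | ⟨a, ha, rfl⟩)
      · apply hgensN
        left
        exact ⟨act γ a, hinv γ a ha, act γ b, hinv γ b hb, by simp⟩
      · apply hgensN
        right
        exact ⟨act γ a, hinv γ a ha, by simp⟩
    exact h1 hz
  have hNfix : ∀ β ∈ PP, ∀ z ∈ N, act β z = z := ih' N hNcard hNY hNinv
  have hcommD : ∀ β ∈ PP, ∀ y ∈ Y, ∀ z ∈ N, (y⁻¹ * act β y) * z = z * (y⁻¹ * act β y) := by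
    intro β hβ y hy z hz
    have hzY := hNY hz
    have h1 : y * z * y⁻¹ ∈ N := by
      have h2 : y * z * y⁻¹ * z⁻¹ ∈ N := hgensN _ (Or.inl ⟨y, hy, z, hzY, rfl⟩)
      have h3 := N.mul_mem h2 hz
      rwa [inv_mul_cancel_right] at h3
    have h4 := hNfix β hβ _ h1
    rw [map_mul, map_mul, map_inv, hNfix β hβ z hz] at h4
    calc y⁻¹ * act β y * z = y⁻¹ * (act β y * z * (act β y)⁻¹) * act β y := by group
      _ = y⁻¹ * (y * z * y⁻¹) * act β y := by rw [h4]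
      _ = z * (y⁻¹ * act β y) := by group
  have hcent : ∀ z ∈ N, ∀ y ∈ Y, z * y = y * z := by
    intro z hz y hy
    have h1 : Y₁ ≤ Subgroup.centralizer {z} := by
      rw [hY₁def, Subgroup.closure_le]
      rintro _ ⟨y', hy', β, hβ, rfl⟩
      rw [SetLike.mem_coe, Subgroup.mem_centralizer_iff]
      intro h hh
      rw [Set.mem_singleton_iff] at hh
      rw [hh]
      exact (hcommD β hβ y' hy' z hz).symm
    have h2 := h1 (hYeq ▸ hy)
    rw [Subgroup.mem_centralizer_iff] at h2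
    exact h2 z rfl
  -- Step 3: the elements of order dividing `q` form a subgroup `W`
  have hzcN : ∀ a ∈ Y, ∀ b ∈ Y, b⁻¹ * a⁻¹ * b * a ∈ N := by
    intro a ha b hb
    apply hgensN
    left
    refine ⟨b⁻¹, Y.inv_mem hb, a⁻¹, Y.inv_mem ha, ?_⟩
    rw [inv_inv, inv_inv]
  have hzpow : ∀ a ∈ Y, ∀ b ∈ Y, (b⁻¹ * a⁻¹ * b * a) ^ p = 1 := by
    intro a ha b hb
    obtain ⟨zc, hzcdef⟩ : ∃ zc : M, zc = b⁻¹ * a⁻¹ * b * a := ⟨_, rfl⟩
    have hzcN' : zc ∈ N := hzcdef ▸ hzcN a ha b hb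
    rw [← hzcdef]
    have hzcn : Commute zc b := hcent zc hzcN' b hb
    have hnpN : b ^ p ∈ N := hgensN _ (Or.inr ⟨b, hb, rfl⟩)
    have h1 : a⁻¹ * b * a = b * zc := by rw [hzcdef]; group
    have h2 : (a⁻¹ * b * a) ^ p = b ^ p := by
      have h3 : a⁻¹ * b * a = a⁻¹ * b * (a⁻¹)⁻¹ := by rw [inv_inv]
      rw [h3, conj_pow, inv_inv]
      have h4 := hcent (b ^ p) hnpN a ha
      rw [mul_assoc, h4, inv_mul_cancel_left]
    rw [h1, (hzcn.symm).mul_pow] at h2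
    exact mul_left_cancel (a := b ^ p) (by rw [h2, mul_one])
  obtain ⟨q, hqdef⟩ : ∃ q : ℕ, q = qExp p := ⟨_, rfl⟩
  have hmulq : ∀ a ∈ Y, ∀ b ∈ Y, a ^ q = 1 → b ^ q = 1 → (a * b) ^ q = 1 := by
    intro a ha b hb haq hbq
    obtain ⟨zc, hzcdef⟩ : ∃ zc : M, zc = b⁻¹ * a⁻¹ * b * a := ⟨_, rfl⟩
    have hzcN' : zc ∈ N := hzcdef ▸ hzcN a ha b hb
    have hz1 : b * a = a * b * zc := by rw [hzcdef]; group
    have hza : Commute zc a := hcent zc hzcN' a ha
    have hzb : Commute zc b := hcent zc hzcN' b hb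
    have hzp : zc ^ p = 1 := by rw [hzcdef]; exact hzpow a ha b hb
    have hzq : zc ^ (q.choose 2) = 1 := by rw [hqdef]; exact pow_choose_qExp hp hzp
    rw [mul_pow_of_central hz1 hza hzb q, haq, hbq, hzq, mul_one, mul_one]
  obtain ⟨W, hWdef⟩ : ∃ W : Subgroup M, ∀ y, y ∈ W ↔ (y ∈ Y ∧ y ^ q = 1) := by
    refine ⟨{ carrier := {y | y ∈ Y ∧ y ^ q = 1}
              one_mem' := ⟨Y.one_mem, one_pow q⟩
              mul_mem' := fun {a b} ha hb => ⟨Y.mul_mem ha.1 hb.1, hmulq a ha.1 b hb.1 ha.2 hb.2⟩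
              inv_mem' := fun {a} ha => ⟨Y.inv_mem ha.1, by rw [inv_pow, ha.2, inv_one]⟩ },
      fun y => Iff.rfl⟩
  have hWY : W ≤ Y := fun y hy => ((hWdef y).1 hy).1
  have hWinv : ∀ γ : H, ∀ y ∈ W, act γ y ∈ W := by
    intro γ y hy
    obtain ⟨h1, h2⟩ := (hWdef y).1 hy
    exact (hWdef _).2 ⟨hinv γ y h1, by rw [← map_pow, h2, map_one]⟩
  by_cases hltW : Nat.card W < Nat.card Y
  · have hWfix : ∀ β ∈ PP, ∀ z ∈ W, act β z = z := ih' W hltW hWY hWinv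
    intro β hβ
    have hβ' := hβ
    rw [hPPdef] at hβ'
    obtain ⟨_, m, hm, hβm⟩ := hβ'
    exact fix_of_fix_small (act β) (hactpow β m hβm) hm (Nat.card Y) Y rfl inferInstance hY (hinv β)
      (fun y hy hs => hWfix β hβ y ((hWdef y).2 ⟨hy, by rw [hqdef]; exact (pow_qExp_iff p y).2 hs⟩))
  have hWeq : W = Y := Subgroup.eq_of_le_of_card_ge hWY (not_lt.1 hltW)
  have hallsmall : ∀ y ∈ Y, (y ^ p = 1 ∨ (p = 2 ∧ y ^ 4 = 1)) := by
    intro y hy
    have h1 : y ∈ W := hWeq ▸ hy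
    have h2 := ((hWdef y).1 h1).2
    rw [hqdef] at h2
    exact (pow_qExp_iff p y).1 h2
  -- Step 4: the stabilizer of the chain `Y ∩ Z_i(T)`
  have hcharY : ∀ γ : H, ∀ y ∈ Y, ∀ i : ℕ, ι y ∈ Subgroup.upperCentralSeries T i →
      ι (act γ y) ∈ Subgroup.upperCentralSeries T i :=
    fun γ y hy i hi => hchar γ y (hYV hy) (hallsmall y hy) i hi
  obtain ⟨NY, hNYdef⟩ : ∃ NY : Subgroup H, ∀ γ, γ ∈ NY ↔ ∀ i : ℕ, ∀ y ∈ Y,
      ι y ∈ Subgroup.upperCentralSeries T (i + 1) →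
        ι (y⁻¹ * act γ y) ∈ Subgroup.upperCentralSeries T i := by
    refine ⟨{ carrier := {γ | ∀ i : ℕ, ∀ y ∈ Y, ι y ∈ Subgroup.upperCentralSeries T (i + 1) →
                ι (y⁻¹ * act γ y) ∈ Subgroup.upperCentralSeries T i}
              one_mem' := ?_
              mul_mem' := ?_
              inv_mem' := ?_ }, fun γ => Iff.rfl⟩
    · intro γ δ hγ hδ i y hy hyi
      have hy' : act δ y ∈ Y := hinv δ y hy
      have hyi' := hcharY δ y hy (i + 1) hyi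
      have h1 := hδ i y hy hyi
      have h2 := hγ i (act δ y) hy' hyi'
      have e : y⁻¹ * act (γ * δ) y = (y⁻¹ * act δ y) * ((act δ y)⁻¹ * act γ (act δ y)) := by
        rw [map_mul, MulAut.mul_apply]
        group
      rw [e, map_mul]
      exact Subgroup.mul_mem _ h1 h2
    · intro i y hy _
      show ι (y⁻¹ * act 1 y) ∈ Subgroup.upperCentralSeries T i
      rw [map_one, MulAut.one_apply, inv_mul_cancel, map_one]
      exact Subgroup.one_mem _
    · intro γ hγ i y hy hyi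
      have hy' : act γ⁻¹ y ∈ Y := hinv γ⁻¹ y hy
      have hyi' := hcharY γ⁻¹ y hy (i + 1) hyi
      have h2 := hγ i (act γ⁻¹ y) hy' hyi'
      have e1 : act γ (act γ⁻¹ y) = y := by
        rw [map_inv]
        exact MulAut.apply_inv_self _ _ _
      rw [e1] at h2
      have e : y⁻¹ * act γ⁻¹ y = ((act γ⁻¹ y)⁻¹ * y)⁻¹ := by group
      rw [e, map_inv]
      exact Subgroup.inv_mem _ h2
  have hNYnormal : NY.Normal := ⟨by
    intro γ hγ α
    rw [hNYdef] at hγ ⊢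
    intro i y hy hyi
    have hy' : act α⁻¹ y ∈ Y := hinv α⁻¹ y hy
    have hyi' := hcharY α⁻¹ y hy (i + 1) hyi
    have h2 := hγ i (act α⁻¹ y) hy' hyi'
    have hzY : (act α⁻¹ y)⁻¹ * act γ (act α⁻¹ y) ∈ Y := Y.mul_mem (Y.inv_mem hy') (hinv γ _ hy')
    have h3 := hcharY α _ hzY i h2
    have e : y⁻¹ * act (α * γ * α⁻¹) y = act α ((act α⁻¹ y)⁻¹ * act γ (act α⁻¹ y)) := by
      simp [MulAut.mul_apply]
    rw [e]
    exact h3⟩
  have hRNY : (R : Set H) ⊆ NY := by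
    intro ρ hρ
    rw [SetLike.mem_coe, hNYdef]
    intro i y hy hyi
    obtain ⟨s, hs⟩ := hR ρ hρ
    have h1 := (Subgroup.mem_upperCentralSeries_succ_iff).1
      ((Subgroup.upperCentralSeries T (i + 1)).inv_mem hyi) s
    rw [commutatorElement_def] at h1
    rw [map_mul, map_inv, hs]
    have e : (ι y)⁻¹ * (s * ι y * s⁻¹) = (ι y)⁻¹ * s * (ι y)⁻¹⁻¹ * s⁻¹ := by group
    rw [e]
    exact h1
  haveI := hNYnormal
  have hKNY : Subgroup.normalClosure (R : Set H) ≤ NY := Subgroup.normalClosure_le_normal hRNY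
  intro β hβ
  have hβ' := hβ
  rw [hPPdef] at hβ'
  obtain ⟨hβK, m, hm, hβm⟩ := hβ'
  have hβNY := (hNYdef β).1 (hKNY hβK)
  have hucs : ∀ i : ℕ, ∀ y ∈ Y, ι y ∈ Subgroup.upperCentralSeries T i → act β y = y := by
    intro i
    induction i with
    | zero =>
      intro y hy hyi
      rw [Subgroup.upperCentralSeries_zero, Subgroup.mem_bot] at hyi
      have : y = 1 := hι (by rw [hyi, map_one])
      rw [this, map_one]
    | succ i ihi =>
      intro y hy hyi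
      have hnY : y⁻¹ * act β y ∈ Y := Y.mul_mem (Y.inv_mem hy) (hinv β y hy)
      have hni := hβNY i y hy hyi
      have hfixn := ihi _ hnY hni
      obtain ⟨k, hk⟩ := hM (y⁻¹ * act β y)
      have h1 := eq_one_of_fixed_comm (act β) (hactpow β m hβm) hm (y := y) (n := y⁻¹ * act β y)
        (by group) hfixn hk
      have h2 : y * (y⁻¹ * act β y) = y * 1 := by rw [h1]
      rw [mul_inv_cancel_left, mul_one] at h2
      exact h2
  haveI : Group.IsNilpotent T := hT.isNilpotent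
  obtain ⟨k, hk⟩ := Group.IsNilpotent.nilpotent T
  intro y hy
  exact hucs k y hy (by rw [hk]; exact Subgroup.mem_top _)

end Cfsg.Agent.Lib.Helper25
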