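import Cfsg.Agent.Lib.Helper29.FusionInnerSat
import Mathlib

/-!
Saturated fusion systems over a finite abelian `p`-group `S`:
every map of the system is the restriction of an `F`-automorphism of `S`, the group `Aut_F(S)`
has order prime to `p`, and the coprime decomposition `S = C_S(A) × [S, A]`.
-/

set_option autoImplicit false
open Cfsg

namespace Cfsg.Agent.Lib.Helper25

open Cfsg.Agent.Lib.Helper29

section Coprime

/-- fixed points of a group of automorphisms -/
def fixedSub {M : Type*} [Group M] (A : Subgroup (MulAut M)) : Subgroup M where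
  carrier := {s | ∀ α ∈ A, α s = s}
  one_mem' := fun α _ => map_one α
  mul_mem' := by
    intro a b ha hb α hα
    rw [map_mul, ha α hα, hb α hα]
  inv_mem' := by
    intro a ha α hα
    rw [map_inv, ha α hα]

/-- the commutator `[M, A]` of a group with a group of automorphisms -/
def commSub {M : Type*} [Group M] (A : Subgroup (MulAut M)) : Subgroup M :=
  Subgroup.closure {y | ∃ α ∈ A, ∃ s : M, y = s⁻¹ * α s}

theorem mem_fixedSub {M : Type*} [Group M] {A : Subgroup (MulAut M)} {s : M} :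
    s ∈ fixedSub A ↔ ∀ α ∈ A, α s = s := Iff.rfl

theorem gen_mem_commSub {M : Type*} [Group M] {A : Subgroup (MulAut M)} {α : MulAut M} (hα : α ∈ A)
    (s : M) : s⁻¹ * α s ∈ commSub A :=
  Subgroup.subset_closure ⟨α, hα, s, rfl⟩

/-- `[M, A]` is `A`-invariant -/
theorem map_mem_commSub {M : Type*} [Group M] {A : Subgroup (MulAut M)} {α : MulAut M} (hα : α ∈ A)
    {s : M} (hs : s ∈ commSub A) : α s ∈ commSub A := by
  have : α s = s * (s⁻¹ * α s) := by group
  rw [this]
  exact (commSub A).mul_mem hs (gen_mem_commSub hα s)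

/-- coprime action on a finite abelian group: `M = C_M(A) × [M, A]` -/
theorem coprime_decomp {M : Type*} [CommGroup M] [Finite M] (A : Subgroup (MulAut M))
    (hcop : (Nat.card M).Coprime (Nat.card A)) :
    fixedSub A ⊓ commSub A = ⊥ ∧ fixedSub A ⊔ commSub A = ⊤ := by
  classical
  haveI := Fintype.ofFinite A
  let N : M →* M :=
    { toFun := fun s => ∏ α : A, (α : MulAut M) s
      map_one' := by simp
      map_mul' := by intro a b; simp [Finset.prod_mul_distrib] }
  have hN : ∀ s, N s = ∏ α : A, (α : MulAut M) s := fun s => rfl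
  have ha : ∀ s, N s ∈ fixedSub A := by
    intro s β hβ
    rw [hN, map_prod]
    exact Fintype.prod_equiv (Equiv.mulLeft (⟨β, hβ⟩ : A)) _ _ (fun α => rfl)
  have hb : ∀ s ∈ fixedSub A, N s = s ^ Nat.card A := by
    intro s hs
    rw [hN, Nat.card_eq_fintype_card, ← Finset.card_univ, ← Finset.prod_const]
    exact Finset.prod_congr rfl (fun α _ => hs α.1 α.2)
  have hc : ∀ y ∈ commSub A, N y = 1 := by
    intro y hy
    have hle : commSub A ≤ N.ker := by
      unfold commSub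
      rw [Subgroup.closure_le]
      rintro y ⟨α, hα, s, rfl⟩
      rw [SetLike.mem_coe, MonoidHom.mem_ker, map_mul, map_inv, inv_mul_eq_one, hN, hN]
      exact (Fintype.prod_equiv (Equiv.mulRight (⟨α, hα⟩ : A))
        (fun β : A => (β : MulAut M) (α s)) (fun γ : A => (γ : MulAut M) s) (fun β => rfl)).symm
    exact hle hy
  have hd : ∀ s, s ^ Nat.card A * (N s)⁻¹ ∈ commSub A := by
    intro s
    have h1 : s ^ Nat.card A * (N s)⁻¹ = ∏ α : A, (s * ((α : MulAut M) s)⁻¹) := by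
      rw [Finset.prod_mul_distrib, Finset.prod_inv_distrib, Finset.prod_const, Finset.card_univ,
        ← Nat.card_eq_fintype_card, hN]
    rw [h1]
    refine Subgroup.prod_mem _ (fun α _ => ?_)
    have h2 : s * ((α : MulAut M) s)⁻¹ = (s⁻¹ * (α : MulAut M) s)⁻¹ := by
      rw [mul_inv_rev, inv_inv, mul_comm]
    rw [h2]
    exact (commSub A).inv_mem (gen_mem_commSub α.2 s)
  constructor
  · rw [eq_bot_iff]
    rintro s ⟨hs1, hs2⟩
    rw [Subgroup.mem_bot]
    have h1 : s ^ Nat.card A = 1 := by rw [← hb s hs1, hc s hs2]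
    have h2 : orderOf s ∣ Nat.card A := orderOf_dvd_of_pow_eq_one h1
    have h3 : orderOf s ∣ Nat.card M := orderOf_dvd_natCard s
    have h4 : orderOf s ∣ 1 := by
      have := Nat.dvd_gcd h3 h2
      rwa [Nat.Coprime.gcd_eq_one hcop] at this
    exact orderOf_eq_one_iff.mp (Nat.dvd_one.mp h4)
  · rw [eq_top_iff]
    intro s _
    obtain ⟨t, ht⟩ := (Nat.Coprime.pow_left_bijective hcop).2 s
    have ht' : t ^ Nat.card A = s := ht
    have h1 : N t * (t ^ Nat.card A * (N t)⁻¹) = t ^ Nat.card A := by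
      rw [mul_comm (t ^ Nat.card A), mul_inv_cancel_left]
    rw [← ht', ← h1]
    exact Subgroup.mul_mem_sup (ha t) (hd t)

/-- the same with commutativity as a hypothesis -/
theorem coprime_decomp' {M : Type*} [Group M] [Finite M] (hcomm : ∀ a b : M, a * b = b * a)
    (A : Subgroup (MulAut M)) (hcop : (Nat.card M).Coprime (Nat.card A)) :
    fixedSub A ⊓ commSub A = ⊥ ∧ fixedSub A ⊔ commSub A = ⊤ := by
  letI : CommGroup M := { (inferInstance : Group M) with mul_comm := hcomm }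
  exact coprime_decomp A hcop

/-- in a commutative group, an element of `C ⊔ D` is a product -/
theorem mem_sup_comm {M : Type*} [Group M] (hcomm : ∀ a b : M, a * b = b * a) {C D : Subgroup M}
    {x : M} (hx : x ∈ C ⊔ D) : ∃ c ∈ C, ∃ d ∈ D, c * d = x := by
  letI : CommGroup M := { (inferInstance : Group M) with mul_comm := hcomm }
  exact Subgroup.mem_sup.mp hx

end Coprime

section Fusion

variable {Ω : Type*} [Group Ω] {S : Subgroup Ω}

theorem extender_eq_of_abelian (hab : ∀ x ∈ S, ∀ y ∈ S, x * y = y * x) {P : Subgroup Ω} (hP : P ≤ S)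
    (φ : P →* Ω) : FusionSystem.extender S P φ = S := by
  apply le_antisymm (extender_le P φ)
  refine le_trans ?_ (centralizerIn_le_extender P φ)
  intro s hs
  refine ⟨hs, ?_⟩
  show s ∈ Subgroup.centralizer (P : Set Ω)
  rw [Subgroup.mem_centralizer_iff]
  intro x hx
  exact hab x (hP hx) s hs

/-- over an abelian `S`, every map of a saturated system is the restriction of an
`F`-automorphism of `S` -/
theorem exists_aut_ext [Finite S] {p : ℕ} (F : FusionSystem S) (hF : F.IsSaturated p)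
    (hab : ∀ x ∈ S, ∀ y ∈ S, x * y = y * x) {P : Subgroup Ω} {φ : P →* Ω} (hφ : φ ∈ F.Hom P) :
    ∃ α ∈ F.autGroup S, ∀ (x : P) (hx : (x : Ω) ∈ S), ((α ⟨x, hx⟩ : S) : Ω) = φ x := by
  have hPS : P ≤ S := le_of_hom_mem F hφ
  have hRS : φ.range ≤ S := range_le_of_hom_mem F hφ
  obtain ⟨Q, ⟨χ, hχ, hχr⟩, -, hQrec⟩ := hF φ.range hRS
  have h1 : ∀ x : P, φ x ∈ φ.range := fun x => ⟨x, rfl⟩
  have hθ : χ.comp (φ.codRestrict φ.range h1) ∈ F.Hom P := F.comp_mem hφ hχ h1
  set θ := χ.comp (φ.codRestrict φ.range h1) with hθdef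
  have hθr : θ.range = Q := by
    rw [← hχr]
    ext y
    constructor
    · rintro ⟨x, rfl⟩
      exact ⟨_, rfl⟩
    · rintro ⟨⟨_, x, rfl⟩, rfl⟩
      exact ⟨x, rfl⟩
  obtain ⟨ψ₁, hψ₁, hext₁⟩ := hQrec.2 P θ hθ hθr
  obtain ⟨ψ₂, hψ₂, hext₂⟩ := hQrec.2 φ.range χ hχ hχr
  have hE₁ : S ≤ FusionSystem.extender S P θ := (extender_eq_of_abelian hab hPS θ).ge
  have hE₂ : S ≤ FusionSystem.extender S φ.range χ := (extender_eq_of_abelian hab hRS χ).ge
  have hψ₁' := restrict_mem F hE₁ hψ₁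
  have hψ₂' := restrict_mem F hE₂ hψ₂
  obtain ⟨α₁, hα₁, hα₁'⟩ := exists_aut_of_hom F hψ₁' (fun x => (F.le_of_mem hψ₁').2 x)
  obtain ⟨α₂, hα₂, hα₂'⟩ := exists_aut_of_hom F hψ₂' (fun x => (F.le_of_mem hψ₂').2 x)
  refine ⟨α₂⁻¹ * α₁, (F.autGroup S).mul_mem ((F.autGroup S).inv_mem hα₂) hα₁, ?_⟩
  intro x hx
  have e1 : ((α₁ ⟨x, hx⟩ : S) : Ω) = θ x := by
    rw [hα₁']
    exact hext₁ x.1 x.2 _
  have e2 : ((α₂ ⟨φ x, hRS (h1 x)⟩ : S) : Ω) = θ x := by
    rw [hα₂']
    exact hext₂ (φ x) (h1 x) _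
  have e3 : α₁ ⟨x, hx⟩ = α₂ ⟨φ x, hRS (h1 x)⟩ := Subtype.ext (e1.trans e2.symm)
  show (((α₂⁻¹ * α₁) ⟨x, hx⟩ : S) : Ω) = φ x
  rw [MulAut.mul_apply, e3, MulAut.inv_apply_self]

/-- over an abelian `S`, `Aut_F(S)` has order prime to `p` -/
theorem autGroup_top_coprime [Finite S] {p : ℕ} [Fact p.Prime] (F : FusionSystem S)
    (hF : F.IsSaturated p) (hab : ∀ x ∈ S, ∀ y ∈ S, x * y = y * x) :
    (Nat.card (F.autGroup S)).Coprime p := by
  obtain ⟨Q, hconj, ⟨hQS, R, hR⟩, -⟩ := hF S le_rfl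
  have hQ : Q = S := Subgroup.eq_of_le_of_card_ge hQS (card_eq_of_isConj F hconj).le
  subst hQ
  have hbot : autInducedBy Q Q = ⊥ := by
    unfold autInducedBy
    rw [Subgroup.closure_eq_bot_iff]
    rintro α ⟨g, hg, h⟩
    rw [Set.mem_singleton_iff]
    apply MulEquiv.ext
    intro x
    apply Subtype.ext
    rw [h x, hab g hg x x.2]
    simp
  rw [hbot, Subgroup.bot_subgroupOf] at hR
  have h1 : Nat.card (R : Subgroup (F.autGroup Q)) = 1 := by
    rw [hR]; exact Subgroup.card_bot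
  have h2 := Sylow.card_eq_multiplicity R
  rw [h1] at h2
  have hp : p.Prime := Fact.out
  have h3 : (Nat.card (F.autGroup Q)).factorization p = 0 := by
    by_contra hne
    have : 1 < p ^ (Nat.card (F.autGroup Q)).factorization p :=
      Nat.one_lt_pow hne hp.one_lt
    omega
  rw [Nat.factorization_eq_zero_iff] at h3
  rcases h3 with h3 | h3 | h3
  · exact absurd hp h3
  · exact ((Nat.Prime.coprime_iff_not_dvd hp).mpr h3).symm
  · exact absurd h3 Nat.card_pos.ne'

/-- over an abelian `p`-group `S`, `|Aut_F(S)|` is prime to `|S|` -/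
theorem card_coprime [Finite S] {p : ℕ} [Fact p.Prime] (hS : IsPGroup p S) (F : FusionSystem S)
    (hF : F.IsSaturated p) (hab : ∀ x ∈ S, ∀ y ∈ S, x * y = y * x) :
    (Nat.card S).Coprime (Nat.card (F.autGroup S)) := by
  obtain ⟨n, hn⟩ := IsPGroup.iff_card.mp hS
  rw [hn]
  exact (Nat.Coprime.pow_right n (autGroup_top_coprime F hF hab)).symm

theorem comm_of_hab (hab : ∀ x ∈ S, ∀ y ∈ S, x * y = y * x) (a b : S) : a * b = b * a :=
  Subtype.ext (hab a a.2 b b.2)

/-- the decomposition `S = C_S(A) × [S, A]` for `A = Aut_F(S)` -/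
theorem fusion_decomp [Finite S] {p : ℕ} [Fact p.Prime] (hS : IsPGroup p S) (F : FusionSystem S)
    (hF : F.IsSaturated p) (hab : ∀ x ∈ S, ∀ y ∈ S, x * y = y * x) :
    fixedSub (F.autGroup S) ⊓ commSub (F.autGroup S) = ⊥ ∧
      fixedSub (F.autGroup S) ⊔ commSub (F.autGroup S) = ⊤ :=
  coprime_decomp' (comm_of_hab hab) _ (card_coprime hS F hF hab)

/-- every `F`-map is an inclusion as soon as `Aut_F(S)` fixes `S` pointwise -/
theorem hom_eq_inner_of_fixed [Finite S] {p : ℕ} (F : FusionSystem S) (hF : F.IsSaturated p)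
    (hab : ∀ x ∈ S, ∀ y ∈ S, x * y = y * x) (hfix : fixedSub (F.autGroup S) = ⊤) (P : Subgroup Ω) :
    F.Hom P = (innerFusionSystem S).Hom P := by
  ext φ
  constructor
  · intro hφ
    have hPS : P ≤ S := le_of_hom_mem F hφ
    obtain ⟨α, hα, hαφ⟩ := exists_aut_ext F hF hab hφ
    refine ⟨hPS, 1, S.one_mem, fun x => ?_⟩
    have h1 : (⟨x, hPS x.2⟩ : S) ∈ fixedSub (F.autGroup S) := by rw [hfix]; trivial
    rw [← hαφ x (hPS x.2), h1 α hα]
    simp
  · rintro ⟨hPS, g, hg, h⟩
    have h1 : φ = conjHom P g := by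
      ext x
      exact h x
    rw [h1]
    exact F.conj_mem hPS hg

end Fusion

end Cfsg.Agent.Lib.Helper25
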