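import Cfsg.Agent.Lib.Helper25.ZStarA

/-!
Goldschmidt's lemma on strongly closed 2-subgroups (helper25), abstract form, from the
Z*-property.
-/

set_option autoImplicit false
open Cfsg
open scoped Pointwise

namespace Cfsg.Agent.Lib.Helper25.ZStar

open Cfsg.Agent.Lib.Helper18 Cfsg.Agent.Lib.Helper20

universe u

/-- fusion of `A` in `X = H A`, `A ∩ H = 1`, is controlled by `A` -/
theorem gold_fusion {X : Type u} [Group X] (H A : Subgroup X) [hHn : H.Normal]
    (hsup : H ⊔ A = ⊤) (hdisj : A ⊓ H = ⊥) (x : X) (hx : x ∈ A) (k : X)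
    (hk : k * x * k⁻¹ ∈ A) : ∃ a' ∈ A, k * x * k⁻¹ = a' * x * a'⁻¹ := by
  have hkmem : k ∈ ((H ⊔ A : Subgroup X) : Set X) := by rw [hsup]; trivial
  rw [Subgroup.normal_mul] at hkmem
  obtain ⟨h, hh, a', ha', rfl⟩ := Set.mem_mul.mp hkmem
  refine ⟨a', ha', ?_⟩
  have hb : a' * x * a'⁻¹ ∈ A := A.mul_mem (A.mul_mem ha' hx) (A.inv_mem ha')
  have h1 : (h * a') * x * (h * a')⁻¹ * (a' * x * a'⁻¹)⁻¹ ∈ A ⊓ H := by
    refine Subgroup.mem_inf.mpr ⟨A.mul_mem hk (A.inv_mem hb), ?_⟩
    have e : (h * a') * x * (h * a')⁻¹ * (a' * x * a'⁻¹)⁻¹ =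
        h * ((a' * x * a'⁻¹) * h⁻¹ * (a' * x * a'⁻¹)⁻¹) := by group
    rw [e]
    exact H.mul_mem hh (hHn.conj_mem _ (H.inv_mem hh) _)
  rw [hdisj, Subgroup.mem_bot] at h1
  exact mul_inv_eq_one.mp h1

theorem gold_aux (hZ : ∀ (X : Type u) [Group X] [Finite X], ZProp X) (n : ℕ) :
    ∀ (X : Type u) [Group X] [Finite X], Nat.card X = n →
    ∀ (H A : Subgroup X), H.Normal → IsPGroup 2 A → H ⊔ A = ⊤ → A ⊓ H = ⊥ →
    (∀ N : Subgroup X, N ≤ H → (∀ h ∈ H, ∀ x ∈ N, h * x * h⁻¹ ∈ N) → Odd (Nat.card N) →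
      N = ⊥) →
    (∀ x ∈ A, ∀ k : X, ∀ P : Subgroup X, IsPGroup 2 P → A ≤ P → k * x * k⁻¹ ∈ P →
      k * x * k⁻¹ ∈ A) →
    ∀ a ∈ A, ∀ h ∈ H, a * h = h * a := by
  induction n using Nat.strong_induction_on with
  | _ n ih =>
    intro X _ _ hn H A hHn hA hsup hdisj hodd hSC
    haveI := hHn
    haveI : Fact (Nat.Prime 2) := ⟨Nat.prime_two⟩
    by_cases hAbot : A = ⊥
    · intro a ha h _
      rw [hAbot, Subgroup.mem_bot] at ha
      rw [ha, one_mul, mul_one]
    -- an involution in the centre of A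
    haveI : Nontrivial ↥A := (Subgroup.nontrivial_iff_ne_bot A).mpr hAbot
    haveI := hA.center_nontrivial
    have h2 : 2 ∣ Nat.card (Subgroup.center ↥A) := by
      obtain ⟨k, hk⟩ := IsPGroup.iff_card.mp (hA.to_subgroup (Subgroup.center _))
      have hk0 : k ≠ 0 := by
        rintro rfl
        rw [pow_zero] at hk
        have := (Nat.card_eq_one_iff_unique.mp hk).1
        exact not_subsingleton _ this
      rw [hk]; exact dvd_pow_self 2 hk0
    obtain ⟨y, hy⟩ := exists_prime_orderOf_dvd_card' 2 h2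
    obtain ⟨a, ha⟩ : ∃ a : X, a = ((y : ↥A) : X) := ⟨_, rfl⟩
    have haA : a ∈ A := by rw [ha]; exact (y : ↥A).2
    have ha2 : orderOf a = 2 := by
      rw [ha, Subgroup.orderOf_coe, Subgroup.orderOf_coe]; exact hy
    have haa : a * a = 1 := mul_self_of_orderOf_two ha2
    have hainv : a⁻¹ = a := inv_eq_self_of_mul_self haa
    have hacA : ∀ b ∈ A, b * a = a * b := by
      intro b hb
      have := Subgroup.mem_center_iff.mp y.2 ⟨b, hb⟩
      have h3 := congrArg Subtype.val this
      rw [ha]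
      simpa using h3
    -- a is isolated
    have hiso : IsIsolatedInvolution a := by
      refine ⟨ha2, ?_⟩
      intro k hc
      -- Sylow theory in the centralizer of a
      obtain ⟨C, hC⟩ : ∃ C : Subgroup X, C = Subgroup.centralizer ({a} : Set X) := ⟨_, rfl⟩
      have hAC : A ≤ C := by
        intro b hb
        rw [hC, Subgroup.mem_centralizer_singleton_iff]
        exact hacA b hb
      have hbC : k * a * k⁻¹ ∈ C := by
        rw [hC, Subgroup.mem_centralizer_singleton_iff]
        exact hc.eq.symm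
      have hA' : IsPGroup 2 (A.subgroupOf C) :=
        show IsPGroup 2 (A.comap C.subtype) from
          hA.comap_of_injective C.subtype (Subgroup.subtype_injective C)
      obtain ⟨T₁, hT₁⟩ := hA'.exists_le_sylow
      have hB : IsPGroup 2 (Subgroup.zpowers (⟨k * a * k⁻¹, hbC⟩ : ↥C)) := by
        apply IsPGroup.of_card (n := 1)
        have h3 := MulEquiv.orderOf_eq (MulAut.conj k) a
        rw [MulAut.conj_apply] at h3
        rw [Nat.card_zpowers, Subgroup.orderOf_mk, h3, ha2, pow_one]
      obtain ⟨Q, hQ⟩ := hB.exists_le_sylow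
      obtain ⟨c, hcQ⟩ := MulAction.exists_smul_eq ↥C Q T₁
      have hmem : ∀ z : ↥C, z ∈ (Q : Subgroup ↥C) → c * z * c⁻¹ ∈ T₁ := by
        intro z hz
        have h1 : MulAut.conj c • z ∈ MulAut.conj c • (Q : Subgroup ↥C) :=
          Subgroup.smul_mem_pointwise_smul z _ _ hz
        rw [← Sylow.pointwise_smul_def, ← Sylow.smul_def, hcQ] at h1
        simp only [MulAut.smul_def, MulAut.conj_apply] at h1
        exact h1
      have h4 := hmem _ (hQ (Subgroup.mem_zpowers _))
      -- P := image of T₁ in X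
      have hP : IsPGroup 2 ((T₁ : Subgroup ↥C).map C.subtype) := T₁.isPGroup'.map _
      have hAP : A ≤ (T₁ : Subgroup ↥C).map C.subtype := by
        intro b hb
        exact ⟨⟨b, hAC hb⟩, hT₁ (show (⟨b, hAC hb⟩ : ↥C) ∈ A.subgroupOf C from hb), rfl⟩
      have h5 : ((c : X) * k) * a * ((c : X) * k)⁻¹ ∈ (T₁ : Subgroup ↥C).map C.subtype := by
        refine ⟨_, h4, ?_⟩
        simp only [Subgroup.coe_subtype, Subgroup.coe_mul, Subgroup.coe_inv]
        group
      have h6 := hSC a haA _ _ hP hAP h5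
      obtain ⟨a', ha', h7⟩ := gold_fusion H A hsup hdisj a haA _ h6
      have h8 : a' * a * a'⁻¹ = a := by
        rw [hacA a' ha']; group
      rw [h8] at h7
      -- c commutes with a
      have hca : (c : X) * a = a * (c : X) := by
        have h9 : (c : X) ∈ Subgroup.centralizer ({a} : Set X) := hC.le c.2
        exact Subgroup.mem_centralizer_singleton_iff.mp h9
      calc k * a * k⁻¹ = (c : X)⁻¹ * (((c : X) * k) * a * ((c : X) * k)⁻¹) * (c : X) := by group
        _ = (c : X)⁻¹ * a * (c : X) := by rw [h7]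
        _ = (c : X)⁻¹ * (a * (c : X)) := by group
        _ = (c : X)⁻¹ * ((c : X) * a) := by rw [hca]
        _ = a := by group
    -- a centralizes H
    have haH : ∀ h ∈ H, a * h = h * a := by
      intro h hh
      have h1 := hZ X a hiso h
      have h2 : a * h * a⁻¹ * h⁻¹ ∈ H := H.mul_mem (hHn.conj_mem h hh a) (H.inv_mem hh)
      have h3 : pPrimeCore 2 X ⊓ H = ⊥ := by
        apply hodd _ inf_le_right
        · intro h' hh' x hx
          have hx' := Subgroup.mem_inf.mp hx
          exact Subgroup.mem_inf.mpr ⟨(inferInstance : (pPrimeCore 2 X).Normal).conj_mem x hx'.1 h',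
            hHn.conj_mem x hx'.2 h'⟩
        · have h4 : Nat.card (pPrimeCore 2 X ⊓ H : Subgroup X) ∣ Nat.card (pPrimeCore 2 X) :=
            Subgroup.card_dvd_of_le inf_le_left
          have h5 : Odd (Nat.card (pPrimeCore 2 X)) :=
            Nat.coprime_two_right.mp (pPrimeCore_coprime' 2)
          exact Odd.of_dvd_nat h5 h4
      have h4 : a * h * a⁻¹ * h⁻¹ ∈ pPrimeCore 2 X ⊓ H := Subgroup.mem_inf.mpr ⟨h1, h2⟩
      rw [h3, Subgroup.mem_bot] at h4
      exact comm_of_commutator_eq_one h4
    -- a is central in X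
    have hacen : a ∈ Subgroup.center X := by
      have hle : (H ⊔ A : Subgroup X) ≤ Subgroup.centralizer ({a} : Set X) := by
        rw [sup_le_iff]
        constructor
        · intro h hh
          rw [Subgroup.mem_centralizer_singleton_iff]
          exact (haH h hh).symm
        · intro b hb
          rw [Subgroup.mem_centralizer_singleton_iff]
          exact hacA b hb
      rw [hsup] at hle
      rw [Subgroup.mem_center_iff]
      intro g
      exact Subgroup.mem_centralizer_singleton_iff.mp (hle (Subgroup.mem_top g))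
    -- the quotient
    obtain ⟨Z, hZdef⟩ : ∃ Z : Subgroup X, Z = Subgroup.zpowers a := ⟨_, rfl⟩
    haveI hZn : Z.Normal := by
      rw [hZdef]; exact normal_of_le_center' _ (Subgroup.zpowers_le.mpr hacen)
    have hZA : Z ≤ A := by rw [hZdef]; exact Subgroup.zpowers_le.mpr haA
    have hZne : Z ≠ ⊥ := by
      intro h
      rw [hZdef] at h
      have : a = 1 := Subgroup.zpowers_eq_bot.mp h
      rw [this, orderOf_one] at ha2
      omega
    have hZ2 : IsPGroup 2 Z := hA.to_le hZA
    have hcardlt : Nat.card (X ⧸ Z) < n := by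
      rw [← hn]
      have h1 := Subgroup.card_eq_card_quotient_mul_card_subgroup Z
      have h4 : Nat.card Z ≠ 1 := fun h => hZne (Subgroup.card_eq_one.mp h)
      have h5 : 0 < Nat.card Z := Nat.card_pos
      have h3 : 0 < Nat.card (X ⧸ Z) := Nat.card_pos
      rw [h1]
      have h6 : 2 ≤ Nat.card Z := by omega
      nlinarith
    have hπs : Function.Surjective (QuotientGroup.mk' Z) := QuotientGroup.mk'_surjective Z
    have hker : ∀ x : X, (QuotientGroup.mk' Z) x = 1 → x ∈ Z := by
      intro x hx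
      rwa [QuotientGroup.mk'_apply, QuotientGroup.eq_one_iff] at hx
    have key := ih (Nat.card (X ⧸ Z)) hcardlt (X ⧸ Z) rfl (H.map (QuotientGroup.mk' Z))
      (A.map (QuotientGroup.mk' Z)) (hHn.map _ hπs) (hA.map _)
      (by rw [← Subgroup.map_sup, hsup, ← MonoidHom.range_eq_map,
            MonoidHom.range_eq_top.mpr hπs])
      (by
        rw [eq_bot_iff]
        rintro w ⟨⟨a', ha', rfl⟩, ⟨h, hh, hw⟩⟩
        rw [Subgroup.mem_bot]
        have h1 : (QuotientGroup.mk' Z) (a'⁻¹ * h) = 1 := by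
          rw [map_mul, map_inv, hw, inv_mul_cancel]
        have h2 : a'⁻¹ * h ∈ A := hZA (hker _ h1)
        have h3 : h ∈ A := by
          have := A.mul_mem ha' h2
          rwa [mul_inv_cancel_left] at this
        have h4 : h ∈ A ⊓ H := Subgroup.mem_inf.mpr ⟨h3, hh⟩
        rw [hdisj, Subgroup.mem_bot] at h4
        rw [← hw, h4, map_one])
      (by
        intro Nb hNbH hNbn hNbodd
        -- the preimage in H
        have hN0 : (Nb.comap (QuotientGroup.mk' Z) ⊓ H : Subgroup X) = ⊥ := by
          apply hodd _ inf_le_right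
          · intro h hh x hx
            have hx' := Subgroup.mem_inf.mp hx
            refine Subgroup.mem_inf.mpr ⟨?_, hHn.conj_mem x hx'.2 h⟩
            rw [Subgroup.mem_comap, map_mul, map_mul, map_inv]
            exact hNbn _ ⟨h, hh, rfl⟩ _ hx'.1
          · by_contra hnodd
            rw [Nat.not_odd_iff_even] at hnodd
            have h2' : 2 ∣ Nat.card (Nb.comap (QuotientGroup.mk' Z) ⊓ H : Subgroup X) :=
              even_iff_two_dvd.mp hnodd
            obtain ⟨x, hx⟩ := exists_prime_orderOf_dvd_card' 2 h2'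
            have hx2 : ((x : X)) ^ 2 = 1 := by
              have := pow_orderOf_eq_one x
              rw [hx] at this
              have h3 := congrArg Subtype.val this
              simpa using h3
            have hxN : (QuotientGroup.mk' Z) (x : X) ∈ Nb := (Subgroup.mem_inf.mp x.2).1
            have h3 : orderOf (⟨(QuotientGroup.mk' Z) (x : X), hxN⟩ : Nb) ∣ 2 := by
              apply orderOf_dvd_of_pow_eq_one
              apply Subtype.ext
              simp only [Subgroup.coe_pow, Subgroup.coe_one]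
              rw [← map_pow, hx2, map_one]
            have h4 : orderOf (⟨(QuotientGroup.mk' Z) (x : X), hxN⟩ : Nb) ∣ Nat.card Nb :=
              orderOf_dvd_natCard _
            have h5 : orderOf (⟨(QuotientGroup.mk' Z) (x : X), hxN⟩ : Nb) = 1 :=
              Nat.eq_one_of_dvd_coprimes (Nat.coprime_two_left.mpr hNbodd) h3 h4
            have h6 : (⟨(QuotientGroup.mk' Z) (x : X), hxN⟩ : Nb) = 1 := orderOf_eq_one_iff.mp h5
            have h7 : (QuotientGroup.mk' Z) (x : X) = 1 := congrArg Subtype.val h6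
            have h8 : (x : X) ∈ A ⊓ H := Subgroup.mem_inf.mpr ⟨hZA (hker _ h7), (Subgroup.mem_inf.mp x.2).2⟩
            rw [hdisj, Subgroup.mem_bot] at h8
            have h9 : x = 1 := Subtype.ext h8
            rw [h9, orderOf_one] at hx
            omega
        rw [eq_bot_iff]
        intro w hw
        obtain ⟨h, hh, rfl⟩ := hNbH hw
        have h1 : h ∈ (Nb.comap (QuotientGroup.mk' Z) ⊓ H : Subgroup X) := Subgroup.mem_inf.mpr ⟨hw, hh⟩
        rw [hN0, Subgroup.mem_bot] at h1
        rw [Subgroup.mem_bot, h1, map_one])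
      (by
        rintro w ⟨x, hx, rfl⟩ kb Pb hPb hAPb hmemPb
        obtain ⟨k, rfl⟩ := hπs kb
        have hP : IsPGroup 2 (Pb.comap (QuotientGroup.mk' Z)) := by
          apply hPb.comap_of_ker_isPGroup
          rw [QuotientGroup.ker_mk']
          exact hZ2
        have hAP : A ≤ Pb.comap (QuotientGroup.mk' Z) := by
          intro b hb
          exact hAPb ⟨b, hb, rfl⟩
        have h1 : k * x * k⁻¹ ∈ Pb.comap (QuotientGroup.mk' Z) := by
          rw [Subgroup.mem_comap, map_mul, map_mul, map_inv]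
          exact hmemPb
        have h2 := hSC x hx k _ hP hAP h1
        refine ⟨k * x * k⁻¹, h2, ?_⟩
        rw [map_mul, map_mul, map_inv])
    intro a' ha' h hh
    have h1 := key _ ⟨a', ha', rfl⟩ _ ⟨h, hh, rfl⟩
    have h2 : (QuotientGroup.mk' Z) (a' * h * a'⁻¹ * h⁻¹) = 1 := by
      rw [map_mul, map_mul, map_mul, map_inv, map_inv, h1]
      group
    have h3 : a' * h * a'⁻¹ * h⁻¹ ∈ A ⊓ H :=
      Subgroup.mem_inf.mpr ⟨hZA (hker _ h2), H.mul_mem (hHn.conj_mem h hh a') (H.inv_mem hh)⟩
    rw [hdisj, Subgroup.mem_bot] at h3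
    exact comm_of_commutator_eq_one h3

end Cfsg.Agent.Lib.Helper25.ZStar
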