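import Cfsg.Agent.Lib.Helper25.GoldA
import Cfsg.Prelude.Def_TwoFusion
import Cfsg.Prelude.Def_CaseTheorems

/-!
Goldschmidt's lemma on strongly closed 2-subgroups (S1251) from the Z*-property (helper25).
-/

set_option autoImplicit false
open Cfsg
open scoped Pointwise

namespace Cfsg.Agent.Lib.Helper25.ZStar

open Cfsg.Agent.Lib.Helper18 Cfsg.Agent.Lib.Helper20

universe u

theorem s1251_of_zprop (hZ : ∀ (X : Type u) [Group X] [Finite X], ZProp X)
    {G : Type u} [Group G] [Finite G] (S : Sylow 2 G) (A : Subgroup G)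
    (hA : IsStronglyClosed A (S : Subgroup G)) (H : Subgroup G)
    (hAH : A ≤ Subgroup.normalizer (H : Set G)) (hO : oddCore ↥H = ⊥) (hdisj : A ⊓ H = ⊥) :
    A ≤ Subgroup.centralizer (H : Set G) := by
  haveI : Fact (Nat.Prime 2) := ⟨Nat.prime_two⟩
  obtain ⟨X, hX⟩ : ∃ X : Subgroup G, X = H ⊔ A := ⟨_, rfl⟩
  have hHX : H ≤ X := by rw [hX]; exact le_sup_left
  have hAX : A ≤ X := by rw [hX]; exact le_sup_right
  have hA2 : IsPGroup 2 A := S.isPGroup'.to_le hA.1
  have hH'n : (H.subgroupOf X).Normal := by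
    rw [Subgroup.normal_subgroupOf_iff_le_normalizer hHX, hX, sup_le_iff]
    exact ⟨Subgroup.le_normalizer, hAH⟩
  have hA'2 : IsPGroup 2 (A.subgroupOf X) :=
    show IsPGroup 2 (A.comap X.subtype) from
      hA2.comap_of_injective X.subtype (Subgroup.subtype_injective X)
  have hsup' : H.subgroupOf X ⊔ A.subgroupOf X = ⊤ := by
    rw [← Subgroup.subgroupOf_sup hHX hAX, ← hX, Subgroup.subgroupOf_self]
  have hdisj' : A.subgroupOf X ⊓ H.subgroupOf X = ⊥ := by
    rw [eq_bot_iff]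
    intro x hx
    have hx' := Subgroup.mem_inf.mp hx
    have h1 : (x : G) ∈ A ⊓ H :=
      Subgroup.mem_inf.mpr ⟨Subgroup.mem_subgroupOf.mp hx'.1, Subgroup.mem_subgroupOf.mp hx'.2⟩
    rw [hdisj, Subgroup.mem_bot] at h1
    rw [Subgroup.mem_bot]
    exact Subtype.ext h1
  have hodd' : ∀ N' : Subgroup ↥X, N' ≤ H.subgroupOf X →
      (∀ h ∈ H.subgroupOf X, ∀ x ∈ N', h * x * h⁻¹ ∈ N') → Odd (Nat.card N') → N' = ⊥ := by
    intro N' hN'H hN'n hN'odd
    have hle : N'.map X.subtype ≤ H := by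
      rintro y ⟨x, hx, rfl⟩
      exact Subgroup.mem_subgroupOf.mp (hN'H hx)
    have hNn : ((N'.map X.subtype).subgroupOf H).Normal := by
      constructor
      intro n hn h
      rw [Subgroup.mem_subgroupOf] at hn ⊢
      obtain ⟨x, hx, hxn⟩ := hn
      have hh' : (⟨(h : G), hHX h.2⟩ : ↥X) ∈ H.subgroupOf X := Subgroup.mem_subgroupOf.mpr h.2
      refine ⟨_, hN'n _ hh' x hx, ?_⟩
      simp only [Subgroup.coe_subtype, Subgroup.coe_mul, Subgroup.coe_inv] at hxn ⊢
      rw [hxn]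
    have hcard : Nat.card ((N'.map X.subtype).subgroupOf H) = Nat.card N' := by
      rw [Nat.card_congr (Subgroup.subgroupOfEquivOfLe hle).toEquiv,
        Subgroup.card_map_of_injective X.subtype_injective]
    have hcop : (Nat.card ((N'.map X.subtype).subgroupOf H)).Coprime 2 := by
      rw [hcard]; exact Nat.coprime_two_right.mpr hN'odd
    have h1 := le_pPrimeCore' hNn hcop
    have hO' : pPrimeCore 2 ↥H = ⊥ := hO
    rw [hO'] at h1
    rw [eq_bot_iff]
    intro x hx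
    have hxH : (x : G) ∈ H := Subgroup.mem_subgroupOf.mp (hN'H hx)
    have h2 : (⟨(x : G), hxH⟩ : ↥H) ∈ (N'.map X.subtype).subgroupOf H := by
      rw [Subgroup.mem_subgroupOf]
      exact ⟨x, hx, rfl⟩
    have h3 := h1 h2
    rw [Subgroup.mem_bot] at h3 ⊢
    have h4 : (x : G) = 1 := congrArg Subtype.val h3
    exact Subtype.ext h4
  have hSC' : ∀ x ∈ A.subgroupOf X, ∀ k : ↥X, ∀ P' : Subgroup ↥X, IsPGroup 2 P' →
      A.subgroupOf X ≤ P' → k * x * k⁻¹ ∈ P' → k * x * k⁻¹ ∈ A.subgroupOf X := by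
    intro x hx k P' hP' hAP' hmem
    have hxA : (x : G) ∈ A := Subgroup.mem_subgroupOf.mp hx
    have hP : IsPGroup 2 (P'.map X.subtype) := hP'.map _
    obtain ⟨Q, hQ⟩ := hP.exists_le_sylow
    obtain ⟨g, hg⟩ := MulAction.exists_smul_eq G Q S
    have hmemS : ∀ y : G, y ∈ (Q : Subgroup G) → g * y * g⁻¹ ∈ S := by
      intro y hy
      have h1 : MulAut.conj g • y ∈ MulAut.conj g • (Q : Subgroup G) :=
        Subgroup.smul_mem_pointwise_smul y _ _ hy
      rw [← Sylow.pointwise_smul_def, ← Sylow.smul_def, hg] at h1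
      simp only [MulAut.smul_def, MulAut.conj_apply] at h1
      exact h1
    have hAP : A ≤ P'.map X.subtype := by
      intro y hy
      exact ⟨⟨y, hAX hy⟩, hAP' (Subgroup.mem_subgroupOf.mpr hy), rfl⟩
    -- conjugation by g maps A onto A
    have hgA : ∀ y ∈ A, g * y * g⁻¹ ∈ A := fun y hy => hA.2 y hy g (hmemS y (hQ (hAP hy)))
    let φ : ↥A → ↥A := fun y => ⟨g * (y : G) * g⁻¹, hgA y y.2⟩
    have hφi : Function.Injective φ := by
      intro y z hyz
      have h1 : g * (y : G) * g⁻¹ = g * (z : G) * g⁻¹ := congrArg Subtype.val hyz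
      apply Subtype.ext
      have h2 : (y : G) = g⁻¹ * (g * (y : G) * g⁻¹) * g := by group
      rw [h2, h1]; group
    have hφs : Function.Surjective φ := Finite.injective_iff_surjective.mp hφi
    -- the conjugate
    have hw : ((k * x * k⁻¹ : ↥X) : G) ∈ P'.map X.subtype := ⟨_, hmem, rfl⟩
    have hwS := hmemS _ (hQ hw)
    have e1 : g * ((k * x * k⁻¹ : ↥X) : G) * g⁻¹ = (g * (k : G)) * (x : G) * (g * (k : G))⁻¹ := by
      simp only [Subgroup.coe_mul, Subgroup.coe_inv]; group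
    rw [e1] at hwS
    have h2 := hA.2 (x : G) hxA _ hwS
    obtain ⟨y, hy⟩ := hφs ⟨_, h2⟩
    have h3 : g * (y : G) * g⁻¹ = (g * (k : G)) * (x : G) * (g * (k : G))⁻¹ :=
      congrArg Subtype.val hy
    rw [Subgroup.mem_subgroupOf]
    have h4 : ((k * x * k⁻¹ : ↥X) : G) = (y : G) := by
      have h5 : ((k * x * k⁻¹ : ↥X) : G) = g⁻¹ * ((g * (k : G)) * (x : G) * (g * (k : G))⁻¹) * g := by
        simp only [Subgroup.coe_mul, Subgroup.coe_inv]; group
      rw [h5, ← h3]; group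
    rw [h4]; exact y.2
  have key := gold_aux hZ (Nat.card ↥X) ↥X rfl (H.subgroupOf X) (A.subgroupOf X) hH'n hA'2
    hsup' hdisj' hodd' hSC'
  intro a ha
  rw [Subgroup.mem_centralizer_iff]
  intro h hh
  have h1 := key ⟨a, hAX ha⟩ (Subgroup.mem_subgroupOf.mpr ha) ⟨h, hHX hh⟩
    (Subgroup.mem_subgroupOf.mpr hh)
  have h2 : a * h = h * a := congrArg Subtype.val h1
  exact h2.symm

end Cfsg.Agent.Lib.Helper25.ZStar
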