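import Cfsg.Agent.Lib.Helper25.ZStarA
import Cfsg.Agent.Lib.Helper28.DefZeroClassC
import Cfsg.Agent.Lib.Helper24.ClassCount

/-!
M. Hall's theorem from the Z*-property (helper25): a group generated by a conjugation-invariant
set `D` of involutions, any two of which have a product of order dividing 3 and no two different
ones commuting, is `O_3(G)⟨d⟩`.
-/

set_option autoImplicit false
open Cfsg

namespace Cfsg.Agent.Lib.Helper25.ZStar

open Cfsg.Agent.Lib.Helper18 Cfsg.Agent.Lib.Helper20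

universe u

/-- a conjugation-invariant generating set of involutions of width 1 with products of order 3 -/
structure W1 {G : Type u} [Group G] (D : Set G) : Prop where
  ord : ∀ d ∈ D, orderOf d = 2
  conj : ∀ g : G, ∀ d ∈ D, g * d * g⁻¹ ∈ D
  gen : Subgroup.closure D = ⊤
  cube : ∀ d ∈ D, ∀ e ∈ D, (d * e) ^ 3 = 1
  w1 : ∀ d ∈ D, ∀ e ∈ D, Commute d e → d = e

theorem W1.conj_eq {G : Type u} [Group G] {D : Set G} (h : W1 D) {d e : G} (hd : d ∈ D)
    (he : e ∈ D) : (d * e) * d * (d * e)⁻¹ = e := by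
  have dinv : d⁻¹ = d := inv_eq_self_of_mul_self (mul_self_of_orderOf_two (h.ord d hd))
  have einv : e⁻¹ = e := inv_eq_self_of_mul_self (mul_self_of_orderOf_two (h.ord e he))
  have h3 := h.cube d hd e he
  calc (d * e) * d * (d * e)⁻¹ = (d * e) * d * (e⁻¹ * d⁻¹) := by rw [mul_inv_rev]
    _ = (d * e) * d * (e * d) := by rw [einv, dinv]
    _ = (d * e) ^ 3 * e⁻¹ := by rw [pow_three]; group
    _ = e := by rw [h3, one_mul, einv]

theorem W1.isolated {G : Type u} [Group G] {D : Set G} (h : W1 D) {d : G} (hd : d ∈ D) :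
    IsIsolatedInvolution d :=
  ⟨h.ord d hd, fun g hc => (h.w1 d hd _ (h.conj g d hd) hc).symm⟩

theorem W1.sup_top {G : Type u} [Group G] [Finite G] (hZ : ZProp G) {D : Set G} (h : W1 D)
    {d : G} (hd : d ∈ D) : pPrimeCore 2 G ⊔ Subgroup.zpowers d = ⊤ := by
  rw [eq_top_iff, ← h.gen, Subgroup.closure_le]
  intro e he
  have h1 := h.conj_eq hd he
  have h2 := hZ d (h.isolated hd) (d * e)
  have h3 : e = (d * (d * e) * d⁻¹ * (d * e)⁻¹)⁻¹ * d := by
    conv_lhs => rw [← h1]
    group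
  rw [h3]
  exact Subgroup.mul_mem _ (Subgroup.mem_sup_left (Subgroup.inv_mem _ h2))
    (Subgroup.mem_sup_right (Subgroup.mem_zpowers d))

theorem hall_three {G : Type u} [Group G] [Finite G] (hZ : ZProp G) {D : Set G} (h : W1 D)
    {d : G} (hd : d ∈ D) : Subgroup.zpowers d ⊔ pCore 3 G = ⊤ := by
  classical
  haveI : Fact (Nat.Prime 3) := ⟨Nat.prime_three⟩
  have hd2 := h.ord d hd
  have hdd : d * d = 1 := mul_self_of_orderOf_two hd2
  have dinv : d⁻¹ = d := inv_eq_self_of_mul_self hdd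
  obtain ⟨K, hK⟩ : ∃ K : Subgroup G, K = pPrimeCore 2 G := ⟨_, rfl⟩
  have hKn : K.Normal := by rw [hK]; infer_instance
  have hKodd : Odd (Nat.card K) := by
    rw [hK]; exact Nat.coprime_two_right.mp (pPrimeCore_coprime' 2)
  have hsup : K ⊔ Subgroup.zpowers d = ⊤ := by rw [hK]; exact h.sup_top hZ hd
  have hdK : ∀ c ∈ K, d * c * d⁻¹ ∈ K := fun c hc => hKn.conj_mem c hc d
  -- index of K divides 2
  have hKidx : K.index ∣ 2 := by
    have h1 : K.relIndex (K ⊔ Subgroup.zpowers d) = K.relIndex (Subgroup.zpowers d) :=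
      Subgroup.relIndex_sup_left (Subgroup.zpowers d) K
    rw [hsup, Subgroup.relIndex_top_right] at h1
    rw [h1]
    have h2 : K.relIndex (Subgroup.zpowers d) ∣ Nat.card (Subgroup.zpowers d) :=
      Subgroup.relIndex_dvd_card _ _
    rwa [Nat.card_zpowers, hd2] at h2
  -- invariant Sylow subgroups
  have hsyl : ∀ q : ℕ, q.Prime → ∃ Q' : Subgroup G, IsPGroup q Q' ∧ Q' ≤ K ∧
      (∀ y ∈ Q', d * y * d⁻¹ ∈ Q') ∧ ¬ q ∣ Q'.index / K.index ∧ Q'.index = (Q'.index / K.index) * K.index := by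
    intro q hq
    haveI := Fact.mk hq
    obtain ⟨Q, hQ⟩ := Cfsg.Agent.Lib.Helper28.exists_invariant_sylow q K hKodd d hdd hdK
    refine ⟨(Q : Subgroup K).map K.subtype, Q.isPGroup'.map K.subtype, ?_, ?_, ?_, ?_⟩
    · rintro y ⟨c, -, rfl⟩
      exact c.2
    · rintro y ⟨c, hc, rfl⟩
      exact ⟨_, hQ c hc, rfl⟩
    · rw [Subgroup.index_map_subtype, Nat.mul_div_cancel _ (Nat.pos_of_ne_zero (Subgroup.index_ne_zero_of_finite))]
      exact Q.not_dvd_index
    · rw [Subgroup.index_map_subtype, Nat.mul_div_cancel _ (Nat.pos_of_ne_zero (Subgroup.index_ne_zero_of_finite))]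
  -- q ≠ 3: centralized
  have hcent : ∀ q : ℕ, q.Prime → q ≠ 3 → ∀ Q' : Subgroup G, IsPGroup q Q' →
      (∀ y ∈ Q', d * y * d⁻¹ ∈ Q') → Q' ≤ Subgroup.centralizer ({d} : Set G) := by
    intro q hq hq3 Q' hQp hQd y hy
    rw [Subgroup.mem_centralizer_singleton_iff]
    have he : y * d * y⁻¹ ∈ D := h.conj y d hd
    have hz3 := h.cube d hd _ he
    have hzQ : d * (y * d * y⁻¹) ∈ Q' := by
      have : d * (y * d * y⁻¹) = (d * y * d⁻¹) * y⁻¹ := by rw [dinv]; group
      rw [this]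
      exact Q'.mul_mem (hQd y hy) (Q'.inv_mem hy)
    obtain ⟨k, hk⟩ := hQp ⟨_, hzQ⟩
    have hk' : (d * (y * d * y⁻¹)) ^ q ^ k = 1 := by
      have := congrArg Subtype.val hk
      simpa using this
    have hd1 : orderOf (d * (y * d * y⁻¹)) ∣ 3 := orderOf_dvd_of_pow_eq_one hz3
    have hd2' : orderOf (d * (y * d * y⁻¹)) ∣ q ^ k := orderOf_dvd_of_pow_eq_one hk'
    have hcop : Nat.Coprime 3 (q ^ k) :=
      Nat.Coprime.pow_right k ((Nat.coprime_primes Nat.prime_three hq).mpr (Ne.symm hq3))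
    have h1 : orderOf (d * (y * d * y⁻¹)) = 1 := Nat.eq_one_of_dvd_coprimes hcop hd1 hd2'
    have h2 : d * (y * d * y⁻¹) = 1 := orderOf_eq_one_iff.mp h1
    have h3 : y * d * y⁻¹ = d := by
      have : y * d * y⁻¹ = d⁻¹ := eq_inv_of_mul_eq_one_right h2
      rw [this, dinv]
    calc y * d = (y * d * y⁻¹) * y := by group
      _ = d * y := by rw [h3]
  obtain ⟨C, hC⟩ : ∃ C : Subgroup G, C = Subgroup.centralizer ({d} : Set G) := ⟨_, rfl⟩
  have hdC : d ∈ C := by rw [hC, Subgroup.mem_centralizer_singleton_iff]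
  -- the index of C is a power of 3
  have hCprime : ∀ q : ℕ, q.Prime → q ∣ C.index → q = 3 := by
    intro q hq hdiv
    by_contra hne
    by_cases hq2 : q = 2
    · subst hq2
      have h1 : 2 ∣ Nat.card C := by
        have := orderOf_dvd_natCard (⟨d, hdC⟩ : C)
        rwa [Subgroup.orderOf_mk, hd2] at this
      have h2 := Subgroup.index_mul_card C
      have h3 := Subgroup.index_mul_card K
      obtain ⟨a, ha⟩ := hdiv
      obtain ⟨b, hb⟩ := h1
      obtain ⟨k, hk⟩ := hKodd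
      rcases (Nat.dvd_prime Nat.prime_two).mp hKidx with h4 | h4
      · rw [h4, hk] at h3; rw [ha, hb] at h2
        have h5 : 4 * (a * b) = 2 * k + 1 := by
          have : 2 * a * (2 * b) = 2 * k + 1 := by rw [h2, ← h3]; ring
          rw [← this]; ring
        generalize a * b = ab at h5
        omega
      · rw [h4, hk] at h3; rw [ha, hb] at h2
        have h5 : 4 * (a * b) = 2 * (2 * k + 1) := by
          have : 2 * a * (2 * b) = 2 * (2 * k + 1) := by rw [h2, ← h3]
          rw [← this]; ring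
        generalize a * b = ab at h5
        omega
    · obtain ⟨Q', hQp, -, hQd, hnd, hidx⟩ := hsyl q hq
      have hle := hcent q hq hne Q' hQp hQd
      rw [← hC] at hle
      have h1 : C.index ∣ Q'.index := Subgroup.index_dvd_of_le hle
      have h2 : q ∣ (Q'.index / K.index) * K.index := by rw [← hidx]; exact hdiv.trans h1
      rcases (Nat.Prime.dvd_mul hq).mp h2 with h3 | h3
      · exact hnd h3
      · have h4 : q ∣ 2 := h3.trans hKidx
        exact hq2 ((Nat.prime_dvd_prime_iff_eq hq Nat.prime_two).mp h4)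
  have hCpow : C.index = 3 ^ C.index.primeFactorsList.length :=
    Nat.eq_prime_pow_of_unique_prime_dvd Subgroup.index_ne_zero_of_finite
      (fun {q} hq hdiv => hCprime q hq hdiv)
  -- invariant Sylow 3-subgroup
  obtain ⟨T', hTp, hTK, hTd, hTnd, hTidx⟩ := hsyl 3 Nat.prime_three
  obtain ⟨H₁, hH₁⟩ : ∃ H₁ : Subgroup G, H₁ = T' ⊔ Subgroup.zpowers d := ⟨_, rfl⟩
  have hdH : d ∈ H₁ := by rw [hH₁]; exact Subgroup.mem_sup_right (Subgroup.mem_zpowers d)
  have hH₁idx : ¬ 3 ∣ H₁.index := by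
    intro h3
    have h1 : H₁.index ∣ T'.index := Subgroup.index_dvd_of_le (by rw [hH₁]; exact le_sup_left)
    have h2 : 3 ∣ (T'.index / K.index) * K.index := by rw [← hTidx]; exact h3.trans h1
    rcases (Nat.Prime.dvd_mul Nat.prime_three).mp h2 with h4 | h4
    · exact hTnd h4
    · have h5 : 3 ∣ 2 := h4.trans hKidx
      omega
  -- counting
  have hcl := Cfsg.Agent.Lib.Helper24.card_conj_mul_card_centralizer d
  rw [← hC] at hcl
  have ha : Nat.card {g : G // IsConj d g} = C.index := by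
    have h2 := Subgroup.index_mul_card C
    have hpos : 0 < Nat.card C := Nat.card_pos
    exact Nat.eq_of_mul_eq_mul_right hpos (hcl.trans h2.symm)
  have hcl' := Cfsg.Agent.Lib.Helper24.card_conj_mul_card_centralizer (⟨d, hdH⟩ : ↥H₁)
  have hCdvd : Nat.card (Subgroup.centralizer ({(⟨d, hdH⟩ : ↥H₁)} : Set ↥H₁)) ∣ Nat.card C := by
    have h1 : (Subgroup.centralizer ({(⟨d, hdH⟩ : ↥H₁)} : Set ↥H₁)).map H₁.subtype ≤ C := by
      rintro y ⟨c, hc, rfl⟩
      rw [hC, Subgroup.mem_centralizer_singleton_iff]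
      have := Subgroup.mem_centralizer_singleton_iff.mp hc
      exact congrArg Subtype.val this
    have h2 := Subgroup.card_dvd_of_le h1
    rwa [Subgroup.card_map_of_injective H₁.subtype_injective] at h2
  let f : {x : ↥H₁ // IsConj (⟨d, hdH⟩ : ↥H₁) x} → {g : G // IsConj d g} :=
    fun x => ⟨(x.1 : G), by
      obtain ⟨c, hc⟩ := isConj_iff.mp x.2
      exact isConj_iff.mpr ⟨(c : G), by
        have := congrArg Subtype.val hc
        simpa using this⟩⟩
  have hf : Function.Injective f := by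
    intro x y hxy
    apply Subtype.ext
    apply Subtype.ext
    have h1 := congrArg Subtype.val hxy
    exact h1
  have hle : Nat.card {x : ↥H₁ // IsConj (⟨d, hdH⟩ : ↥H₁) x} ≤ Nat.card {g : G // IsConj d g} :=
    Nat.card_le_card_of_injective f hf
  have hdvd : Nat.card {g : G // IsConj d g} ∣ Nat.card {x : ↥H₁ // IsConj (⟨d, hdH⟩ : ↥H₁) x} := by
    obtain ⟨c'', hc''⟩ := hCdvd
    have h1 := Subgroup.card_mul_index H₁
    have hpos : 0 < Nat.card (Subgroup.centralizer ({(⟨d, hdH⟩ : ↥H₁)} : Set ↥H₁)) := Nat.card_pos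
    have h2 : Nat.card {g : G // IsConj d g} * c'' =
        Nat.card {x : ↥H₁ // IsConj (⟨d, hdH⟩ : ↥H₁) x} * H₁.index := by
      apply Nat.eq_of_mul_eq_mul_left hpos
      calc Nat.card (Subgroup.centralizer ({(⟨d, hdH⟩ : ↥H₁)} : Set ↥H₁)) *
            (Nat.card {g : G // IsConj d g} * c'')
          = Nat.card {g : G // IsConj d g} * Nat.card C := by rw [hc'']; ring
        _ = Nat.card G := hcl
        _ = Nat.card ↥H₁ * H₁.index := h1.symm
        _ = _ := by rw [← hcl']; ring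
    have hcop : Nat.Coprime (Nat.card {g : G // IsConj d g}) H₁.index := by
      rw [ha, hCpow]
      exact Nat.Coprime.pow_left _ ((Nat.Prime.coprime_iff_not_dvd Nat.prime_three).mpr hH₁idx)
    exact hcop.dvd_of_dvd_mul_right (Dvd.intro _ h2)
  have hpos' : 0 < Nat.card {x : ↥H₁ // IsConj (⟨d, hdH⟩ : ↥H₁) x} := by
    haveI : Nonempty {x : ↥H₁ // IsConj (⟨d, hdH⟩ : ↥H₁) x} := ⟨⟨⟨d, hdH⟩, IsConj.refl _⟩⟩
    exact Nat.card_pos
  have hge := Nat.le_of_dvd hpos' hdvd
  have hbij := hf.bijective_of_nat_card_le hge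
  -- D ⊆ H₁
  have hDH : Subgroup.closure D ≤ H₁ := by
    rw [Subgroup.closure_le]
    intro e he
    have hce : IsConj d e := isConj_iff.mpr ⟨d * e, h.conj_eq hd he⟩
    obtain ⟨x, hx⟩ := hbij.2 ⟨e, hce⟩
    have : (x.1 : G) = e := congrArg Subtype.val hx
    rw [← this]
    exact x.1.2
  rw [h.gen] at hDH
  have hH₁top : H₁ = ⊤ := top_le_iff.mp hDH
  -- T' is normal
  have hTnorm : T'.Normal := by
    rw [← Subgroup.normalizer_eq_top_iff]
    rw [eq_top_iff, ← hH₁top, hH₁, sup_le_iff]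
    refine ⟨Subgroup.le_normalizer, ?_⟩
    rw [Subgroup.zpowers_le, Subgroup.mem_normalizer_iff]
    intro y
    constructor
    · exact hTd y
    · intro hy
      have := hTd _ hy
      have e1 : d * (d * y * d⁻¹) * d⁻¹ = y := by
        calc d * (d * y * d⁻¹) * d⁻¹ = (d * d) * y * (d * d)⁻¹ := by group
          _ = y := by rw [hdd]; group
      rwa [e1] at this
  have hTle : T' ≤ pCore 3 G := le_sSup ⟨hTnorm, hTp⟩
  rw [eq_top_iff, ← hH₁top, hH₁, sup_comm]
  exact sup_le_sup_left hTle _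

end Cfsg.Agent.Lib.Helper25.ZStar
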