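import Cfsg.Agent.Lib.Helper25.HallThree
import Cfsg.Prelude.Def_FischerSpaces

/-!
S5346 from the Z*-property (helper25).
-/

set_option autoImplicit false
open Cfsg

namespace Cfsg.Agent.Lib.Helper25.ZStar

open Cfsg.Agent.Lib.Helper18 Cfsg.Agent.Lib.Helper20

universe u

theorem width_bdd {G : Type u} [Group G] [Finite G] (D : Set G) :
    BddAbove {n : ℕ | ∃ E : Set G, E ⊆ D ∧ E.Finite ∧ (∀ a ∈ E, ∀ b ∈ E, Commute a b) ∧
      E.ncard = n} := by
  refine ⟨Nat.card G, ?_⟩
  rintro n ⟨E, -, -, -, rfl⟩
  exact Set.ncard_le_card E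

theorem comm_of_sq {G : Type u} [Group G] {d e : G} (hd : d * d = 1) (he : e * e = 1)
    (h : (d * e) ^ 2 = 1) : Commute d e := by
  have dinv : d⁻¹ = d := inv_eq_self_of_mul_self hd
  have einv : e⁻¹ = e := inv_eq_self_of_mul_self he
  show d * e = e * d
  have h1 : d * e = (d * e)⁻¹ := by
    rw [pow_two] at h
    exact eq_inv_of_mul_eq_one_left h
  rw [h1, mul_inv_rev, einv, dinv]

theorem w1_of_width {G : Type u} [Group G] [Finite G] {D : Set G}
    (hD : IsThreeTranspositionGroup D) (hw : commutingWidth D = 1) : W1 D := by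
  have hw1 : ∀ d ∈ D, ∀ e ∈ D, Commute d e → d = e := by
    intro a ha b hb hab
    by_contra hne
    have hmem : 2 ∈ {n : ℕ | ∃ E : Set G, E ⊆ D ∧ E.Finite ∧ (∀ a ∈ E, ∀ b ∈ E, Commute a b) ∧
        E.ncard = n} := by
      refine ⟨{a, b}, ?_, Set.toFinite _, ?_, Set.ncard_pair hne⟩
      · intro x hx
        rcases hx with rfl | rfl
        · exact ha
        · exact hb
      · intro x hx y hy
        rcases hx with rfl | rfl <;> rcases hy with rfl | rfl
        · exact Commute.refl _
        · exact hab
        · exact hab.symm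
        · exact Commute.refl _
    have := le_csSup (width_bdd D) hmem
    unfold commutingWidth at hw
    omega
  refine ⟨hD.1.1, hD.2.1, hD.2.2, ?_, hw1⟩
  intro d hd e he
  rcases hD.1.2 d hd e he with h | h
  · have hc := comm_of_sq (mul_self_of_orderOf_two (hD.1.1 d hd))
      (mul_self_of_orderOf_two (hD.1.1 e he)) h
    have := hw1 d hd e he hc
    rw [← this, mul_self_of_orderOf_two (hD.1.1 d hd), one_pow]
  · exact h

theorem s5346_of_zprop {G : Type u} [Group G] [Finite G] (hZ : ZProp G) {D : Set G}
    (hD : IsThreeTranspositionGroup D) {d : G} (hd : d ∈ D) :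
    commutingWidth D = 1 ↔ Subgroup.zpowers d ⊔ pCore 3 G = ⊤ := by
  constructor
  · intro hw
    exact hall_three hZ (w1_of_width hD hw) hd
  · intro htop
    haveI : Fact (Nat.Prime 2) := ⟨Nat.prime_two⟩
    have hd2 := hD.1.1 d hd
    -- the order of G divides 2 * 3^k
    have hR : IsPGroup 3 (pCore 3 G) :=
      Sylow.sSup_of_normal _ (fun _ hH => hH.2) (fun _ hH => hH.1)
    haveI : Fact (Nat.Prime 3) := ⟨Nat.prime_three⟩
    obtain ⟨k, hk⟩ := IsPGroup.iff_card.mp hR
    have hcard : Nat.card G ∣ 2 * 3 ^ k := by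
      have h1 := card_sup_dvd_mul (Subgroup.zpowers d) (pCore 3 G)
      rw [htop, Subgroup.card_top, Nat.card_zpowers, hd2, hk] at h1
      exact h1
    have hno4 : ¬ 4 ∣ Nat.card G := by
      intro h4
      have h5 : 4 ∣ 2 * 3 ^ k := h4.trans hcard
      have h6 : 2 ∣ 3 ^ k := by
        obtain ⟨c, hc⟩ := h5
        exact ⟨c, by omega⟩
      have h7 := (Nat.Prime.dvd_of_dvd_pow Nat.prime_two h6)
      omega
    -- any two commuting members are equal
    have hw1 : ∀ a ∈ D, ∀ b ∈ D, Commute a b → a = b := by
      intro a ha b hb hab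
      by_contra hne
      have ha2 := hD.1.1 a ha
      have hb2 := hD.1.1 b hb
      have hA : IsPGroup 2 (Subgroup.zpowers a) :=
        IsPGroup.of_card (n := 1) (by rw [Nat.card_zpowers, ha2, pow_one])
      have hB : IsPGroup 2 (Subgroup.zpowers b) :=
        IsPGroup.of_card (n := 1) (by rw [Nat.card_zpowers, hb2, pow_one])
      have hAB : Subgroup.zpowers a ≤ Subgroup.normalizer ((Subgroup.zpowers b : Subgroup G) : Set G) := by
        rw [Subgroup.zpowers_le]
        have hcent : a ∈ Subgroup.centralizer ((Subgroup.zpowers b : Subgroup G) : Set G) := by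
          rw [Subgroup.mem_centralizer_iff]
          intro y hy
          obtain ⟨j, rfl⟩ := Subgroup.mem_zpowers_iff.mp hy
          exact ((hab.zpow_right j).eq).symm
        exact Subgroup.centralizer_le_normalizer _ hcent
      have hV : IsPGroup 2 (Subgroup.zpowers a ⊔ Subgroup.zpowers b : Subgroup G) :=
        IsPGroup.to_sup_of_normal_right' hA hB hAB
      obtain ⟨m, hm⟩ := IsPGroup.iff_card.mp hV
      -- b is not a power of a
      have hbA : b ∉ Subgroup.zpowers a := by
        intro hb'
        obtain ⟨j, hj⟩ := Subgroup.mem_zpowers_iff.mp hb'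
        have h1 := zpow_mod_orderOf a j
        rw [ha2] at h1
        rcases Int.emod_two_eq_zero_or_one j with h | h
        · rw [show ((2 : ℕ) : ℤ) = 2 from rfl, h, zpow_zero] at h1
          have : b = 1 := by rw [← hj, ← h1]
          rw [this, orderOf_one] at hb2
          omega
        · rw [show ((2 : ℕ) : ℤ) = 2 from rfl, h, zpow_one] at h1
          exact hne (by rw [h1, hj])
      have hm2 : 2 ≤ m := by
        by_contra hlt
        have hm1 : m = 0 ∨ m = 1 := by omega
        have hcA : Nat.card (Subgroup.zpowers a) = 2 := by rw [Nat.card_zpowers, ha2]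
        have hle : Subgroup.zpowers a ≤ (Subgroup.zpowers a ⊔ Subgroup.zpowers b : Subgroup G) :=
          le_sup_left
        have hdv := Subgroup.card_dvd_of_le hle
        rw [hcA, hm] at hdv
        rcases hm1 with rfl | rfl
        · simp at hdv
        · have heq : Subgroup.zpowers a = (Subgroup.zpowers a ⊔ Subgroup.zpowers b : Subgroup G) :=
            Subgroup.eq_of_le_of_card_ge hle (by rw [hm, hcA, pow_one])
          apply hbA
          rw [heq]
          exact Subgroup.mem_sup_right (Subgroup.mem_zpowers b)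
      apply hno4
      have h4 : 4 ∣ 2 ^ m := by
        obtain ⟨j, rfl⟩ : ∃ j, m = 2 + j := ⟨m - 2, by omega⟩
        rw [pow_add]
        exact Dvd.intro _ rfl
      rw [← hm] at h4
      exact h4.trans (Subgroup.card_subgroup_dvd_card _)
    unfold commutingWidth
    apply le_antisymm
    · apply csSup_le
      · exact ⟨1, {d}, by simpa using hd, Set.toFinite _, by
          intro x hx y hy
          rw [Set.mem_singleton_iff] at hx hy
          rw [hx, hy], Set.ncard_singleton d⟩
      · rintro n ⟨E, hED, hEf, hEc, rfl⟩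
        rw [Set.ncard_le_one hEf]
        intro x hx y hy
        exact hw1 x (hED hx) y (hED hy) (hEc x hx y hy)
    · apply le_csSup (width_bdd D)
      exact ⟨{d}, by simpa using hd, Set.toFinite _, by
        intro x hx y hy
        rw [Set.mem_singleton_iff] at hx hy
        rw [hx, hy], Set.ncard_singleton d⟩

end Cfsg.Agent.Lib.Helper25.ZStar
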