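import Mathlib

/-!
Helper25: lifting lemma for an involution normalizing a Sylow 3-subgroup
(used for S5356).
-/

set_option autoImplicit false

namespace Cfsg.Agent.Lib.Helper25.InvSylow

universe u

/-- coprime powers -/
theorem mem_sup_of_pow_mem {G : Type u} [Group G] {A B : Subgroup G} {u : G} {a b : ℕ}
    (hab : Nat.Coprime a b) (ha : u ^ a ∈ A) (hb : u ^ b ∈ B) : u ∈ A ⊔ B := by
  have hg : Nat.gcd a b = 1 := hab
  have h1 : (a : ℤ) * Nat.gcdA a b + (b : ℤ) * Nat.gcdB a b = 1 := by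
    have := Nat.gcd_eq_gcd_ab a b
    rw [hg] at this
    simpa using this.symm
  have h2 : u = (u ^ a) ^ (Nat.gcdA a b) * (u ^ b) ^ (Nat.gcdB a b) := by
    rw [← zpow_natCast u a, ← zpow_natCast u b, ← zpow_mul, ← zpow_mul, ← zpow_add, h1, zpow_one]
  rw [h2]
  exact Subgroup.mul_mem_sup (A.zpow_mem ha _) (B.zpow_mem hb _)

/-- Sylow times normal subgroup covers when the quotient is a 3-group. -/
theorem sylow_mul_normal {H : Type u} [Group H] [Finite H] (N : Subgroup H) [N.Normal]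
    (h3 : ∀ h : H, ∃ k : ℕ, h ^ (3 ^ k) ∈ N) (P : Sylow 3 H) (h : H) :
    ∃ p ∈ (P : Subgroup H), ∃ n ∈ N, h = p * n := by
  haveI : Fact (Nat.Prime 3) := ⟨Nat.prime_three⟩
  have hsurj : Function.Surjective (QuotientGroup.mk' N) := QuotientGroup.mk'_surjective N
  have hpg : IsPGroup 3 (H ⧸ N) := by
    intro x
    obtain ⟨y, rfl⟩ := hsurj x
    obtain ⟨k, hk⟩ := h3 y
    refine ⟨k, ?_⟩
    rw [← map_pow]
    exact (QuotientGroup.eq_one_iff _).mpr hk
  let P' : Sylow 3 (H ⧸ N) := P.mapSurjective hsurj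
  have htop : (⊤ : Subgroup (H ⧸ N)) = (P' : Subgroup (H ⧸ N)) :=
    P'.is_maximal' (hpg.to_subgroup ⊤) le_top
  have hmem : QuotientGroup.mk' N h ∈ (P' : Subgroup (H ⧸ N)) := htop ▸ Subgroup.mem_top _
  rw [Sylow.coe_mapSurjective, Subgroup.mem_map] at hmem
  obtain ⟨p, hp, hpe⟩ := hmem
  have hn : p⁻¹ * h ∈ N := QuotientGroup.eq.mp hpe
  exact ⟨p, hp, p⁻¹ * h, hn, by group⟩

/-- an involutive self-map of a finite type of odd cardinality has a fixed point -/
theorem involutive_fixed {α : Type u} [Finite α] (f : α → α) (hf : Function.Involutive f)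
    (hodd : ¬ 2 ∣ Nat.card α) : ∃ a : α, f a = a := by
  classical
  haveI : Fintype α := Fintype.ofFinite α
  haveI : Fact (Nat.Prime 2) := ⟨Nat.prime_two⟩
  have h1 : ¬ 2 ∣ Fintype.card α := by rwa [← Nat.card_eq_fintype_card]
  have h2 : (hf.toPerm f) ^ 2 ^ 1 = 1 := by
    ext a
    simp [pow_two, hf a]
  obtain ⟨a, ha⟩ := Equiv.Perm.exists_fixed_point_of_prime h1 h2
  exact ⟨a, by simpa using ha⟩

end Cfsg.Agent.Lib.Helper25.InvSylow
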