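import Cfsg.Agent.Lib.Helper25.InvSylowA

/-!
Helper25: an involution `d` with `G = ⟨d⟩X`, `X/Q` a 3-group, `Q` a normal 2-subgroup, whose
conjugates in `dQ` are `Q`-conjugate to `d`, normalizes a Sylow 3-subgroup `P` with `X = PQ`.
-/

set_option autoImplicit false
set_option maxHeartbeats 800000

namespace Cfsg.Agent.Lib.Helper25.InvSylow

universe u

theorem exists_invariant_sylow {G : Type u} [Group G] [Finite G]
    (Q X : Subgroup G) [hQn : Q.Normal] [hXn : X.Normal] (hQ : IsPGroup 2 Q) (hQX : Q ≤ X)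
    (hX3 : ∀ x ∈ X, ∃ k : ℕ, x ^ (3 ^ k) ∈ Q)
    (d : G) (hd : d * d = 1)
    (hcov : ∀ g : G, g ∈ X ∨ d * g ∈ X)
    (hdX : ∀ g : G, d * (g * d * g⁻¹) ∈ X)
    (hF : ∀ g ∈ X, d * (g * d * g⁻¹) ∈ Q → ∃ q ∈ Q, g * d * g⁻¹ = q * d * q⁻¹) :
    ∃ P : Sylow 3 G, (∀ x ∈ (P : Subgroup G), d * x * d⁻¹ ∈ (P : Subgroup G)) ∧
      X ≤ (P : Subgroup G) ⊔ Q := by
  classical
  haveI : Fact (Nat.Prime 3) := ⟨Nat.prime_three⟩
  haveI : Fact (Nat.Prime 2) := ⟨Nat.prime_two⟩
  have hdinv : d⁻¹ = d := inv_eq_of_mul_eq_one_right hd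
  -- elements of 3-power order lie in X
  have h3X : ∀ g : G, (∃ k : ℕ, g ^ (3 ^ k) = 1) → g ∈ X := by
    rintro g ⟨k, hk⟩
    rcases hcov g with h | h
    · exact h
    · have hg2 : g ^ 2 ∈ X := by
        have h1 : g ^ 2 = (d * (d * g) * d⁻¹) * (d * g) := by
          rw [pow_two, hdinv]
          have : d * (d * g) * d * (d * g) = (d * d) * g * (d * d) * g := by group
          rw [this, hd]; group
        rw [h1]
        exact X.mul_mem (hXn.conj_mem _ h d) h
      obtain ⟨m, hm⟩ : Odd (3 ^ k) := Odd.pow (by decide)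
      have h2 : (g ^ 2) ^ m * g = 1 := by
        rw [← pow_mul, ← pow_succ, ← hm, hk]
      have h3 : g⁻¹ = (g ^ 2) ^ m := inv_eq_of_mul_eq_one_left h2
      have h4 : g = ((g ^ 2) ^ m)⁻¹ := by rw [← h3, inv_inv]
      rw [h4]
      exact X.inv_mem (X.pow_mem hg2 m)
  -- the centralizer part
  let K : Subgroup G := Subgroup.centralizer {d}
  let H : Subgroup G := K ⊓ X
  have hH3 : ∀ h : ↥H, ∃ k : ℕ, h ^ (3 ^ k) ∈ Q.subgroupOf H := by
    intro h
    obtain ⟨k, hk⟩ := hX3 (h : G) (Subgroup.mem_inf.mp h.2).2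
    exact ⟨k, by rw [Subgroup.mem_subgroupOf, Subgroup.coe_pow]; exact hk⟩
  obtain ⟨P₀⟩ : Nonempty (Sylow 3 ↥H) := inferInstance
  let P₀' : Subgroup G := (P₀ : Subgroup ↥H).map H.subtype
  have hP₀pg : IsPGroup 3 P₀' := P₀.2.map H.subtype
  have hP₀c : ∀ x ∈ P₀', d * x * d⁻¹ = x := by
    rintro _ ⟨h, _, rfl⟩
    have hk : (h : G) ∈ K := (Subgroup.mem_inf.mp h.2).1
    have := Subgroup.mem_centralizer_iff.mp hk d (Set.mem_singleton d)
    show d * (h : G) * d⁻¹ = (h : G)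
    rw [this]; group
  have hC : ∀ y ∈ X, d * (y * d * y⁻¹) ∈ Q → y ∈ P₀' ⊔ Q := by
    intro y hy hyQ
    obtain ⟨q, hq, hyq⟩ := hF y hy hyQ
    have hkK : q⁻¹ * y ∈ K := by
      rw [Subgroup.mem_centralizer_iff]
      intro s hs
      rw [Set.mem_singleton_iff] at hs
      rw [hs]
      have h1 : y * d = q * d * q⁻¹ * y := by rw [← hyq]; group
      calc d * (q⁻¹ * y) = q⁻¹ * (q * d * q⁻¹ * y) := by group
        _ = q⁻¹ * (y * d) := by rw [h1]
        _ = q⁻¹ * y * d := by group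
    have hkX : q⁻¹ * y ∈ X := X.mul_mem (X.inv_mem (hQX hq)) hy
    obtain ⟨p, hp, n, hn, hpn⟩ :=
      sylow_mul_normal (Q.subgroupOf H) hH3 P₀ ⟨q⁻¹ * y, Subgroup.mem_inf.mpr ⟨hkK, hkX⟩⟩
    have hy' : y = q * ((p : G) * (n : G)) := by
      have := congrArg (fun t : ↥H => (t : G)) hpn
      simp only [Subgroup.coe_mul] at this
      rw [← this]; group
    rw [hy']
    refine Subgroup.mul_mem _ (Subgroup.mem_sup_right hq)
      (Subgroup.mul_mem _ (Subgroup.mem_sup_left ⟨p, hp, rfl⟩) (Subgroup.mem_sup_right ?_))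
    exact Subgroup.mem_subgroupOf.mp hn
  -- a maximal d-invariant 3-subgroup containing P₀'
  let PP : Set (Subgroup G) := {P | IsPGroup 3 P ∧ P₀' ≤ P ∧ ∀ x ∈ P, d * x * d⁻¹ ∈ P}
  have hPP0 : P₀' ∈ PP := ⟨hP₀pg, le_rfl, fun x hx => by rw [hP₀c x hx]; exact hx⟩
  obtain ⟨P₁, hP₁max⟩ := (Set.toFinite PP).exists_maximal ⟨P₀', hPP0⟩
  obtain ⟨hP₁pg, hP₀P₁, hP₁d⟩ := hP₁max.1
  obtain ⟨P, hP₁P⟩ := hP₁pg.exists_le_sylow
  have hPX : (P : Subgroup G) ≤ X := by
    intro x hx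
    apply h3X
    obtain ⟨k, hk⟩ := P.2 ⟨x, hx⟩
    exact ⟨k, by simpa using congrArg Subtype.val hk⟩
  have hPQdisj : ∀ x ∈ (P : Subgroup G), x ∈ Q → x = 1 := by
    intro x hxP hxQ
    have := IsPGroup.disjoint_of_ne 3 2 (by decide) (P : Subgroup G) Q P.2 hQ
    exact Subgroup.disjoint_def.mp this hxP hxQ
  have hd1 : ∀ x ∈ P₁, d * x * d ∈ P₁ := fun x hx => by
    have := hP₁d x hx
    rwa [hdinv] at this
  have hkey : P₁ = (P : Subgroup G) := by
    by_contra hne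
    have hne' : P₁.subgroupOf (P : Subgroup G) < ⊤ := by
      rw [lt_top_iff_ne_top, Ne, Subgroup.subgroupOf_eq_top]
      intro hle
      exact hne (le_antisymm hP₁P hle)
    haveI : Group.IsNilpotent ↥(P : Subgroup G) := P.2.isNilpotent
    have hlt := Group.normalizerCondition_of_isNilpotent (G := ↥(P : Subgroup G)) _ hne'
    obtain ⟨g', hg'N, hg'⟩ := SetLike.exists_of_lt hlt
    set g : G := (g' : G) with hgdef
    have hgP : g ∈ (P : Subgroup G) := g'.2
    have hgP₁ : g ∉ P₁ := fun h => hg' (Subgroup.mem_subgroupOf.mpr h)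
    rw [Subgroup.mem_normalizer_iff] at hg'N
    have hgn1 : ∀ x ∈ P₁, g * x * g⁻¹ ∈ P₁ := by
      intro x hx
      have := (hg'N ⟨x, hP₁P hx⟩).mp (Subgroup.mem_subgroupOf.mpr hx)
      exact Subgroup.mem_subgroupOf.mp this
    have hgn2 : ∀ x ∈ P₁, g⁻¹ * x * g ∈ P₁ := by
      intro x hx
      have h1 := (hg'N (g'⁻¹ * ⟨x, hP₁P hx⟩ * g')).mpr (by
        rw [Subgroup.mem_subgroupOf]
        have : ((g' * (g'⁻¹ * ⟨x, hP₁P hx⟩ * g') * g'⁻¹ : ↥(P : Subgroup G)) : G) = x := by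
          simp [mul_assoc]
        rw [this]; exact hx)
      have h2 := Subgroup.mem_subgroupOf.mp h1
      simpa using h2
    set e : G := g * d * g⁻¹ with hedef
    set u : G := d * e with hudef
    have huX : u ∈ X := hdX g
    have hee : e * e = 1 := by
      rw [hedef]
      calc g * d * g⁻¹ * (g * d * g⁻¹) = g * (d * d) * g⁻¹ := by group
        _ = 1 := by rw [hd]; group
    have he_inv : e⁻¹ = e := inv_eq_of_mul_eq_one_right hee
    have hdud : d * u * d⁻¹ = u⁻¹ := by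
      rw [hudef, hdinv, mul_inv_rev, he_inv, hdinv, ← mul_assoc, hd, one_mul]
    have he1 : ∀ x ∈ P₁, e * x * e ∈ P₁ := by
      intro x hx
      have h1 := hgn1 _ (hd1 _ (hgn2 x hx))
      have : e * x * e = g * (d * (g⁻¹ * x * g) * d) * g⁻¹ := by rw [hedef]; group
      rw [this]; exact h1
    have hu1 : ∀ x ∈ P₁, u * x * u⁻¹ ∈ P₁ := by
      intro x hx
      have : u * x * u⁻¹ = d * (e * x * e) * d := by
        rw [hudef, mul_inv_rev, he_inv, hdinv]; group
      rw [this]; exact hd1 _ (he1 x hx)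
    have hu2 : ∀ x ∈ P₁, u⁻¹ * x * u ∈ P₁ := by
      intro x hx
      have : u⁻¹ * x * u = e * (d * x * d) * e := by
        rw [hudef, mul_inv_rev, he_inv, hdinv]; group
      rw [this]; exact he1 _ (hd1 x hx)
    have huN : u ∈ Subgroup.normalizer (P₁ : Set G) := by
      rw [Subgroup.mem_normalizer_iff]
      intro x
      constructor
      · exact hu1 x
      · intro hx
        have := hu2 _ hx
        have h2 : u⁻¹ * (u * x * u⁻¹) * u = x := by group
        rwa [h2] at this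
    obtain ⟨k, hk⟩ := hX3 u huX
    set m : ℕ := Nat.card Q with hm
    have hQpow : ∀ x ∈ Q, x ^ m = 1 := by
      intro x hx
      have h1 : ((⟨x, hx⟩ : ↥Q) ^ Nat.card ↥Q : ↥Q) = 1 := pow_card_eq_one'
      have h2 := congrArg Subtype.val h1
      rw [Subgroup.coe_pow, Subgroup.coe_one] at h2
      exact h2
    set z : G := u ^ m with hz
    have hz3 : z ^ (3 ^ k) = 1 := by
      rw [hz, ← pow_mul, mul_comm, pow_mul]
      exact hQpow _ hk
    have hzN : z ∈ Subgroup.normalizer (P₁ : Set G) := Subgroup.pow_mem _ huN m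
    have hdz : d * z * d⁻¹ = z⁻¹ := by
      rw [hz, ← conj_pow, hdud, inv_pow]
    have hzpg : IsPGroup 3 (Subgroup.zpowers z) := by
      rintro ⟨y, hy⟩
      obtain ⟨i, rfl⟩ := Subgroup.mem_zpowers_iff.mp hy
      refine ⟨k, Subtype.ext ?_⟩
      show (z ^ i) ^ (3 ^ k) = 1
      rw [← zpow_natCast, ← zpow_mul, mul_comm, zpow_mul, zpow_natCast, hz3, one_zpow]
    have hzle : Subgroup.zpowers z ≤ Subgroup.normalizer (P₁ : Set G) := (Subgroup.zpowers_le).mpr hzN
    have hP₂pg : IsPGroup 3 (P₁ ⊔ Subgroup.zpowers z : Subgroup G) :=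
      IsPGroup.to_sup_of_normal_left' hP₁pg hzpg hzle
    have hP₂d : ∀ x ∈ (P₁ ⊔ Subgroup.zpowers z : Subgroup G),
        d * x * d⁻¹ ∈ (P₁ ⊔ Subgroup.zpowers z : Subgroup G) := by
      intro x hx
      have hmap : (P₁ ⊔ Subgroup.zpowers z).map (MulAut.conj d).toMonoidHom ≤
          P₁ ⊔ Subgroup.zpowers z := by
        rw [Subgroup.map_sup]
        apply sup_le
        · rintro _ ⟨y, hy, rfl⟩
          exact Subgroup.mem_sup_left (hP₁d y hy)
        · rw [MonoidHom.map_zpowers]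
          apply le_trans _ le_sup_right
          rw [Subgroup.zpowers_le]
          show d * z * d⁻¹ ∈ Subgroup.zpowers z
          rw [hdz]
          exact Subgroup.inv_mem _ (Subgroup.mem_zpowers z)
      exact hmap ⟨x, hx, rfl⟩
    have hP₂mem : (P₁ ⊔ Subgroup.zpowers z : Subgroup G) ∈ PP :=
      ⟨hP₂pg, le_trans hP₀P₁ le_sup_left, hP₂d⟩
    have hzP₁ : z ∈ P₁ :=
      hP₁max.2 hP₂mem le_sup_left (Subgroup.mem_sup_right (Subgroup.mem_zpowers z))
    obtain ⟨j, hj⟩ := IsPGroup.iff_card.mp hQ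
    have hcop : Nat.Coprime m (3 ^ k) := by
      rw [hm, hj]; exact Nat.Coprime.pow _ _ (by decide)
    have huPQ : u ∈ P₁ ⊔ Q := mem_sup_of_pow_mem hcop hzP₁ hk
    obtain ⟨pu, hpu, qu, hqu, hpq⟩ : ∃ pu ∈ P₁, ∃ qu ∈ Q, pu * qu = u := by
      have := huPQ
      rw [← SetLike.mem_coe, Subgroup.mul_normal] at this
      exact Set.mem_mul.mp this
    have hpu_inv : d * pu * d * pu = 1 := by
      have h1 : d * pu * d * pu ∈ (P : Subgroup G) := hP₁P (P₁.mul_mem (hd1 pu hpu) hpu)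
      have h4 : d * (pu * qu) * d⁻¹ = (pu * qu)⁻¹ := by rw [hpq]; exact hdud
      have h5 : d * pu * d⁻¹ = qu⁻¹ * pu⁻¹ * (d * qu * d⁻¹)⁻¹ := by
        have : d * pu * d⁻¹ * (d * qu * d⁻¹) = qu⁻¹ * pu⁻¹ := by
          rw [← mul_inv_rev, ← h4]; group
        rw [← this]; group
      have h2 : d * pu * d * pu ∈ Q := by
        have h6 : d * pu * d * pu = qu⁻¹ * (pu⁻¹ * (d * qu * d⁻¹)⁻¹ * pu⁻¹⁻¹) := by
          have : d * pu * d * pu = d * pu * d⁻¹ * pu := by rw [hdinv]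
          rw [this, h5]; group
        rw [h6]
        exact Q.mul_mem (Q.inv_mem hqu)
          (hQn.conj_mem _ (Q.inv_mem (hQn.conj_mem _ hqu d)) pu⁻¹)
      exact hPQdisj _ h1 h2
    let f : ↥P₁ → ↥P₁ := fun p => ⟨d * (p : G) * d * pu, P₁.mul_mem (hd1 _ p.2) hpu⟩
    have hf : Function.Involutive f := by
      intro p
      apply Subtype.ext
      show d * (d * (p : G) * d * pu) * d * pu = (p : G)
      calc d * (d * (p : G) * d * pu) * d * pu
          = (d * d) * (p : G) * (d * pu * d * pu) := by group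
        _ = (p : G) := by rw [hd, hpu_inv]; group
    have hodd : ¬ 2 ∣ Nat.card ↥P₁ := by
      obtain ⟨n, hn⟩ := IsPGroup.iff_card.mp hP₁pg
      rw [hn]
      intro h2
      have := Nat.Prime.dvd_of_dvd_pow Nat.prime_two h2
      omega
    obtain ⟨s, hs⟩ := involutive_fixed f hf hodd
    have hs' : d * (s : G) * d * pu = (s : G) := congrArg Subtype.val hs
    have hyQ : d * ((s : G) * g * d * ((s : G) * g)⁻¹) ∈ Q := by
      have hu' : d * (g * d * g⁻¹) = pu * qu := hpq.symm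
      have h1 : d * ((s : G) * g * d * ((s : G) * g)⁻¹) = (s : G) * qu * (s : G)⁻¹ := by
        calc d * ((s : G) * g * d * ((s : G) * g)⁻¹)
            = d * (s : G) * (d * d) * (g * d * g⁻¹) * (s : G)⁻¹ := by rw [hd]; group
          _ = (d * (s : G) * d) * (d * (g * d * g⁻¹)) * (s : G)⁻¹ := by group
          _ = (d * (s : G) * d) * (pu * qu) * (s : G)⁻¹ := by rw [hu']
          _ = (d * (s : G) * d * pu) * qu * (s : G)⁻¹ := by group
          _ = (s : G) * qu * (s : G)⁻¹ := by rw [hs']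
      rw [h1]; exact hQn.conj_mem _ hqu _
    have hyX : (s : G) * g ∈ X := X.mul_mem (hPX (hP₁P s.2)) (hPX hgP)
    have hyPQ : (s : G) * g ∈ P₁ ⊔ Q := (sup_le_sup_right hP₀P₁ Q) (hC _ hyX hyQ)
    have hgPQ : g ∈ P₁ ⊔ Q := by
      have : g = (s : G)⁻¹ * ((s : G) * g) := by group
      rw [this]
      exact Subgroup.mul_mem _ (Subgroup.mem_sup_left (P₁.inv_mem s.2)) hyPQ
    obtain ⟨p', hp', q', hq', hpq'⟩ : ∃ p' ∈ P₁, ∃ q' ∈ Q, p' * q' = g := by
      have := hgPQ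
      rw [← SetLike.mem_coe, Subgroup.mul_normal] at this
      exact Set.mem_mul.mp this
    have hq'1 : q' = 1 := by
      apply hPQdisj q' _ hq'
      have : q' = p'⁻¹ * g := by rw [← hpq']; group
      rw [this]
      exact Subgroup.mul_mem _ (Subgroup.inv_mem _ (hP₁P hp')) hgP
    apply hgP₁
    rw [← hpq', hq'1, mul_one]
    exact hp'
  refine ⟨P, ?_, ?_⟩
  · intro x hx
    rw [← hkey] at hx ⊢
    exact hP₁d x hx
  · intro x hx
    obtain ⟨p, hp, n, hn, hpn⟩ := sylow_mul_normal (Q.subgroupOf X) (fun h => by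
        obtain ⟨k, hk⟩ := hX3 (h : G) h.2
        exact ⟨k, by rw [Subgroup.mem_subgroupOf, Subgroup.coe_pow]; exact hk⟩)
      (P.subtype hPX) ⟨x, hx⟩
    have hx' : x = (p : G) * (n : G) := by
      have := congrArg (fun t : ↥X => (t : G)) hpn
      simpa using this
    rw [hx']
    refine Subgroup.mul_mem _ (Subgroup.mem_sup_left ?_)
      (Subgroup.mem_sup_right (Subgroup.mem_subgroupOf.mp hn))
    have := hp
    rw [Sylow.coe_subtype] at this
    exact Subgroup.mem_subgroupOf.mp this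

end Cfsg.Agent.Lib.Helper25.InvSylow
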