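import Mathlib
import Cfsg.Agent.Lib.Helper25.OmegaFix
import Cfsg.Agent.Lib.Helper29.GroupFusion
import Cfsg.Agent.S0663
import Cfsg.Agent.Lib.Helper11.FrobeniusLocal

/-!
Tools for elements with centralizers of `p`-power index.
-/
set_option autoImplicit false

namespace Cfsg.Agent.Lib.Helper25
open scoped commutatorElement

variable {M : Type*} [Group M]

/-- `4` for `p = 2`, else `p` -/
def qq (p : ℕ) : ℕ := if p = 2 then 4 else p

/-- `x ^ p = 1`, or `p = 2` and `x ^ 4 = 1` -/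
def wsm (p : ℕ) (x : M) : Prop := x ^ p = 1 ∨ (p = 2 ∧ x ^ 4 = 1)

theorem wsm_iff_qq (p : ℕ) (x : M) : wsm p x ↔ x ^ qq p = 1 := by
  unfold wsm qq
  split_ifs with h2
  · constructor
    · rintro (h | ⟨_, h⟩)
      · rw [h2] at h
        have : x ^ 4 = (x ^ 2) ^ 2 := by rw [← pow_mul]
        rw [this, h, one_pow]
      · exact h
    · intro h
      exact Or.inr ⟨h2, h⟩
  · constructor
    · rintro (h | ⟨h', _⟩)
      · exact h
      · exact absurd h' h2
    · intro h
      exact Or.inl h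

theorem wsm_one (p : ℕ) : wsm p (1 : M) := Or.inl (one_pow p)

theorem wsm_inv {p : ℕ} {x : M} (h : wsm p x) : wsm p x⁻¹ := by
  rw [wsm_iff_qq] at h ⊢
  rw [inv_pow, h, inv_one]

theorem wsm_conj {p : ℕ} {x : M} (h : wsm p x) (g : M) : wsm p (g * x * g⁻¹) := by
  rw [wsm_iff_qq] at h ⊢
  rw [conj_pow, h, mul_one, mul_inv_cancel]

theorem wsm_pow_sq {p : ℕ} {x : M} (h : wsm p x) : x ^ (p ^ 2) = 1 := by
  rcases h with h | ⟨h2, h⟩
  · rw [pow_two, pow_mul, h, one_pow]
  · rw [h2]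
    exact h

/-- the power map of exponent `qq p` is multiplicative when the commutator and the `p`-th powers are central -/
theorem mul_pow_qq {p : ℕ} [Fact p.Prime] {a b : M} (hza : Commute (b⁻¹ * a⁻¹ * b * a) a)
    (hzb : Commute (b⁻¹ * a⁻¹ * b * a) b) (hbp : Commute (b ^ p) a) :
    (a * b) ^ qq p = a ^ qq p * b ^ qq p := by
  have hp : p.Prime := Fact.out
  obtain ⟨z, hzdef⟩ : ∃ z : M, z = b⁻¹ * a⁻¹ * b * a := ⟨_, rfl⟩
  rw [← hzdef] at hza hzb
  have hz1 : b * a = a * b * z := by rw [hzdef]; group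
  have hzp : z ^ p = 1 := by
    have h1 : a⁻¹ * b * a = b * z := by rw [hzdef]; group
    have h2 : (a⁻¹ * b * a) ^ p = b ^ p := by
      have h3 : a⁻¹ * b * a = a⁻¹ * b * (a⁻¹)⁻¹ := by rw [inv_inv]
      rw [h3, conj_pow, inv_inv, mul_assoc, hbp.eq, inv_mul_cancel_left]
    rw [h1, (hzb.symm).mul_pow] at h2
    exact mul_left_cancel (a := b ^ p) (by rw [h2, mul_one])
  have h := mul_pow_of_central hz1 hza hzb (qq p)
  have hq : z ^ ((qq p).choose 2) = 1 := by
    unfold qq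
    split_ifs with h2
    · have h4 : (4 : ℕ).choose 2 = 2 * 3 := by decide
      rw [h4, pow_mul, ← h2, hzp, one_pow]
    · rcases hp.eq_two_or_odd' with h2' | ⟨t, ht⟩
      · exact absurd h2' h2
      · have hch : p.choose 2 = p * t := by
          rw [Nat.choose_two_right, ht]
          have h5 : (2 * t + 1) * (2 * t + 1 - 1) = 2 * ((2 * t + 1) * t) := by
            rw [Nat.add_sub_cancel]; ring
          rw [h5, Nat.mul_div_cancel_left _ (by norm_num : 0 < 2)]
        rw [hch, pow_mul, hzp, one_pow]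
  rw [h, hq, mul_one]

/-- commutation of `y⁻¹ β(y)` with a pointwise fixed normal subgroup -/
theorem comm_of_fix_normal (β : MulAut M) {N : Subgroup M} (hNfix : ∀ z ∈ N, β z = z) {y z : M}
    (hz : z ∈ N) (hyz : y * z * y⁻¹ ∈ N) : (y⁻¹ * β y) * z = z * (y⁻¹ * β y) := by
  have h4 := hNfix _ hyz
  rw [map_mul, map_mul, map_inv, hNfix z hz] at h4
  calc y⁻¹ * β y * z = y⁻¹ * (β y * z * (β y)⁻¹) * β y := by group
    _ = y⁻¹ * (y * z * y⁻¹) * β y := by rw [h4]
    _ = z * (y⁻¹ * β y) := by group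

/-- the closure of a conjugation invariant set is normal -/
theorem closure_normal_of_conj {s : Set M} (h : ∀ x ∈ s, ∀ g : M, g * x * g⁻¹ ∈ s) :
    (Subgroup.closure s).Normal := by
  constructor
  intro n hn g
  have h1 : Subgroup.closure s ≤ (Subgroup.closure s).comap (MulAut.conj g).toMonoidHom := by
    rw [Subgroup.closure_le]
    intro x hx
    exact Subgroup.subset_closure (h x hx g)
  exact h1 hn

theorem conj_pow_eq_one {g : M} {m : ℕ} (h : g ^ m = 1) : (MulAut.conj g) ^ m = 1 := by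
  rw [← map_pow, h, map_one]

section finite
variable [Finite M]

/-- a subgroup of `p`-power index together with a Sylow `p`-subgroup factorizes the group -/
theorem exists_mul_of_index_pow {p : ℕ} [Fact p.Prime] (P : Sylow p M) (C : Subgroup M) {a : ℕ}
    (hC : C.index = p ^ a) (g : M) : ∃ u ∈ (P : Subgroup M), ∃ c ∈ C, g = u * c := by
  have hp : p.Prime := Fact.out
  obtain ⟨b, hbdef⟩ : ∃ b : M ⧸ C, b = QuotientGroup.mk g := ⟨_, rfl⟩
  -- the stabilizer of `gC` in `P` embeds in `C`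
  have hstab : ∀ u : (P : Subgroup M), u ∈ MulAction.stabilizer (P : Subgroup M) b →
      g⁻¹ * (u : M) * g ∈ C := by
    intro u hu
    rw [MulAction.mem_stabilizer_iff, hbdef] at hu
    have h1 : (((u : M) * g : M) : M ⧸ C) = (g : M ⧸ C) := hu
    have h2 := QuotientGroup.eq.1 h1
    have h3 := C.inv_mem h2
    have e : (((u : M) * g)⁻¹ * g)⁻¹ = g⁻¹ * (u : M) * g := by group
    rwa [e] at h3
  have hdvd : Nat.card (MulAction.stabilizer (P : Subgroup M) b) ∣ Nat.card C := by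
    let f : MulAction.stabilizer (P : Subgroup M) b →* C :=
      { toFun := fun u => ⟨g⁻¹ * ((u : (P : Subgroup M)) : M) * g, hstab u.1 u.2⟩
        map_one' := by
          apply Subtype.ext
          show g⁻¹ * 1 * g = 1
          group
        map_mul' := by
          intro u v
          apply Subtype.ext
          show g⁻¹ * (((u : (P : Subgroup M)) : M) * ((v : (P : Subgroup M)) : M)) * g =
            g⁻¹ * ((u : (P : Subgroup M)) : M) * g * (g⁻¹ * ((v : (P : Subgroup M)) : M) * g)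
          group }
    apply Subgroup.card_dvd_of_injective f
    intro u v huv
    have h1 : g⁻¹ * ((u : (P : Subgroup M)) : M) * g = g⁻¹ * ((v : (P : Subgroup M)) : M) * g :=
      congrArg Subtype.val huv
    have h2 : ((u : (P : Subgroup M)) : M) = ((v : (P : Subgroup M)) : M) := by
      have := congrArg (fun t => g * t * g⁻¹) h1
      simpa [mul_assoc] using this
    exact Subtype.ext (Subtype.ext h2)
  have hstabp : IsPGroup p (MulAction.stabilizer (P : Subgroup M) b) := P.2.to_subgroup _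
  obtain ⟨s, hs⟩ := hstabp.exists_card_eq
  have hcardP : Nat.card (P : Subgroup M) = p ^ (Nat.card M).factorization p := P.card_eq_multiplicity
  have hcardM : Nat.card M = p ^ a * Nat.card C := by rw [← hC, Subgroup.index_mul_card]
  have hfac : (Nat.card M).factorization p = a + (Nat.card C).factorization p := by
    rw [hcardM, Nat.factorization_mul (pow_ne_zero a hp.ne_zero) Nat.card_pos.ne',
      Nat.Prime.factorization_pow hp]
    simp
  have hsle : s ≤ (Nat.card C).factorization p := by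
    rw [hs] at hdvd
    exact (Nat.Prime.pow_dvd_iff_le_factorization hp Nat.card_pos.ne').1 hdvd
  have horb : (MulAction.orbit (P : Subgroup M) b).ncard * p ^ s = p ^ (a + (Nat.card C).factorization p) := by
    rw [← MulAction.index_stabilizer, ← hs, Subgroup.index_mul_card, hcardP, hfac]
  have horb2 : p ^ a ≤ (MulAction.orbit (P : Subgroup M) b).ncard := by
    have h1 : p ^ (a + (Nat.card C).factorization p) = p ^ a * p ^ ((Nat.card C).factorization p - s) * p ^ s := by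
      rw [mul_assoc, ← pow_add, ← pow_add]
      congr 1
      omega
    rw [h1] at horb
    have h2 := Nat.eq_of_mul_eq_mul_right (pow_pos hp.pos s) horb
    rw [h2]
    exact Nat.le_mul_of_pos_right _ (pow_pos hp.pos _)
  have huniv : MulAction.orbit (P : Subgroup M) b = Set.univ := by
    apply Set.eq_of_subset_of_ncard_le (Set.subset_univ _)
    rw [Set.ncard_univ, ← Subgroup.index_eq_card, hC]
    exact horb2
  have h1 : ((1 : M) : M ⧸ C) ∈ MulAction.orbit (P : Subgroup M) b := by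
    rw [huniv]
    exact Set.mem_univ _
  obtain ⟨u, hu⟩ := h1
  rw [hbdef] at hu
  have h2 : (((u : M) * g : M) : M ⧸ C) = ((1 : M) : M ⧸ C) := hu
  have h3 := QuotientGroup.eq.1 h2
  refine ⟨(u : M)⁻¹, (P : Subgroup M).inv_mem u.2, (u : M) * g, ?_, by group⟩
  have h4 := C.inv_mem h3
  have e : (((u : M) * g)⁻¹ * 1)⁻¹ = (u : M) * g := by group
  rwa [e] at h4

/-- a `p`-element whose centralizer has `p`-power index lies in every Sylow `p`-subgroup -/
theorem mem_sylow_of_index_pow {p : ℕ} [Fact p.Prime] (P : Sylow p M) {x : M} {a : ℕ}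
    (hx : (Subgroup.centralizer ({x} : Set M)).index = p ^ a) {k : ℕ} (hxk : x ^ (p ^ k) = 1) :
    x ∈ (P : Subgroup M) := by
  have hZ : IsPGroup p (Subgroup.zpowers x) := by
    intro t
    obtain ⟨i, hi⟩ := Subgroup.mem_zpowers_iff.1 t.2
    refine ⟨k, Subtype.ext ?_⟩
    show (t : M) ^ (p ^ k) = 1
    rw [← hi, ← zpow_natCast, ← zpow_mul, mul_comm, zpow_mul, zpow_natCast, hxk, one_zpow]
  obtain ⟨g, hg⟩ := Cfsg.Agent.Lib.Helper29.exists_cj_le_sylow P hZ
  have h1 : g * x * g⁻¹ ∈ (P : Subgroup M) :=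
    hg (Cfsg.Agent.Lib.Helper29.conj_mem_cj (Subgroup.mem_zpowers x))
  obtain ⟨u, hu, c, hc, hguc⟩ := exists_mul_of_index_pow P _ hx g
  have hcx : x * c = c * x := Subgroup.mem_centralizer_iff.1 hc x rfl
  have h2 : g * x * g⁻¹ = u * x * u⁻¹ := by
    rw [hguc]
    calc u * c * x * (u * c)⁻¹ = u * (c * x) * c⁻¹ * u⁻¹ := by group
      _ = u * (x * c) * c⁻¹ * u⁻¹ := by rw [hcx]
      _ = u * x * u⁻¹ := by group
  rw [h2] at h1
  have h3 := (P : Subgroup M).mul_mem ((P : Subgroup M).mul_mem ((P : Subgroup M).inv_mem hu) h1) hu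
  have e : u⁻¹ * (u * x * u⁻¹) * u = x := by group
  rwa [e] at h3

/-- an `r`-element (`r ≠ p`) centralizes some `P`-conjugate of an element with centralizer of `p`-power index -/
theorem exists_conj_comm {p : ℕ} [Fact p.Prime] (P : Sylow p M) {y : M} {a : ℕ}
    (hy : (Subgroup.centralizer ({y} : Set M)).index = p ^ a) {r : ℕ} (hr : r.Prime) (hrp : r ≠ p)
    {g : M} {k : ℕ} (hg : g ^ (r ^ k) = 1) :
    ∃ u ∈ (P : Subgroup M), g * (u * y * u⁻¹) = (u * y * u⁻¹) * g := by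
  have hp : p.Prime := Fact.out
  haveI := Fact.mk hr
  have hZ : IsPGroup r (Subgroup.zpowers g) := by
    intro t
    obtain ⟨i, hi⟩ := Subgroup.mem_zpowers_iff.1 t.2
    refine ⟨k, Subtype.ext ?_⟩
    show (t : M) ^ (r ^ k) = 1
    rw [← hi, ← zpow_natCast, ← zpow_mul, mul_comm, zpow_mul, zpow_natCast, hg, one_zpow]
  have hnd : ¬ r ∣ Nat.card (M ⧸ Subgroup.centralizer ({y} : Set M)) := by
    rw [← Subgroup.index_eq_card, hy]
    intro h
    exact hrp ((Nat.prime_dvd_prime_iff_eq hr hp).1 (hr.dvd_of_dvd_pow h))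
  obtain ⟨b, hb⟩ := hZ.nonempty_fixed_point_of_prime_not_dvd_card
    (M ⧸ Subgroup.centralizer ({y} : Set M)) hnd
  obtain ⟨h, rfl⟩ := QuotientGroup.mk_surjective b
  have h1 : (⟨g, Subgroup.mem_zpowers g⟩ : Subgroup.zpowers g) •
      (h : M ⧸ Subgroup.centralizer ({y} : Set M)) = h := hb _
  have h2 : ((g * h : M) : M ⧸ Subgroup.centralizer ({y} : Set M)) =
      (h : M ⧸ Subgroup.centralizer ({y} : Set M)) := h1
  have h3 : (g * h)⁻¹ * h ∈ Subgroup.centralizer ({y} : Set M) := QuotientGroup.eq.1 h2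
  have h4 : y * ((g * h)⁻¹ * h) = ((g * h)⁻¹ * h) * y := Subgroup.mem_centralizer_iff.1 h3 y rfl
  obtain ⟨u, hu, c, hc, hhuc⟩ := exists_mul_of_index_pow P _ hy h
  have hcy : y * c = c * y := Subgroup.mem_centralizer_iff.1 hc y rfl
  refine ⟨u, hu, ?_⟩
  have hw : u * y * u⁻¹ = h * y * h⁻¹ := by
    rw [hhuc]
    calc u * y * u⁻¹ = u * (y * c) * c⁻¹ * u⁻¹ := by group
      _ = u * (c * y) * c⁻¹ * u⁻¹ := by rw [hcy]
      _ = u * c * y * (u * c)⁻¹ := by group
  rw [hw]
  have h5 : (h * y * h⁻¹) * g⁻¹ = g⁻¹ * (h * y * h⁻¹) := by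
    calc (h * y * h⁻¹) * g⁻¹ = h * (y * ((g * h)⁻¹ * h)) * h⁻¹ := by group
      _ = h * (((g * h)⁻¹ * h) * y) * h⁻¹ := by rw [h4]
      _ = g⁻¹ * (h * y * h⁻¹) := by group
  calc g * (h * y * h⁻¹) = g * ((h * y * h⁻¹) * g⁻¹) * g := by group
    _ = g * (g⁻¹ * (h * y * h⁻¹)) * g := by rw [h5]
    _ = (h * y * h⁻¹) * g := by group

/-- in a `p`-group `K`, a proper subgroup `C` of a `K`-invariant subgroup `Y` misses some `K`-class of `Y` -/
theorem exists_not_conj_mem {p : ℕ} [Fact p.Prime] {K : Subgroup M} (hK : IsPGroup p K) :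
    ∀ (n : ℕ) (Y C : Subgroup M), Nat.card Y = n → Y ≤ K → K ≤ Subgroup.normalizer (Y : Set M) → C < Y →
      ∃ y ∈ Y, ∀ u ∈ K, u * y * u⁻¹ ∉ C := by
  intro n
  induction n using Nat.strong_induction_on with
  | _ n ih =>
  intro Y C hn hYK hKY hCY
  have hYne : Y ≠ ⊥ := by
    rintro rfl
    exact not_lt_bot hCY
  have hY₁lt : ⁅Y, K⁆ < Y := Cfsg.Agent.S0663.comm_lt hK hYK hKY hYne
  have hconjY : ∀ u ∈ K, ∀ y ∈ Y, u * y * u⁻¹ ∈ Y := fun u hu y hy =>
    (Subgroup.mem_normalizer_iff.1 (hKY hu) y).1 hy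
  have hY₁n : K ≤ Subgroup.normalizer ((⁅Y, K⁆ : Subgroup M) : Set M) := by
    intro u hu
    apply Subgroup.mem_normalizer_fintype
    intro x hx
    have h1 : (⁅Y, K⁆ : Subgroup M) ≤ (⁅Y, K⁆ : Subgroup M).comap (MulAut.conj u).toMonoidHom := by
      rw [Subgroup.commutator_le]
      intro y hy k hk
      show u * ⁅y, k⁆ * u⁻¹ ∈ (⁅Y, K⁆ : Subgroup M)
      have e : u * ⁅y, k⁆ * u⁻¹ = ⁅u * y * u⁻¹, u * k * u⁻¹⁆ := by
        simp only [commutatorElement_def]
        group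
      rw [e]
      exact Subgroup.commutator_mem_commutator (hconjY u hu y hy)
        (K.mul_mem (K.mul_mem hu hk) (K.inv_mem hu))
    exact h1 hx
  by_cases hcase : C ⊔ ⁅Y, K⁆ < Y
  · obtain ⟨y, hyY, hyn⟩ := SetLike.exists_of_lt hcase
    refine ⟨y, hyY, fun u hu hcon => hyn ?_⟩
    have h1 : y * (u * y * u⁻¹)⁻¹ ∈ (⁅Y, K⁆ : Subgroup M) := by
      have e : y * (u * y * u⁻¹)⁻¹ = ⁅y, u⁆ := by
        rw [commutatorElement_def]
        group
      rw [e]
      exact Subgroup.commutator_mem_commutator hyY hu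
    have h2 : y = (y * (u * y * u⁻¹)⁻¹) * (u * y * u⁻¹) := by group
    rw [h2]
    exact Subgroup.mul_mem _ ((le_sup_right : (⁅Y, K⁆ : Subgroup M) ≤ C ⊔ ⁅Y, K⁆) h1)
      ((le_sup_left : C ≤ C ⊔ ⁅Y, K⁆) hcon)
  · have hsup : C ⊔ ⁅Y, K⁆ = Y :=
      (lt_or_eq_of_le (sup_le hCY.le hY₁lt.le)).resolve_left hcase
    have hlt : C ⊓ ⁅Y, K⁆ < ⁅Y, K⁆ := by
      refine lt_of_le_of_ne inf_le_right ?_
      intro heq
      have h1 : (⁅Y, K⁆ : Subgroup M) ≤ C := inf_eq_right.1 heq
      rw [sup_eq_left.2 h1] at hsup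
      exact hCY.ne hsup
    have hcard : Nat.card (⁅Y, K⁆ : Subgroup M) < n := by
      rw [← hn]
      exact Cfsg.Agent.Lib.Helper11.card_lt_card_of_lt hY₁lt
    obtain ⟨y, hy, hyn⟩ := ih _ hcard ⁅Y, K⁆ (C ⊓ ⁅Y, K⁆) rfl (hY₁lt.le.trans hYK) hY₁n hlt
    refine ⟨y, hY₁lt.le hy, fun u hu hcon => hyn u hu ⟨hcon, ?_⟩⟩
    exact (Subgroup.mem_normalizer_iff.1 (hY₁n hu) y).1 hy

end finite

end Cfsg.Agent.Lib.Helper25
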