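import Mathlib

/-!
helper25: a finite solvable group whose Sylow 2-subgroup is generalized quaternion of order at
least 16 cannot have all its cyclic subgroups of order 4 conjugate.
-/

set_option autoImplicit false

namespace Cfsg.Agent.Lib.Helper25.QuatDescent

open QuaternionGroup

universe u

/-- a proper normal subgroup with solvable quotient lies in a normal subgroup of prime index
(after helper7's `ExtDet.exists_normal_prime_index`). -/
theorem exists_normal_prime_index {G : Type*} [Group G] [Finite G] (N : Subgroup G) [N.Normal]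
    (hN : N ≠ ⊤) (hsolv : Group.IsSolvable (G ⧸ N)) :
    ∃ M : Subgroup G, M.Normal ∧ N ≤ M ∧ M.index.Prime := by
  classical
  let S : Set (Subgroup G) := {M | M.Normal ∧ N ≤ M ∧ M ≠ ⊤}
  have hS : S.Nonempty := ⟨N, inferInstance, le_refl _, hN⟩
  obtain ⟨M, hMS, hMmax⟩ := (wellFounded_gt (α := Subgroup G)).has_min S hS
  obtain ⟨hMn, hNM, hMtop⟩ := hMS
  have := hMn
  refine ⟨M, hMn, hNM, ?_⟩
  have hsolvM : Group.IsSolvable (G ⧸ M) := by
    have hsurj : Function.Surjective (QuotientGroup.map N M (MonoidHom.id G) hNM) := by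
      intro x
      obtain ⟨g, rfl⟩ := QuotientGroup.mk_surjective x
      exact ⟨QuotientGroup.mk g, rfl⟩
    exact Group.isSolvable_of_surjective hsurj
  haveI : Nontrivial (G ⧸ M) := QuotientGroup.nontrivial_iff.mpr hMtop
  haveI hsimple : IsSimpleGroup (G ⧸ M) := by
    refine ⟨fun H hH => ?_⟩
    haveI := hH
    let K := H.comap (QuotientGroup.mk' M)
    have hKn : K.Normal := inferInstance
    have hMK : M ≤ K := by
      intro x hx
      show (QuotientGroup.mk' M) x ∈ H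
      have : (QuotientGroup.mk' M) x = 1 := (QuotientGroup.eq_one_iff x).mpr hx
      rw [this]; exact H.one_mem
    by_cases hK : K = ⊤
    · right
      have := Subgroup.map_comap_eq_self_of_surjective (QuotientGroup.mk'_surjective M) H
      rw [← this]
      show K.map _ = ⊤
      rw [hK, ← MonoidHom.range_eq_map, MonoidHom.range_eq_top]
      exact QuotientGroup.mk'_surjective M
    · left
      have hKS : K ∈ S := ⟨hKn, hNM.trans hMK, hK⟩
      have hKM : K = M := by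
        by_contra hne
        exact hMmax K hKS (lt_of_le_of_ne hMK (Ne.symm hne))
      have h2 : H.comap (QuotientGroup.mk' M) =
          (⊥ : Subgroup (G ⧸ M)).comap (QuotientGroup.mk' M) := by
        show K = _
        rw [hKM]
        have : (⊥ : Subgroup (G ⧸ M)).comap (QuotientGroup.mk' M) = (QuotientGroup.mk' M).ker :=
          rfl
        rw [this, QuotientGroup.ker_mk']
      exact Subgroup.comap_injective (QuotientGroup.mk'_surjective M) h2
  have hcomm : ∀ a b : G ⧸ M, a * b = b * a := IsSimpleGroup.comm_iff_isSolvable.mpr hsolvM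
  let _ : CommGroup (G ⧸ M) := { (inferInstance : Group (G ⧸ M)) with mul_comm := hcomm }
  have := IsSimpleGroup.prime_card (α := G ⧸ M)
  rwa [← Subgroup.index_eq_card] at this

theorem eq_one_of_pow_coprime {H : Type*} [Group H] (c : H) (a b : ℕ) (hab : Nat.Coprime a b)
    (ha : c ^ a = 1) (hb : c ^ b = 1) : c = 1 := by
  have h3 : orderOf c ∣ Nat.gcd a b :=
    Nat.dvd_gcd (orderOf_dvd_of_pow_eq_one ha) (orderOf_dvd_of_pow_eq_one hb)
  rw [hab.gcd_eq_one, Nat.dvd_one] at h3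
  exact orderOf_eq_one_iff.mp h3

theorem orderOf_c (k : ℕ) : orderOf (a 1 : QuaternionGroup (2 ^ k)) = 2 ^ (k + 1) := by
  rw [orderOf_a_one]; ring

theorem orderOf_u (k : ℕ) (hk : 2 ≤ k) :
    orderOf ((a 1 : QuaternionGroup (2 ^ k)) ^ 2 ^ (k - 1)) = 4 := by
  rw [orderOf_pow_of_dvd (by positivity)
    (by rw [orderOf_c]; exact pow_dvd_pow 2 (by omega)), orderOf_c]
  obtain ⟨j, rfl⟩ : ∃ j, k = j + 1 := ⟨k - 1, by omega⟩
  simp only [Nat.add_sub_cancel]
  rw [show 2 ^ (j + 1 + 1) = 2 ^ j * 4 by ring]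
  exact Nat.mul_div_cancel_left 4 (by positivity)

theorem mem_zpowers_u (k : ℕ) (hk : 2 ≤ k) (v w : QuaternionGroup (2 ^ k)) (hw : w ^ 2 = v)
    (hv : v ^ 4 = 1) :
    v ∈ Subgroup.zpowers ((a 1 : QuaternionGroup (2 ^ k)) ^ 2 ^ (k - 1)) := by
  haveI : NeZero (2 ^ k) := ⟨by positivity⟩
  haveI : NeZero (2 * 2 ^ k) := ⟨by positivity⟩
  rcases w with i | i
  · have hi : (a i : QuaternionGroup (2 ^ k)) = (a 1) ^ i.val := by
      rw [a_one_pow, ZMod.natCast_zmod_val]
    rw [hi, ← pow_mul] at hw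
    rw [← hw, ← pow_mul] at hv
    have hdvd : 2 ^ (k + 1) ∣ i.val * 2 * 4 := by
      rw [← orderOf_c]; exact orderOf_dvd_of_pow_eq_one hv
    obtain ⟨k', rfl⟩ : ∃ k', k = k' + 2 := ⟨k - 2, by omega⟩
    have h2 : 2 ^ k' ∣ i.val := by
      have : 2 ^ k' * 8 ∣ i.val * 8 := by
        have e1 : 2 ^ (k' + 2 + 1) = 2 ^ k' * 8 := by ring
        have e2 : i.val * 2 * 4 = i.val * 8 := by ring
        rwa [e1, e2] at hdvd
      exact Nat.dvd_of_mul_dvd_mul_right (by norm_num) this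
    obtain ⟨j, hj⟩ := h2
    rw [← hw, Subgroup.mem_zpowers_iff]
    refine ⟨(j : ℤ), ?_⟩
    rw [zpow_natCast, ← pow_mul]
    congr 1
    rw [hj, show k' + 2 - 1 = k' + 1 by omega]
    ring
  · rw [xa_sq] at hw
    rw [← hw, Subgroup.mem_zpowers_iff]
    refine ⟨2, ?_⟩
    rw [zpow_ofNat, ← pow_mul, a_one_pow]
    congr 1
    obtain ⟨j, rfl⟩ : ∃ j, k = j + 1 := ⟨k - 1, by omega⟩
    simp only [Nat.add_sub_cancel]
    push_cast; ring

theorem eq_top_of_order_four (k : ℕ) (S : Subgroup (QuaternionGroup (2 ^ k)))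
    (hS : ∀ y : QuaternionGroup (2 ^ k), orderOf y = 4 → y ∈ S) : S = ⊤ := by
  haveI : NeZero (2 ^ k) := ⟨by positivity⟩
  rw [eq_top_iff]; intro x _
  have hxa : ∀ i, (xa i : QuaternionGroup (2 ^ k)) ∈ S := fun i => hS _ (orderOf_xa i)
  rcases x with i | i
  · have : (a i : QuaternionGroup (2 ^ k)) = xa 0 * xa (i - ((2 ^ k : ℕ) : ZMod (2 * 2 ^ k))) := by
      rw [xa_mul_xa]; congr 1; ring
    rw [this]; exact mul_mem (hxa _) (hxa _)
  · exact hxa i

theorem quat_false_aux (n : ℕ) : ∀ (H : Type u) [Group H] [Finite H], Nat.card H = n →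
    Group.IsSolvable H → ∀ (P : Sylow 2 H) (k : ℕ), 2 ≤ k →
    ∀ (e : ↥(P : Subgroup H) ≃* QuaternionGroup (2 ^ k)),
    (∀ x : H, orderOf x = 4 → ∃ h : H, h * x * h⁻¹ ∈
      Subgroup.zpowers
        ((e.symm ((a 1 : QuaternionGroup (2 ^ k)) ^ 2 ^ (k - 1)) : ↥(P : Subgroup H)) : H)) →
    False := by
  induction n using Nat.strong_induction_on with
  | _ n ih =>
  intro H _ _ hcard hsol P k hk e hstar
  haveI : Fact (Nat.Prime 2) := ⟨Nat.prime_two⟩
  have hsol' := hsol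
  obtain ⟨u', hu'⟩ : ∃ u' : QuaternionGroup (2 ^ k), u' = (a 1) ^ 2 ^ (k - 1) := ⟨_, rfl⟩
  obtain ⟨uP, huP⟩ : ∃ uP : ↥(P : Subgroup H), uP = e.symm u' := ⟨_, rfl⟩
  obtain ⟨u, hu⟩ : ∃ u : H, u = (uP : H) := ⟨_, rfl⟩
  rw [← hu', ← huP, ← hu] at hstar
  have hou' : orderOf u' = 4 := by rw [hu']; exact orderOf_u k hk
  have houP : orderOf uP = 4 := by rw [huP, MulEquiv.orderOf_eq]; exact hou'
  have hou : orderOf u = 4 := by rw [hu, Subgroup.orderOf_coe]; exact houP
  have hu4 : u ^ 4 = 1 := by rw [← hou]; exact pow_orderOf_eq_one u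
  have huPmem : u ∈ (P : Subgroup H) := by rw [hu]; exact uP.2
  -- a square root of `u` inside `P`
  obtain ⟨w0, hw0P, hw0sq⟩ : ∃ w0 : H, w0 ∈ (P : Subgroup H) ∧ w0 ^ 2 = u := by
    refine ⟨((e.symm ((a 1) ^ 2 ^ (k - 2)) : ↥(P : Subgroup H)) : H), (e.symm _).2, ?_⟩
    rw [hu, huP, hu', ← Subgroup.coe_pow, ← map_pow, ← pow_mul]
    congr 3
    obtain ⟨j, rfl⟩ : ∃ j, k = j + 2 := ⟨k - 2, by omega⟩
    rw [show j + 2 - 1 = j + 1 by omega, show j + 2 - 2 = j by omega]
    ring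
  have hq4 : ∀ v w : H, v ∈ (P : Subgroup H) → w ∈ (P : Subgroup H) → w ^ 2 = v → v ^ 4 = 1 →
      v ∈ Subgroup.zpowers u := by
    intro v w hvP hwP hwv hv4
    have h1 : (e ⟨w, hwP⟩) ^ 2 = e ⟨v, hvP⟩ := by
      rw [← map_pow]; congr 1; exact Subtype.ext hwv
    have h2 : (e ⟨v, hvP⟩) ^ 4 = 1 := by
      rw [← map_pow]
      have : (⟨v, hvP⟩ : ↥(P : Subgroup H)) ^ 4 = 1 := Subtype.ext hv4
      rw [this, map_one]
    have h3 := mem_zpowers_u k hk _ _ h1 h2
    rw [← hu', Subgroup.mem_zpowers_iff] at h3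
    obtain ⟨j, hj⟩ := h3
    rw [Subgroup.mem_zpowers_iff]
    refine ⟨j, ?_⟩
    have h4 : uP ^ j = ⟨v, hvP⟩ := by
      apply e.injective
      rw [map_zpow, huP, MulEquiv.apply_symm_apply]; exact hj
    have := congrArg Subtype.val h4
    rw [hu]
    simpa using this
  have hnt : (⊥ : Subgroup H) ≠ ⊤ := by
    intro h
    have : u ∈ (⊥ : Subgroup H) := h ▸ Subgroup.mem_top u
    rw [Subgroup.mem_bot] at this
    rw [this, orderOf_one] at hou; omega
  have hsolq : Group.IsSolvable (H ⧸ (⊥ : Subgroup H)) :=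
    Group.isSolvable_of_surjective (QuotientGroup.mk'_surjective _)
  obtain ⟨H₁, hH₁n, -, hr⟩ := exists_normal_prime_index (⊥ : Subgroup H) hnt hsolq
  haveI := hH₁n
  by_cases hr2 : H₁.index = 2
  · have huH₁ : u ∈ H₁ := by
      rw [← hw0sq]; exact Subgroup.sq_mem_of_index_two hr2 _
    have h4 : ∀ x : H, orderOf x = 4 → x ∈ H₁ := by
      intro x hx
      obtain ⟨h, hh⟩ := hstar x hx
      have h1 : h * x * h⁻¹ ∈ H₁ := (Subgroup.zpowers_le.mpr huH₁) hh
      have h2 := hH₁n.conj_mem _ h1 h⁻¹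
      simpa [mul_assoc] using h2
    have hPH₁ : (P : Subgroup H) ≤ H₁ := by
      obtain ⟨S, hSdef⟩ : ∃ S : Subgroup (QuaternionGroup (2 ^ k)),
        S = (H₁.subgroupOf (P : Subgroup H)).map e.toMonoidHom := ⟨_, rfl⟩
      have hS : S = ⊤ := by
        apply eq_top_of_order_four
        intro y hy
        rw [hSdef]
        refine ⟨e.symm y, ?_, by simp⟩
        rw [SetLike.mem_coe, Subgroup.mem_subgroupOf]
        apply h4
        rw [Subgroup.orderOf_coe, MulEquiv.orderOf_eq]; exact hy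
      intro y hy
      have h1 : e ⟨y, hy⟩ ∈ S := hS ▸ Subgroup.mem_top _
      rw [hSdef] at h1
      obtain ⟨y', hy', hyy⟩ := h1
      have h2 : y' = ⟨y, hy⟩ := e.injective hyy
      rw [h2] at hy'
      exact Subgroup.mem_subgroupOf.mp hy'
    have h5 := Subgroup.index_dvd_of_le hPH₁
    rw [hr2] at h5
    exact P.not_dvd_index h5
  · have hrodd : Nat.Coprime 2 H₁.index := by
      rw [Nat.coprime_primes Nat.prime_two hr]; exact fun h => hr2 h.symm
    have hPH₁ : (P : Subgroup H) ≤ H₁ := by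
      intro y hy
      obtain ⟨j, hj⟩ := P.isPGroup' ⟨y, hy⟩
      have hj' : y ^ 2 ^ j = 1 := by simpa using congrArg Subtype.val hj
      have h1 : ((y : H ⧸ H₁)) ^ 2 ^ j = 1 := by
        rw [← QuotientGroup.mk_pow, hj']; rfl
      have h2 : ((y : H ⧸ H₁)) ^ H₁.index = 1 := by
        rw [Subgroup.index_eq_card]; exact pow_card_eq_one'
      have h3 : ((y : H ⧸ H₁)) = 1 :=
        eq_one_of_pow_coprime _ _ _ (Nat.Coprime.pow_left _ hrodd) h1 h2
      exact (QuotientGroup.eq_one_iff y).mp h3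
    obtain ⟨P₁, hP₁def⟩ : ∃ P₁ : Sylow 2 ↥H₁, P₁ = P.subtype hPH₁ := ⟨_, rfl⟩
    have hP₁ : (P₁ : Subgroup ↥H₁) = (P : Subgroup H).subgroupOf H₁ := by
      rw [hP₁def]; exact Sylow.coe_subtype P hPH₁
    let e₁ : ↥(P₁ : Subgroup ↥H₁) ≃* QuaternionGroup (2 ^ k) :=
      (MulEquiv.subgroupCongr hP₁).trans ((Subgroup.subgroupOfEquivOfLe hPH₁).trans e)
    have hu₁ : (((e₁.symm u' : ↥(P₁ : Subgroup ↥H₁)) : ↥H₁) : H) = u := by
      rw [hu, huP]; rfl
    have hcard₁ : Nat.card ↥H₁ < n := by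
      rw [← hcard, ← Subgroup.card_mul_index H₁]
      have h2 : 2 ≤ H₁.index := hr.two_le
      have hpos : 0 < Nat.card ↥H₁ := Nat.card_pos
      nlinarith
    have hsol₁ : Group.IsSolvable ↥H₁ :=
      Group.isSolvable_of_isSolvable_injective (Subgroup.subtype_injective H₁)
    apply ih _ hcard₁ ↥H₁ rfl hsol₁ P₁ k hk e₁
    rw [← hu']
    intro x hx
    have hx' : orderOf (x : H) = 4 := by rw [Subgroup.orderOf_coe]; exact hx
    obtain ⟨h, hh⟩ := hstar x hx'
    have hfr := Sylow.normalizer_sup_eq_top' P hPH₁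
    have hmem : h ∈ ((Subgroup.normalizer ((P : Subgroup H) : Set H) ⊔ H₁ : Subgroup H) : Set H) := by
      have : h ∈ (⊤ : Subgroup H) := Subgroup.mem_top h
      rw [← hfr] at this
      exact this
    rw [Subgroup.mul_normal, Set.mem_mul] at hmem
    obtain ⟨nn, hnn, h₁, hh₁, rfl⟩ := hmem
    obtain ⟨m, hm⟩ : ∃ m : H, m = nn⁻¹ := ⟨_, rfl⟩
    have hmN : m ∈ Subgroup.normalizer ((P : Subgroup H) : Set H) := by
      rw [hm]; exact inv_mem hnn
    have hconj : ∀ y ∈ (P : Subgroup H), m * y * m⁻¹ ∈ (P : Subgroup H) := by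
      intro y hy
      exact (Subgroup.mem_normalizer_iff.mp hmN y).mp hy
    have hN : ∀ v ∈ Subgroup.zpowers u, m * v * m⁻¹ ∈ Subgroup.zpowers u := by
      intro v hv
      rw [Subgroup.mem_zpowers_iff] at hv
      obtain ⟨j, rfl⟩ := hv
      apply hq4 (m * u ^ j * m⁻¹) (m * w0 ^ j * m⁻¹)
      · exact hconj _ (zpow_mem huPmem j)
      · exact hconj _ (zpow_mem hw0P j)
      · rw [conj_pow, ← hw0sq]
        congr 2
        rw [← zpow_natCast, ← zpow_natCast, ← zpow_mul, ← zpow_mul, mul_comm]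
      · rw [conj_pow]
        have : (u ^ j) ^ 4 = 1 := by
          rw [← zpow_natCast, ← zpow_mul, mul_comm, zpow_mul, zpow_natCast, hu4, one_zpow]
        rw [this]; group
    have hy : h₁ * (x : H) * h₁⁻¹ ∈ Subgroup.zpowers u := by
      have := hN _ hh
      rw [hm] at this
      have e1 : nn⁻¹ * (nn * h₁ * ↑x * (nn * h₁)⁻¹) * nn⁻¹⁻¹ = h₁ * (x : H) * h₁⁻¹ := by group
      rwa [e1] at this
    rw [Subgroup.mem_zpowers_iff] at hy
    obtain ⟨j, hj⟩ := hy
    refine ⟨⟨h₁, hh₁⟩, ?_⟩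
    rw [Subgroup.mem_zpowers_iff]
    refine ⟨j, ?_⟩
    apply Subtype.ext
    rw [Subgroup.coe_zpow, hu₁, hj]
    rfl

/-- A finite solvable group with a generalized quaternion Sylow 2-subgroup of order at least 16
has two non-conjugate cyclic subgroups of order 4: stated contrapositively. -/
theorem quat_false {H : Type u} [Group H] [Finite H] (hsol : Group.IsSolvable H) (P : Sylow 2 H)
    (k : ℕ) (hk : 2 ≤ k) (e : ↥(P : Subgroup H) ≃* QuaternionGroup (2 ^ k))
    (hstar : ∀ x y : H, orderOf x = 4 → orderOf y = 4 →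
      ∃ h : H, h * x * h⁻¹ ∈ Subgroup.zpowers y) : False :=
  quat_false_aux _ H rfl hsol P k hk e (fun x hx => hstar x _ hx (by
    rw [Subgroup.orderOf_coe, MulEquiv.orderOf_eq]; exact orderOf_u k hk))

end Cfsg.Agent.Lib.Helper25.QuatDescent
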