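import Mathlib
import Cfsg.Prelude.Def_TwoFusion

/-!
Facts on generalized quaternion groups and an invariant central involution (helper25), used for
S3269 (Sylow 2-subgroup `Q × R`, `Q` generalized quaternion, involutions of `R` central).
-/

set_option autoImplicit false
open Cfsg

namespace Cfsg.Agent.Lib.Helper25.QuatDirect

open QuaternionGroup

theorem zmod_add_self {m : ℕ} [NeZero m] (i : ZMod (2 * m)) (h : i + i = 0) :
    i = 0 ∨ i = ((m : ℕ) : ZMod (2 * m)) := by
  have hv : ((i.val + i.val : ℕ) : ZMod (2 * m)) = 0 := by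
    rw [Nat.cast_add, ZMod.natCast_zmod_val]; exact h
  rw [ZMod.natCast_eq_zero_iff] at hv
  have hlt := ZMod.val_lt i
  have hv' : 2 * m ∣ 2 * i.val := by rw [two_mul i.val]; exact hv
  have hmv : m ∣ i.val := (Nat.mul_dvd_mul_iff_left (by norm_num)).mp hv'
  obtain ⟨k, hk⟩ := hmv
  have hk2 : k < 2 := by
    have h1 : m * k < m * 2 := by rw [← hk]; linarith
    exact Nat.lt_of_mul_lt_mul_left h1
  interval_cases k
  · left
    have h0 : i.val = 0 := by rw [hk]; simp
    exact (ZMod.val_eq_zero i).mp h0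
  · right
    have h0 : i.val = m := by rw [hk]; simp
    have h1 : ((i.val : ℕ) : ZMod (2 * m)) = i := ZMod.natCast_zmod_val i
    rw [h0] at h1
    exact h1.symm

theorem a_m_ne_one {m : ℕ} [NeZero m] :
    (a ((m : ℕ) : ZMod (2 * m)) : QuaternionGroup m) ≠ 1 := by
  rw [one_def]
  intro h
  have h1 : ((m : ℕ) : ZMod (2 * m)) = 0 := by injection h
  rw [ZMod.natCast_eq_zero_iff] at h1
  have h2 := Nat.le_of_dvd (Nat.pos_of_ne_zero (NeZero.ne m)) h1
  have h3 := Nat.pos_of_ne_zero (NeZero.ne m)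
  omega

theorem quat_sq_one {m : ℕ} [NeZero m] (g : QuaternionGroup m) (h : g * g = 1) :
    g = 1 ∨ g = a ((m : ℕ) : ZMod (2 * m)) := by
  cases g with
  | a i =>
    rw [a_mul_a, one_def] at h
    have h1 : i + i = 0 := by injection h
    rcases zmod_add_self i h1 with rfl | rfl
    · left; exact a_zero
    · right; rfl
  | xa i =>
    exfalso
    rw [xa_mul_xa, add_sub_cancel_right] at h
    exact a_m_ne_one h

theorem quat_center {m : ℕ} [NeZero m] (hm : 2 ≤ m) (g : QuaternionGroup m)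
    (h : ∀ x : QuaternionGroup m, g * x = x * g) :
    g = 1 ∨ g = a ((m : ℕ) : ZMod (2 * m)) := by
  cases g with
  | a i =>
    have h1 := h (xa 0)
    rw [a_mul_xa, xa_mul_a] at h1
    have h2 : (0 : ZMod (2 * m)) - i = 0 + i := by injection h1
    have h3 : i + i = 0 := by
      have e : i + i = (0 + i) - (0 - i) := by ring
      rw [e, h2, sub_self]
    rcases zmod_add_self i h3 with rfl | rfl
    · left; exact a_zero
    · right; rfl
  | xa i =>
    exfalso
    have h1 := h (a 1)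
    rw [xa_mul_a, a_mul_xa] at h1
    have h2 : i + 1 = i - 1 := by injection h1
    have h3 : ((2 : ℕ) : ZMod (2 * m)) = 0 := by
      have e : ((2 : ℕ) : ZMod (2 * m)) = (i + 1) - (i - 1) := by push_cast; ring
      rw [e, h2, sub_self]
    rw [ZMod.natCast_eq_zero_iff] at h3
    have h4 := Nat.le_of_dvd (by norm_num) h3
    omega

theorem quat_z_central {m : ℕ} [NeZero m] (g : QuaternionGroup m) :
    a ((m : ℕ) : ZMod (2 * m)) * g = g * a ((m : ℕ) : ZMod (2 * m)) := by
  have hmm : ((m : ℕ) : ZMod (2 * m)) + (m : ℕ) = 0 := by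
    rw [← Nat.cast_add, ← two_mul, ZMod.natCast_self]
  cases g with
  | a i => rw [a_mul_a, a_mul_a, add_comm]
  | xa i =>
    rw [a_mul_xa, xa_mul_a]
    congr 1
    have e : i - ((m : ℕ) : ZMod (2 * m)) = i + (m : ℕ) - (((m : ℕ) : ZMod (2 * m)) + (m : ℕ)) := by
      ring
    rw [e, hmm, sub_zero]

/-- the facts on a generalized quaternion subgroup that are used below -/
theorem quat_facts {G : Type*} [Group G] (Q : Subgroup G) (n : ℕ) (hn : 1 ≤ n)
    (e : ↥Q ≃* QuaternionGroup (2 ^ n)) :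
    ∃ z y : G, z ∈ Q ∧ y ∈ Q ∧ z ≠ 1 ∧ z * z = 1 ∧ y * y = z ∧
      (∀ q ∈ Q, q * q = 1 → q = 1 ∨ q = z) ∧
      (∀ q ∈ Q, (∀ x ∈ Q, q * x = x * q) → q = 1 ∨ q = z) ∧
      (∀ x ∈ Q, z * x = x * z) := by
  haveI : NeZero (2 ^ n) := ⟨by positivity⟩
  have hm : 2 ≤ 2 ^ n := by
    calc 2 = 2 ^ 1 := by norm_num
      _ ≤ 2 ^ n := Nat.pow_le_pow_right (by norm_num) hn
  obtain ⟨z₀, hz₀⟩ : ∃ z₀ : QuaternionGroup (2 ^ n),
      z₀ = a (((2 ^ n : ℕ)) : ZMod (2 * 2 ^ n)) := ⟨_, rfl⟩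
  have hz₀ne : z₀ ≠ 1 := by rw [hz₀]; exact a_m_ne_one
  have hz₀sq : z₀ * z₀ = 1 := by
    rw [hz₀, a_mul_a, ← Nat.cast_add, ← two_mul, ZMod.natCast_self, a_zero]
  have hxa : (xa 0 : QuaternionGroup (2 ^ n)) * xa 0 = z₀ := by
    rw [hz₀, xa_mul_xa, add_sub_cancel_right]
  have tr : ∀ q : ↥Q, (e q = 1 ∨ e q = z₀) → ((q : G) = 1 ∨ (q : G) = ((e.symm z₀ : ↥Q) : G)) := by
    intro q hq
    rcases hq with h | h
    · left
      have : q = 1 := (MulEquiv.map_eq_one_iff e).mp h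
      rw [this]; rfl
    · right
      have : q = e.symm z₀ := by rw [← h, MulEquiv.symm_apply_apply]
      rw [this]
  refine ⟨((e.symm z₀ : ↥Q) : G), ((e.symm (xa 0) : ↥Q) : G), (e.symm z₀).2, (e.symm (xa 0)).2,
    ?_, ?_, ?_, ?_, ?_, ?_⟩
  · intro h
    apply hz₀ne
    have h1 : e.symm z₀ = 1 := Subtype.ext h
    exact (MulEquiv.map_eq_one_iff e.symm).mp h1
  · have h1 : e.symm z₀ * e.symm z₀ = 1 := by rw [← map_mul, hz₀sq, map_one]
    have := congrArg Subtype.val h1
    simpa using this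
  · have h1 : e.symm (xa 0) * e.symm (xa 0) = e.symm z₀ := by rw [← map_mul, hxa]
    have := congrArg Subtype.val h1
    simpa using this
  · intro q hq hqq
    apply tr ⟨q, hq⟩
    rw [hz₀]
    apply quat_sq_one
    rw [← map_mul]
    have : (⟨q, hq⟩ : ↥Q) * ⟨q, hq⟩ = 1 := Subtype.ext hqq
    rw [this, map_one]
  · intro q hq hqc
    apply tr ⟨q, hq⟩
    rw [hz₀]
    apply quat_center hm
    intro x
    obtain ⟨x', rfl⟩ := e.surjective x
    rw [← map_mul, ← map_mul]
    congr 1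
    apply Subtype.ext
    exact hqc x' x'.2
  · intro x hx
    have h1 : e.symm z₀ * ⟨x, hx⟩ = ⟨x, hx⟩ * e.symm z₀ := by
      apply e.injective
      rw [map_mul, map_mul, MulEquiv.apply_symm_apply, hz₀]
      exact quat_z_central _
    have := congrArg Subtype.val h1
    simpa using this

end Cfsg.Agent.Lib.Helper25.QuatDirect
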