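import Cfsg.Agent.Lib.Helper25.QuatDirectA

/-!
An invariant central involution: the product of the orbit of `z` under the normalizer (helper25).
-/

set_option autoImplicit false
open Cfsg
open scoped IsMulCommutative

namespace Cfsg.Agent.Lib.Helper25.QuatDirect

theorem exists_invariant {G : Type*} [Group G] (S : Subgroup G) [Finite ↥S] (R : Subgroup G)
    (z : G) (hzS : z ∈ S) (hzc : ∀ s ∈ S, z * s = s * z) (hzR : z ∉ R) (hzz : z * z = 1)
    (hkey : ∀ n₀ ∈ Subgroup.normalizer (S : Set G), n₀ * z * n₀⁻¹ ≠ z → n₀ * z * n₀⁻¹ ∈ R) :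
    ∃ t ∈ S, t ≠ 1 ∧ t * t = 1 ∧ (∀ s ∈ S, t * s = s * t) ∧
      ∀ n₀ ∈ Subgroup.normalizer (S : Set G), n₀ * t * n₀⁻¹ = t := by
  classical
  haveI : Fintype ↥(Subgroup.center ↥S) := Fintype.ofFinite _
  obtain ⟨O, hO⟩ : ∃ O : Finset ↥(Subgroup.center ↥S), ∀ c, c ∈ O ↔
      ∃ n₀ ∈ Subgroup.normalizer (S : Set G), ((c : ↥S) : G) = n₀ * z * n₀⁻¹ :=
    ⟨Finset.univ.filter
      (fun c => ∃ n₀ ∈ Subgroup.normalizer (S : Set G), ((c : ↥S) : G) = n₀ * z * n₀⁻¹),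
      fun c => by simp⟩
  have hz₀c : (⟨z, hzS⟩ : ↥S) ∈ Subgroup.center ↥S := by
    rw [Subgroup.mem_center_iff]
    intro s
    apply Subtype.ext
    simp only [Subgroup.coe_mul]
    exact (hzc s s.2).symm
  obtain ⟨z₀, hz₀⟩ : ∃ z₀ : ↥(Subgroup.center ↥S), ((z₀ : ↥S) : G) = z :=
    ⟨⟨⟨z, hzS⟩, hz₀c⟩, rfl⟩
  have hz₀O : z₀ ∈ O := by
    rw [hO]; exact ⟨1, Subgroup.one_mem _, by rw [hz₀]; group⟩
  obtain ⟨RZ, hRZ⟩ : ∃ RZ : Subgroup ↥(Subgroup.center ↥S), ∀ c, c ∈ RZ ↔ ((c : ↥S) : G) ∈ R :=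
    ⟨R.comap (S.subtype.comp (Subgroup.center ↥S).subtype), fun c => Iff.rfl⟩
  have hrest : ∏ c ∈ O.erase z₀, c ∈ RZ := by
    apply Subgroup.prod_mem
    intro c hc
    rw [Finset.mem_erase] at hc
    obtain ⟨hcne, hcO⟩ := hc
    rw [hO] at hcO
    obtain ⟨n₀, hn₀, hcn⟩ := hcO
    rw [hRZ, hcn]
    apply hkey n₀ hn₀
    intro h
    apply hcne
    apply Subtype.ext; apply Subtype.ext
    rw [hcn, h, hz₀]
  have hprod : z₀ * ∏ c ∈ O.erase z₀, c = ∏ c ∈ O, c :=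
    Finset.mul_prod_erase O (fun c => c) hz₀O
  obtain ⟨t, ht⟩ : ∃ t : ↥(Subgroup.center ↥S), t = ∏ c ∈ O, c := ⟨_, rfl⟩
  have ht1 : t ≠ 1 := by
    intro h
    rw [ht, ← hprod] at h
    have h1 : z₀ = (∏ c ∈ O.erase z₀, c)⁻¹ := eq_inv_of_mul_eq_one_left h
    have hz₀R : z₀ ∈ RZ := by rw [h1]; exact RZ.inv_mem hrest
    rw [hRZ, hz₀] at hz₀R
    exact hzR hz₀R
  have htt : t * t = 1 := by
    rw [← pow_two, ht, ← Finset.prod_pow]
    apply Finset.prod_eq_one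
    intro c hc
    rw [hO] at hc
    obtain ⟨n₀, hn₀, hcn⟩ := hc
    apply Subtype.ext; apply Subtype.ext
    simp only [Subgroup.coe_pow, Subgroup.coe_one]
    rw [hcn, pow_two]
    calc n₀ * z * n₀⁻¹ * (n₀ * z * n₀⁻¹) = n₀ * (z * z) * n₀⁻¹ := by group
      _ = 1 := by rw [hzz]; group
  refine ⟨((t : ↥S) : G), (t : ↥S).2, ?_, ?_, ?_, ?_⟩
  · intro h
    apply ht1
    apply Subtype.ext; apply Subtype.ext
    simpa using h
  · have h1 := congrArg (fun c : ↥(Subgroup.center ↥S) => ((c : ↥S) : G)) htt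
    simpa using h1
  · intro s hs
    have h1 := Subgroup.mem_center_iff.mp t.2 ⟨s, hs⟩
    have h2 := congrArg (fun c : ↥S => (c : G)) h1
    simpa using h2.symm
  · intro n₀ hn₀
    have hN := Subgroup.mem_normalizer_iff.mp hn₀
    have hNinv := Subgroup.mem_normalizer_iff.mp (Subgroup.inv_mem _ hn₀)
    have hσex : ∃ σ : ↥(Subgroup.center ↥S) →* ↥(Subgroup.center ↥S),
        ∀ c, (((σ c) : ↥S) : G) = n₀ * ((c : ↥S) : G) * n₀⁻¹ := by
      have hmem : ∀ s : ↥S, ((MulAut.conj n₀).toMonoidHom.comp S.subtype) s ∈ S :=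
        fun s => (hN s).mp s.2
      obtain ⟨τ, hτ⟩ : ∃ τ : ↥S →* ↥S, ∀ s : ↥S, ((τ s : ↥S) : G) = n₀ * (s : G) * n₀⁻¹ :=
        ⟨((MulAut.conj n₀).toMonoidHom.comp S.subtype).codRestrict S hmem, fun s => rfl⟩
      have hτsurj : Function.Surjective τ := by
        intro s
        refine ⟨⟨n₀⁻¹ * (s : G) * n₀, ?_⟩, ?_⟩
        · have h1 := (hNinv s).mp s.2
          simpa using h1
        · apply Subtype.ext
          rw [hτ]
          simp only []
          group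
      have hcen : ∀ c : ↥(Subgroup.center ↥S),
          (τ.comp (Subgroup.center ↥S).subtype) c ∈ Subgroup.center ↥S := by
        intro c
        rw [Subgroup.mem_center_iff]
        intro s
        obtain ⟨s', rfl⟩ := hτsurj s
        show τ s' * τ (c : ↥S) = τ (c : ↥S) * τ s'
        rw [← map_mul, ← map_mul, Subgroup.mem_center_iff.mp c.2 s']
      exact ⟨(τ.comp (Subgroup.center ↥S).subtype).codRestrict (Subgroup.center ↥S) hcen,
        fun c => hτ _⟩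
    obtain ⟨σ, hσ⟩ := hσex
    have hσinj : Function.Injective σ := by
      intro c₁ c₂ h
      have h1 := congrArg (fun c : ↥(Subgroup.center ↥S) => ((c : ↥S) : G)) h
      simp only [hσ] at h1
      apply Subtype.ext; apply Subtype.ext
      have e : ∀ x : G, x = n₀⁻¹ * (n₀ * x * n₀⁻¹) * n₀ := fun x => by group
      rw [e ((c₁ : ↥S) : G), h1, ← e]
    have hσbij : Function.Bijective σ := Finite.injective_iff_bijective.mp hσinj
    have hσO : ∀ c, c ∈ O ↔ σ c ∈ O := by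
      intro c
      rw [hO, hO]
      constructor
      · rintro ⟨m, hm, hcm⟩
        refine ⟨n₀ * m, Subgroup.mul_mem _ hn₀ hm, ?_⟩
        rw [hσ, hcm]; group
      · rintro ⟨m, hm, hcm⟩
        refine ⟨n₀⁻¹ * m, Subgroup.mul_mem _ (Subgroup.inv_mem _ hn₀) hm, ?_⟩
        rw [hσ] at hcm
        have e : ((c : ↥S) : G) = n₀⁻¹ * (n₀ * ((c : ↥S) : G) * n₀⁻¹) * n₀ := by group
        rw [e, hcm]; group
    have hσt : σ t = t := by
      rw [ht, map_prod]
      exact Finset.prod_bijective σ hσbij hσO (fun c _ => rfl)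
    have h1 := hσ t
    rw [hσt] at h1
    exact h1.symm

end Cfsg.Agent.Lib.Helper25.QuatDirect
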