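import Cfsg.Agent.Lib.Helper25.QuatDirectB

/-!
S3269 from the Z*-theorem: a Sylow 2-subgroup `Q × R`, `Q` generalized quaternion, involutions of `R`
central in `R`, forces an isolated involution (helper25).
-/

set_option autoImplicit false
open Cfsg

namespace Cfsg.Agent.Lib.Helper25.QuatDirect

theorem not_simple_aux {G : Type*} [Group G] [Finite G]
    (hZstar : ∀ (P : Sylow 2 G) (u : G), orderOf u = 2 → u ∈ P →
      (∀ g : G, g * u * g⁻¹ ∈ P → g * u * g⁻¹ = u) →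
      ∃ N : Subgroup G, N.Normal ∧ Odd (Nat.card N) ∧ ∀ g : G, u * g * u⁻¹ * g⁻¹ ∈ N)
    (S : Sylow 2 G) (Q R : Subgroup G) (hQR : IsInternalDirectProduct Q R (S : Subgroup G))
    (n : ℕ) (hn : 1 ≤ n) (eQ : ↥Q ≃* QuaternionGroup (2 ^ n))
    (hR : ∀ r ∈ R, orderOf r = 2 → ∀ s ∈ R, r * s = s * r) : ¬ IsSimpleGroup G := by
  intro hsimple
  haveI : Fact (Nat.Prime 2) := ⟨Nat.prime_two⟩
  obtain ⟨hQS, hRS, hcomm, hinf, hsup⟩ := hQR
  obtain ⟨z, y, hzQ, hyQ, hz1, hzz, hyy, hQ1, hQ3, hQ4⟩ := quat_facts Q n hn eQ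
  -- decomposition of the elements of S
  have hdec : ∀ s ∈ (S : Subgroup G), ∃ q ∈ Q, ∃ r ∈ R, s = q * r := by
    intro s hs
    rw [← hsup, Subgroup.sup_eq_closure] at hs
    induction hs using Subgroup.closure_induction with
    | mem x hx =>
      rcases hx with hx | hx
      · exact ⟨x, hx, 1, R.one_mem, by simp⟩
      · exact ⟨1, Q.one_mem, x, hx, by simp⟩
    | one => exact ⟨1, Q.one_mem, 1, R.one_mem, by simp⟩
    | mul a b _ _ iha ihb =>
      obtain ⟨q₁, hq₁, r₁, hr₁, rfl⟩ := iha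
      obtain ⟨q₂, hq₂, r₂, hr₂, rfl⟩ := ihb
      refine ⟨q₁ * q₂, Q.mul_mem hq₁ hq₂, r₁ * r₂, R.mul_mem hr₁ hr₂, ?_⟩
      have h1 := hcomm q₂ hq₂ r₁ hr₁
      calc q₁ * r₁ * (q₂ * r₂) = q₁ * (r₁ * q₂) * r₂ := by group
        _ = q₁ * (q₂ * r₁) * r₂ := by rw [h1]
        _ = _ := by group
    | inv a _ iha =>
      obtain ⟨q₁, hq₁, r₁, hr₁, rfl⟩ := iha
      refine ⟨q₁⁻¹, Q.inv_mem hq₁, r₁⁻¹, R.inv_mem hr₁, ?_⟩
      have h1 := hcomm q₁ hq₁ r₁ hr₁
      have h2 : (q₁ * r₁)⁻¹ = (r₁ * q₁)⁻¹ := by rw [h1]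
      rw [h2, mul_inv_rev]
  -- Q is normal in S
  have hQn : ∀ s ∈ (S : Subgroup G), ∀ q ∈ Q, s * q * s⁻¹ ∈ Q := by
    intro s hs q hq
    obtain ⟨q₁, hq₁, r₁, hr₁, rfl⟩ := hdec s hs
    have h1 : r₁ * q * r₁⁻¹ = q := by
      have h2 := hcomm q hq r₁ hr₁
      rw [← h2]; group
    have h3 : q₁ * r₁ * q * (q₁ * r₁)⁻¹ = q₁ * (r₁ * q * r₁⁻¹) * q₁⁻¹ := by group
    rw [h3, h1]
    exact Q.mul_mem (Q.mul_mem hq₁ hq) (Q.inv_mem hq₁)
  -- involutions of S are central in S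
  have hinvc : ∀ s ∈ (S : Subgroup G), s * s = 1 →
      ∀ s' ∈ (S : Subgroup G), s * s' = s' * s := by
    intro s hs hss s' hs'
    obtain ⟨q, hq, r, hr, rfl⟩ := hdec s hs
    obtain ⟨q', hq', r', hr', rfl⟩ := hdec s' hs'
    have hqr := hcomm q hq r hr
    have h1 : (q * q) * (r * r) = 1 := by
      calc (q * q) * (r * r) = q * (q * r) * r := by group
        _ = q * (r * q) * r := by rw [hqr]
        _ = (q * r) * (q * r) := by group
        _ = 1 := hss
    have hqq_mem : q * q ∈ Q ⊓ R := by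
      refine Subgroup.mem_inf.mpr ⟨Q.mul_mem hq hq, ?_⟩
      have h2 : q * q = (r * r)⁻¹ := eq_inv_of_mul_eq_one_left h1
      rw [h2]; exact R.inv_mem (R.mul_mem hr hr)
    rw [hinf, Subgroup.mem_bot] at hqq_mem
    have hrr : r * r = 1 := by rw [hqq_mem, one_mul] at h1; exact h1
    have hqc : ∀ x ∈ Q, q * x = x * q := by
      intro x hx
      rcases hQ1 q hq hqq_mem with rfl | rfl
      · simp
      · exact hQ4 x hx
    have hrc : ∀ x ∈ R, r * x = x * r := by
      intro x hx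
      by_cases hr1 : r = 1
      · rw [hr1]; simp
      · exact hR r hr (orderOf_eq_prime (by rw [pow_two]; exact hrr) hr1) x hx
    have e1 := hqc q' hq'
    have e2 := hrc r' hr'
    have e3 := hcomm q' hq' r hr
    have e4 := hcomm q hq r' hr'
    calc q * r * (q' * r') = q * (r * q') * r' := by group
      _ = q * (q' * r) * r' := by rw [e3]
      _ = (q * q') * (r * r') := by group
      _ = (q' * q) * (r' * r) := by rw [e1, e2]
      _ = q' * (q * r') * r := by group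
      _ = q' * (r' * q) * r := by rw [e4]
      _ = _ := by group
  -- conjugates of z under the normalizer, different from z, lie in R
  have hkey : ∀ n₀ ∈ Subgroup.normalizer ((S : Subgroup G) : Set G),
      n₀ * z * n₀⁻¹ ≠ z → n₀ * z * n₀⁻¹ ∈ R := by
    intro n₀ hn₀ hne
    have hN := Subgroup.mem_normalizer_iff.mp hn₀
    have hNinv := Subgroup.mem_normalizer_iff.mp (Subgroup.inv_mem _ hn₀)
    have hint : ∀ x ∈ Q, n₀⁻¹ * x * n₀ ∈ Q → x = 1 := by
      intro x hxQ hxQn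
      by_contra hx1
      have hxS : x ∈ (S : Subgroup G) := hQS hxQ
      obtain ⟨k, hk⟩ : ∃ k, orderOf x = 2 ^ k := by
        have hp : IsPGroup 2 (S : Subgroup G) := S.isPGroup'
        obtain ⟨k, hk⟩ := (IsPGroup.iff_orderOf.mp hp) ⟨x, hxS⟩
        exact ⟨k, by rw [← hk, Subgroup.orderOf_mk]⟩
      have hk0 : k ≠ 0 := by
        rintro rfl
        rw [pow_zero, orderOf_eq_one_iff] at hk
        exact hx1 hk
      obtain ⟨j, rfl⟩ : ∃ j, k = j + 1 := ⟨k - 1, by omega⟩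
      obtain ⟨y₁, hy₁⟩ : ∃ y₁ : G, y₁ = x ^ (2 ^ j) := ⟨_, rfl⟩
      have hy₁sq : y₁ * y₁ = 1 := by
        rw [hy₁, ← pow_add, ← two_mul, ← pow_succ', ← hk]; exact pow_orderOf_eq_one x
      have hy₁ne : y₁ ≠ 1 := by
        intro h
        rw [hy₁] at h
        have h1 := orderOf_dvd_of_pow_eq_one h
        rw [hk] at h1
        have h2 := Nat.le_of_dvd (by positivity) h1
        have h3 : 2 ^ j < 2 ^ (j + 1) := Nat.pow_lt_pow_right (by norm_num) (Nat.lt_succ_self j)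
        omega
      have hy₁Q : y₁ ∈ Q := by rw [hy₁]; exact Q.pow_mem hxQ _
      have hy₁z : y₁ = z := by
        rcases hQ1 y₁ hy₁Q hy₁sq with h | h
        · exact (hy₁ne h).elim
        · exact h
      have hy₁Qn : n₀⁻¹ * y₁ * n₀ ∈ Q := by
        have h1 : n₀⁻¹ * y₁ * n₀ = (n₀⁻¹ * x * n₀) ^ (2 ^ j) := by
          rw [hy₁]
          have h2 := conj_pow (a := n₀⁻¹) (b := x) (i := 2 ^ j)
          rw [inv_inv] at h2
          exact h2.symm
        rw [h1]; exact Q.pow_mem hxQn _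
      have h5 : (n₀⁻¹ * y₁ * n₀) * (n₀⁻¹ * y₁ * n₀) = 1 := by
        calc (n₀⁻¹ * y₁ * n₀) * (n₀⁻¹ * y₁ * n₀) = n₀⁻¹ * (y₁ * y₁) * n₀ := by group
          _ = 1 := by rw [hy₁sq]; group
      have h6 : n₀⁻¹ * y₁ * n₀ = z := by
        rcases hQ1 _ hy₁Qn h5 with h | h
        · exfalso; apply hy₁ne
          have h7 : y₁ = n₀ * (n₀⁻¹ * y₁ * n₀) * n₀⁻¹ := by group
          rw [h7, h]; group
        · exact h
      apply hne
      rw [hy₁z] at h6
      calc n₀ * z * n₀⁻¹ = n₀ * (n₀⁻¹ * z * n₀) * n₀⁻¹ := by rw [h6]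
        _ = z := by group
    have hcommQ : ∀ a ∈ Q, ∀ b ∈ Q, a * (n₀ * b * n₀⁻¹) = (n₀ * b * n₀⁻¹) * a := by
      intro a ha b hb
      have hbS : n₀ * b * n₀⁻¹ ∈ (S : Subgroup G) := (hN b).mp (hQS hb)
      have haS := hQS ha
      obtain ⟨b', hb'⟩ : ∃ b' : G, b' = n₀ * b * n₀⁻¹ := ⟨_, rfl⟩
      rw [← hb'] at hbS ⊢
      have hc1 : a * b' * a⁻¹ * b'⁻¹ ∈ Q := by
        have h1 : a * b' * a⁻¹ * b'⁻¹ = a * (b' * a⁻¹ * b'⁻¹) := by group
        rw [h1]; exact Q.mul_mem ha (hQn b' hbS a⁻¹ (Q.inv_mem ha))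
      have hc2 : n₀⁻¹ * (a * b' * a⁻¹ * b'⁻¹) * n₀ ∈ Q := by
        have e : n₀⁻¹ * (a * b' * a⁻¹ * b'⁻¹) * n₀ =
            ((n₀⁻¹ * a * n₀) * b * (n₀⁻¹ * a * n₀)⁻¹) * b⁻¹ := by
          rw [hb']; group
        rw [e]
        have haS' : n₀⁻¹ * a * n₀ ∈ (S : Subgroup G) := by
          have h1 := (hNinv a).mp haS
          simpa using h1
        exact Q.mul_mem (hQn _ haS' b hb) (Q.inv_mem hb)
      have h3 := hint _ hc1 hc2
      calc a * b' = (a * b' * a⁻¹ * b'⁻¹) * (b' * a) := by group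
        _ = b' * a := by rw [h3, one_mul]
    have hwS : n₀ * y * n₀⁻¹ ∈ (S : Subgroup G) := (hN y).mp (hQS hyQ)
    obtain ⟨q, hq, r, hr, hw⟩ := hdec _ hwS
    have hqc : ∀ x ∈ Q, q * x = x * q := by
      intro x hx
      have h1 := hcommQ x hx y hyQ
      rw [hw] at h1
      have h2 := hcomm x hx r hr
      have h3 : x * q * r = q * x * r := by
        calc x * q * r = x * (q * r) := by group
          _ = q * r * x := h1
          _ = q * (r * x) := by group
          _ = q * (x * r) := by rw [h2]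
          _ = q * x * r := by group
      exact (mul_right_cancel h3).symm
    have hqq : q * q = 1 := by
      rcases hQ3 q hq hqc with rfl | rfl
      · simp
      · exact hzz
    have h4 : n₀ * z * n₀⁻¹ = r * r := by
      have hqr := hcomm q hq r hr
      calc n₀ * z * n₀⁻¹ = n₀ * (y * y) * n₀⁻¹ := by rw [hyy]
        _ = (n₀ * y * n₀⁻¹) * (n₀ * y * n₀⁻¹) := by group
        _ = (q * r) * (q * r) := by rw [hw]
        _ = q * (r * q) * r := by group
        _ = q * (q * r) * r := by rw [← hqr]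
        _ = (q * q) * (r * r) := by group
        _ = r * r := by rw [hqq, one_mul]
    rw [h4]; exact R.mul_mem hr hr
  have hzR : z ∉ R := by
    intro h
    have h1 : z ∈ Q ⊓ R := Subgroup.mem_inf.mpr ⟨hzQ, h⟩
    rw [hinf, Subgroup.mem_bot] at h1
    exact hz1 h1
  have hzc : ∀ s ∈ (S : Subgroup G), z * s = s * z := hinvc z (hQS hzQ) hzz
  obtain ⟨t, htS, ht1, htt, htc, htinv⟩ :=
    exists_invariant (S : Subgroup G) R z (hQS hzQ) hzc hzR hzz hkey
  have hto : orderOf t = 2 := orderOf_eq_prime (by rw [pow_two]; exact htt) ht1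
  have hiso : ∀ g : G, g * t * g⁻¹ ∈ S → g * t * g⁻¹ = t := by
    intro g hg
    have hsq : (g * t * g⁻¹) * (g * t * g⁻¹) = 1 := by
      calc (g * t * g⁻¹) * (g * t * g⁻¹) = g * (t * t) * g⁻¹ := by group
        _ = 1 := by rw [htt]; group
    have hc := hinvc _ hg hsq
    have h1 : t ∈ Subgroup.centralizer (S : Set G) := by
      rw [Subgroup.mem_centralizer_iff]
      intro s hs
      exact (htc s hs).symm
    have h2 : g⁻¹⁻¹ * t * g⁻¹ ∈ Subgroup.centralizer (S : Set G) := by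
      rw [inv_inv, Subgroup.mem_centralizer_iff]
      intro s hs
      exact (hc s hs).symm
    obtain ⟨m, hm, hgm⟩ := Sylow.conj_eq_normalizer_conj_of_mem_centralizer S t g⁻¹ h1 h2
    rw [inv_inv] at hgm
    rw [hgm]
    have h3 := htinv m⁻¹ (Subgroup.inv_mem _ hm)
    rw [inv_inv] at h3
    exact h3
  obtain ⟨N, hNn, hNodd, hNc⟩ := hZstar S t hto htS hiso
  rcases hNn.eq_bot_or_eq_top with hN | hN
  · have htcen : t ∈ Subgroup.center G := by
      rw [Subgroup.mem_center_iff]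
      intro g
      have h1 := hNc g
      rw [hN, Subgroup.mem_bot] at h1
      calc g * t = (t * g * t⁻¹ * g⁻¹)⁻¹ * (t * g) := by group
        _ = t * g := by rw [h1, inv_one, one_mul]
    have hcn : Subgroup.center G = ⊤ := by
      rcases (inferInstance : (Subgroup.center G).Normal).eq_bot_or_eq_top with h | h
      · exfalso; rw [h, Subgroup.mem_bot] at htcen; exact ht1 htcen
      · exact h
    have hyc : ∀ x ∈ Q, y * x = x * y := by
      intro x _
      have h1 : y ∈ Subgroup.center G := by rw [hcn]; trivial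
      exact (Subgroup.mem_center_iff.mp h1 x).symm
    rcases hQ3 y hyQ hyc with h | h
    · rw [h, one_mul] at hyy; exact hz1 hyy.symm
    · rw [h, hzz] at hyy; exact hz1 hyy.symm
  · rw [hN] at hNodd
    have h2 : 2 ∣ Nat.card G := by rw [← hto]; exact orderOf_dvd_natCard t
    rw [Subgroup.card_top] at hNodd
    exact (Nat.not_even_iff_odd.mpr hNodd) (even_iff_two_dvd.mpr h2)

end Cfsg.Agent.Lib.Helper25.QuatDirect
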