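import Cfsg.Agent.Lib.Helper29.NormalSubsystemExt
import Cfsg.Agent.S5119
import Mathlib

/-!
For a fusion system `F` over `S` realized by `ι : S →* G` (image a Sylow subgroup) and a normal subgroup `N` of `G`,
the subsystem of `F` over `ι⁻¹(N)` given by conjugations by elements of `N`, and its normality in `F`.
-/
set_option autoImplicit false
open Cfsg

namespace Cfsg.Agent.Lib.Helper25
open Cfsg.Agent.Lib.Helper29

universe u v
variable {Ω : Type u} [Group Ω] {S : Subgroup Ω} {G : Type v} [Group G]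

open Classical in
/-- extension of `ι` by `1` outside `S` -/
noncomputable def iX (ι : S →* G) (x : Ω) : G := if h : x ∈ S then ι ⟨x, h⟩ else 1

theorem iX_eq (ι : S →* G) {x : Ω} (h : x ∈ S) : iX ι x = ι ⟨x, h⟩ := by
  unfold iX
  rw [dif_pos h]

theorem iX_mul (ι : S →* G) {x y : Ω} (hx : x ∈ S) (hy : y ∈ S) :
    iX ι (x * y) = iX ι x * iX ι y := by
  rw [iX_eq ι hx, iX_eq ι hy, iX_eq ι (S.mul_mem hx hy), ← map_mul]
  rfl

theorem iX_inv (ι : S →* G) {x : Ω} (hx : x ∈ S) : iX ι x⁻¹ = (iX ι x)⁻¹ := by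
  rw [iX_eq ι hx, iX_eq ι (S.inv_mem hx), ← map_inv]
  rfl

theorem iX_inj {ι : S →* G} (hinj : Function.Injective ι) {x y : Ω} (hx : x ∈ S) (hy : y ∈ S)
    (h : iX ι x = iX ι y) : x = y := by
  rw [iX_eq ι hx, iX_eq ι hy] at h
  exact congrArg Subtype.val (hinj h)

theorem iX_mem_range (ι : S →* G) {x : Ω} (hx : x ∈ S) : iX ι x ∈ ι.range := by
  rw [iX_eq ι hx]
  exact ⟨_, rfl⟩

theorem exists_of_mem_range (ι : S →* G) {y : G} (hy : y ∈ ι.range) : ∃ x ∈ S, iX ι x = y := by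
  obtain ⟨s, rfl⟩ := hy
  exact ⟨s.1, s.2, iX_eq ι s.2⟩

theorem realized_iff {F : FusionSystem S} {ι : S →* G} (hR : F.IsRealizedBy ι) {P : Subgroup Ω} (hP : P ≤ S)
    (φ : P →* Ω) (hφ : ∀ x : P, φ x ∈ S) :
    φ ∈ F.Hom P ↔ ∃ g : G, ∀ x : P, iX ι (φ x) = g * iX ι x * g⁻¹ := by
  rw [hR.2 P hP φ hφ]
  constructor
  · rintro ⟨g, hg⟩
    refine ⟨g, fun x => ?_⟩
    rw [iX_eq ι (hφ x), iX_eq ι (hP x.2)]
    exact hg x
  · rintro ⟨g, hg⟩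
    refine ⟨g, fun x => ?_⟩
    have := hg x
    rwa [iX_eq ι (hφ x), iX_eq ι (hP x.2)] at this

theorem mem_preimg_iff {ι : S →* G} {K : Subgroup G} {x : Ω} :
    x ∈ preimg ι K ↔ x ∈ S ∧ iX ι x ∈ K := by
  rw [mem_preimg]
  constructor
  · rintro ⟨hx, h⟩
    exact ⟨hx, by rwa [iX_eq ι hx]⟩
  · rintro ⟨hx, h⟩
    exact ⟨hx, by rwa [iX_eq ι hx] at h⟩

/-- the subsystem induced by a normal subgroup `N` of the realizing group, over the preimage of `N` -/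
def nSys {F : FusionSystem S} {ι : S →* G} (hR : F.IsRealizedBy ι) (N : Subgroup G) [hN : N.Normal] :
    FusionSystem (preimg ι N) where
  Hom P := {φ | φ ∈ F.Hom P ∧ P ≤ preimg ι N ∧ ∃ n ∈ N, ∀ x : P, iX ι (φ x) = n * iX ι x * n⁻¹}
  le_of_mem := by
    rintro P φ ⟨hφ, hP, n, hn, h⟩
    refine ⟨hP, fun x => mem_preimg_iff.2 ⟨(F.le_of_mem hφ).2 x, ?_⟩⟩
    rw [h x]
    exact hN.conj_mem _ (mem_preimg_iff.1 (hP x.2)).2 n
  injective_of_mem h := F.injective_of_mem h.1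
  conj_mem := by
    intro P g hP hg
    have hgS := (mem_preimg_iff.1 hg).1
    have hPS : P ≤ S := hP.trans (preimg_le ι N)
    refine ⟨F.conj_mem hPS hgS, hP, iX ι g, (mem_preimg_iff.1 hg).2, fun x => ?_⟩
    show iX ι (g * x * g⁻¹) = _
    rw [iX_mul ι (S.mul_mem hgS (hPS x.2)) (S.inv_mem hgS), iX_mul ι hgS (hPS x.2), iX_inv ι hgS]
  comp_mem := by
    rintro P Q φ ψ ⟨hφ, hP, n, hn, h1⟩ ⟨hψ, hQ, m, hm, h2⟩ h
    refine ⟨F.comp_mem hφ hψ h, hP, m * n, N.mul_mem hm hn, fun x => ?_⟩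
    show iX ι (ψ ⟨φ x, h x⟩) = _
    rw [h2 ⟨φ x, h x⟩]
    show m * iX ι (φ x) * m⁻¹ = _
    rw [h1 x]
    group
  inv_mem := by
    rintro P φ ⟨hφ, hP, n, hn, h1⟩
    obtain ⟨χ, hχ, hχinv⟩ := F.inv_mem hφ
    refine ⟨χ, ⟨hχ, ?_, n⁻¹, N.inv_mem hn, ?_⟩, hχinv⟩
    · rintro _ ⟨x, rfl⟩
      refine mem_preimg_iff.2 ⟨(F.le_of_mem hφ).2 x, ?_⟩
      rw [h1 x]
      exact hN.conj_mem _ (mem_preimg_iff.1 (hP x.2)).2 n
    · rintro ⟨_, x, rfl⟩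
      rw [hχinv x]
      show iX ι (x : Ω) = n⁻¹ * iX ι (φ x) * n⁻¹⁻¹
      rw [h1 x]
      group

section
variable {F : FusionSystem S} {ι : S →* G} (hR : F.IsRealizedBy ι) (N : Subgroup G) [hN : N.Normal]

theorem nSys_sub : (nSys hR N).IsSubsystemOf F := fun _ _ h => h.1

include hR in
theorem stronglyClosed_preimg : F.StronglyClosed (preimg ι N) := by
  refine ⟨preimg_le ι N, fun R hR' φ hφ x => ?_⟩
  have hRS := (F.le_of_mem hφ).1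
  have hφS := (F.le_of_mem hφ).2
  obtain ⟨g, hg⟩ := (realized_iff hR hRS φ hφS).1 hφ
  refine mem_preimg_iff.2 ⟨hφS x, ?_⟩
  rw [hg x]
  exact hN.conj_mem _ (mem_preimg_iff.1 (hR' x.2)).2 g

theorem nSys_strongInv : StrongInv (nSys hR N) F := by
  intro P Q hPQ hQT φ hφ hφQ ψ hψ
  obtain ⟨hφF, hP, n, hn, h1⟩ := hφ
  have hQS := (F.le_of_mem hψ).1
  have hψS := (F.le_of_mem hψ).2
  obtain ⟨g, hg⟩ := (realized_iff hR hQS ψ hψS).1 hψ
  have hψP : ψ.comp (Subgroup.inclusion hPQ) ∈ F.Hom P := restrict_mem F hPQ hψ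
  have hrange : (ψ.comp (Subgroup.inclusion hPQ)).range = (P.subgroupOf Q).map ψ := by
    ext y
    constructor
    · rintro ⟨x, rfl⟩
      exact ⟨Subgroup.inclusion hPQ x, x.2, rfl⟩
    · rintro ⟨⟨q, hqQ⟩, hq, rfl⟩
      exact ⟨⟨q, hq⟩, rfl⟩
  obtain ⟨ρ, hρ, hρinv⟩ := exists_inv_iso F hψP hrange
  have hρP : ∀ y, ρ y ∈ P := by
    rintro ⟨_, ⟨q, hqQ⟩, hq, rfl⟩
    have h2 := hρinv ⟨q, hq⟩ ⟨⟨q, hqQ⟩, hq, rfl⟩
    have h3 : ρ ⟨ψ ⟨q, hqQ⟩, ⟨⟨q, hqQ⟩, hq, rfl⟩⟩ = q := h2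
    rw [h3]
    exact hq
  have hc1 := F.comp_mem hρ hφF hρP
  have hc1Q : ∀ y, (φ.comp (ρ.codRestrict P hρP)) y ∈ Q := fun y => hφQ _
  have hc2 := F.comp_mem hc1 hψ hc1Q
  have hmapT : (P.subgroupOf Q).map ψ ≤ preimg ι N := by
    rintro _ ⟨q, _, rfl⟩
    exact (stronglyClosed_preimg hR N).2 Q hQT ψ hψ q
  refine ⟨_, ⟨hc2, hmapT, g * n * g⁻¹, hN.conj_mem n hn g, ?_⟩, ?_⟩
  · rintro ⟨_, ⟨q, hqQ⟩, hq, rfl⟩
    have h3 : ρ ⟨ψ ⟨q, hqQ⟩, ⟨⟨q, hqQ⟩, hq, rfl⟩⟩ = q := hρinv ⟨q, hq⟩ ⟨⟨q, hqQ⟩, hq, rfl⟩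
    have h4 : (ρ.codRestrict P hρP) ⟨ψ ⟨q, hqQ⟩, ⟨⟨q, hqQ⟩, hq, rfl⟩⟩ = ⟨q, hq⟩ := Subtype.ext h3
    show iX ι (ψ ⟨φ ((ρ.codRestrict P hρP) ⟨ψ ⟨q, hqQ⟩, ⟨⟨q, hqQ⟩, hq, rfl⟩⟩), _⟩) =
      g * n * g⁻¹ * iX ι (ψ ⟨q, hqQ⟩) * (g * n * g⁻¹)⁻¹
    rw [hg, hg]
    show g * iX ι (φ ((ρ.codRestrict P hρP) ⟨ψ ⟨q, hqQ⟩, ⟨⟨q, hqQ⟩, hq, rfl⟩⟩)) * g⁻¹ =
      g * n * g⁻¹ * (g * iX ι q * g⁻¹) * (g * n * g⁻¹)⁻¹
    rw [h4, h1 ⟨q, hq⟩]
    group
  · intro x hx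
    have h3 : ρ ⟨ψ (Subgroup.inclusion hPQ x), hx⟩ = x := hρinv x hx
    have h4 : (ρ.codRestrict P hρP) ⟨ψ (Subgroup.inclusion hPQ x), hx⟩ = x := Subtype.ext h3
    show ψ ⟨φ ((ρ.codRestrict P hρP) ⟨ψ (Subgroup.inclusion hPQ x), hx⟩), _⟩ = ψ ⟨φ x, hφQ x⟩
    congr 1
    apply Subtype.ext
    show φ ((ρ.codRestrict P hρP) ⟨ψ (Subgroup.inclusion hPQ x), hx⟩) = φ x
    rw [h4]

/-- the homomorphism from the preimage of `N` to `N` -/
def iN (ι : S →* G) (N : Subgroup G) : preimg ι N →* N :=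
  (ι.comp (Subgroup.inclusion (preimg_le ι N))).codRestrict N (fun x => (mem_preimg.1 x.2).2)

omit hN in
theorem iN_coe (x : preimg ι N) : ((iN ι N x : N) : G) = iX ι (x : Ω) := by
  rw [iX_eq ι (preimg_le ι N x.2)]
  rfl

theorem nSys_realized : (nSys hR N).IsRealizedBy (iN ι N) := by
  refine ⟨?_, fun P hP φ hφ => ?_⟩
  · intro x y hxy
    have h1 : iX ι (x : Ω) = iX ι (y : Ω) := by rw [← iN_coe, ← iN_coe, hxy]
    exact Subtype.ext (iX_inj hR.1 (preimg_le ι N x.2) (preimg_le ι N y.2) h1)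
  · constructor
    · rintro ⟨hφF, _, n, hn, h⟩
      refine ⟨⟨n, hn⟩, fun x => Subtype.ext ?_⟩
      show ((iN ι N ⟨φ x, hφ x⟩ : N) : G) = n * ((iN ι N ⟨x, hP x.2⟩ : N) : G) * n⁻¹
      rw [iN_coe, iN_coe]
      exact h x
    · rintro ⟨g, hg⟩
      have hPS := hP.trans (preimg_le ι N)
      have hφS : ∀ x : P, φ x ∈ S := fun x => preimg_le ι N (hφ x)
      have h : ∀ x : P, iX ι (φ x) = (g : G) * iX ι (x : Ω) * (g : G)⁻¹ := by
        intro x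
        have h2 : ((iN ι N ⟨φ x, hφ x⟩ : N) : G) =
            (g : G) * ((iN ι N ⟨x, hP x.2⟩ : N) : G) * (g : G)⁻¹ := congrArg Subtype.val (hg x)
        rwa [iN_coe, iN_coe] at h2
      exact ⟨(realized_iff hR hPS φ hφS).2 ⟨g.1, h⟩, hP, g.1, g.2, h⟩

theorem nSys_saturated [Finite G] (p : ℕ) [Fact p.Prime] (T : Sylow p G)
    (hT : (T : Subgroup G) = ι.range) : (nSys hR N).IsSaturated p := by
  obtain ⟨R, hR'⟩ := isSylowSub_inf_normal T N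
  apply saturated_of_realized (nSys_realized hR N) p R
  rw [hR']
  ext y
  rw [Subgroup.mem_subgroupOf]
  constructor
  · rintro ⟨hyT, _⟩
    rw [hT] at hyT
    obtain ⟨s, hs⟩ := hyT
    have hsN : (s : Ω) ∈ preimg ι N := mem_preimg.2 ⟨s.2, by
      show ι s ∈ N
      rw [hs]
      exact y.2⟩
    refine ⟨⟨s.1, hsN⟩, Subtype.ext ?_⟩
    show ι ⟨s.1, _⟩ = y.1
    exact hs
  · rintro ⟨x, rfl⟩
    refine ⟨?_, (iN ι N x).2⟩
    rw [hT]
    exact ⟨⟨x.1, preimg_le ι N x.2⟩, rfl⟩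

theorem nSys_ext [Finite G] [Finite S] (p : ℕ) [Fact p.Prime] (T : Sylow p G)
    (hT : (T : Subgroup G) = ι.range) :
    ∀ α ∈ (nSys hR N).autGroup (preimg ι N),
      ∃ β ∈ F.autGroup (preimg ι N ⊔ FusionSystem.centralizerIn S (preimg ι N)),
      (∀ x : preimg ι N, ((β (Subgroup.inclusion le_sup_left x) :
          ↥(preimg ι N ⊔ FusionSystem.centralizerIn S (preimg ι N))) : Ω) = ((α x : preimg ι N) : Ω)) ∧
      ∀ c : ↥(preimg ι N ⊔ FusionSystem.centralizerIn S (preimg ι N)),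
        (c : Ω) ∈ FusionSystem.centralizerIn S (preimg ι N) →
        (c : Ω)⁻¹ * ((β c : ↥(preimg ι N ⊔ FusionSystem.centralizerIn S (preimg ι N))) : Ω) ∈
          preimg ι N ⊓ Subgroup.centralizer (preimg ι N : Set Ω) := by
  intro α hα
  rw [mem_autGroup_iff _ le_rfl] at hα
  obtain ⟨hαF, _, n, hn, hαn⟩ := hα
  have hS₀S : preimg ι N ≤ S := preimg_le ι N
  have hT₀ : ∀ y, y ∈ (T : Subgroup G) ⊓ N ↔ ∃ x ∈ preimg ι N, iX ι x = y := by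
    intro y
    constructor
    · rintro ⟨hyT, hyN⟩
      have hyT' : y ∈ ι.range := by rw [← hT]; exact hyT
      obtain ⟨x, hx, rfl⟩ := exists_of_mem_range ι hyT'
      exact ⟨x, mem_preimg_iff.2 ⟨hx, hyN⟩, rfl⟩
    · rintro ⟨x, hx, rfl⟩
      obtain ⟨hxS, hxN⟩ := mem_preimg_iff.1 hx
      refine ⟨?_, hxN⟩
      show iX ι x ∈ (T : Subgroup G)
      rw [hT]
      exact iX_mem_range ι hxS
  have hnN : n ∈ Subgroup.normalizer (((T : Subgroup G) ⊓ N : Subgroup G) : Set G) := by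
    apply Subgroup.mem_normalizer_fintype
    intro y hy
    obtain ⟨x, hx, rfl⟩ := (hT₀ y).1 hy
    have h2 := hαn ⟨x, hx⟩
    have h3 : iX ι ((α ⟨x, hx⟩ : preimg ι N) : Ω) = n * iX ι x * n⁻¹ := h2
    rw [← h3]
    exact (hT₀ _).2 ⟨_, (α ⟨x, hx⟩).2, rfl⟩
  obtain ⟨g, hgN, hgT₀, hgC, hgx⟩ := exists_normalizing_of_normal T N hn hnN
  have hMS : preimg ι N ⊔ FusionSystem.centralizerIn S (preimg ι N) ≤ S := sup_le hS₀S inf_le_left
  have hCimg : ∀ x ∈ FusionSystem.centralizerIn S (preimg ι N),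
      iX ι x ∈ FusionSystem.centralizerIn (T : Subgroup G) ((T : Subgroup G) ⊓ N) := by
    rintro x ⟨hxS, hxc⟩
    refine ⟨?_, Subgroup.mem_centralizer_iff.2 ?_⟩
    · show iX ι x ∈ (T : Subgroup G)
      rw [hT]
      exact iX_mem_range ι hxS
    · intro t ht
      obtain ⟨s, hs, rfl⟩ := (hT₀ t).1 ht
      have h2 := Subgroup.mem_centralizer_iff.1 hxc s hs
      rw [← iX_mul ι (hS₀S hs) hxS, ← iX_mul ι hxS (hS₀S hs), h2]
  have hMimg : ∀ x ∈ preimg ι N ⊔ FusionSystem.centralizerIn S (preimg ι N),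
      iX ι x ∈ ((T : Subgroup G) ⊓ N) ⊔
        FusionSystem.centralizerIn (T : Subgroup G) ((T : Subgroup G) ⊓ N) := by
    have h2 : preimg ι N ⊔ FusionSystem.centralizerIn S (preimg ι N) ≤
        preimg ι (((T : Subgroup G) ⊓ N) ⊔
          FusionSystem.centralizerIn (T : Subgroup G) ((T : Subgroup G) ⊓ N)) := by
      apply sup_le
      · intro x hx
        exact mem_preimg_iff.2 ⟨hS₀S hx, (le_sup_left : (T : Subgroup G) ⊓ N ≤ _) ((hT₀ _).2 ⟨x, hx, rfl⟩)⟩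
      · intro x hx
        exact mem_preimg_iff.2 ⟨hx.1, (le_sup_right :
          FusionSystem.centralizerIn (T : Subgroup G) ((T : Subgroup G) ⊓ N) ≤ _) (hCimg x hx)⟩
    intro x hx
    exact (mem_preimg_iff.1 (h2 hx)).2
  have hgM := mem_normalizer_sup hgT₀ hgC
  have hMGT : ((T : Subgroup G) ⊓ N) ⊔
      FusionSystem.centralizerIn (T : Subgroup G) ((T : Subgroup G) ⊓ N) ≤ (T : Subgroup G) :=
    sup_le inf_le_left inf_le_left
  obtain ⟨φ, hφ, hφS, hφg⟩ := realized_hom hR hMS g (fun x => by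
    rw [← hT]
    apply hMGT
    have h2 := hMimg x.1 x.2
    rw [iX_eq ι (hMS x.2)] at h2
    exact (Subgroup.mem_normalizer_iff.1 hgM _).1 h2)
  have hφg' : ∀ x : ↥(preimg ι N ⊔ FusionSystem.centralizerIn S (preimg ι N)),
      iX ι (φ x) = g * iX ι (x : Ω) * g⁻¹ := by
    intro x
    rw [iX_eq ι (hφS x), iX_eq ι (hMS x.2)]
    exact hφg x
  have hφS₀ : ∀ x : ↥(preimg ι N ⊔ FusionSystem.centralizerIn S (preimg ι N)),
      (x : Ω) ∈ preimg ι N → φ x ∈ preimg ι N := by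
    intro x hx
    exact (stronglyClosed_preimg hR N).2 (preimg ι N) le_rfl (φ.comp (Subgroup.inclusion le_sup_left))
      (restrict_mem F le_sup_left hφ) ⟨x.1, hx⟩
  have hφC : ∀ x : ↥(preimg ι N ⊔ FusionSystem.centralizerIn S (preimg ι N)),
      (x : Ω) ∈ FusionSystem.centralizerIn S (preimg ι N) →
        φ x ∈ FusionSystem.centralizerIn S (preimg ι N) := by
    intro x hx
    have h1 := hCimg x.1 hx
    have h2 : iX ι (φ x) ∈ FusionSystem.centralizerIn (T : Subgroup G) ((T : Subgroup G) ⊓ N) := by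
      rw [hφg' x]
      exact (Subgroup.mem_normalizer_iff.1 hgC _).1 h1
    refine ⟨hφS x, Subgroup.mem_centralizer_iff.2 ?_⟩
    intro s hs
    apply iX_inj hR.1 (S.mul_mem (hS₀S hs) (hφS x)) (S.mul_mem (hφS x) (hS₀S hs))
    rw [iX_mul ι (hS₀S hs) (hφS x), iX_mul ι (hφS x) (hS₀S hs)]
    exact Subgroup.mem_centralizer_iff.1 h2.2 _ ((hT₀ _).2 ⟨s, hs, rfl⟩)
  have hφM : ∀ x, φ x ∈ preimg ι N ⊔ FusionSystem.centralizerIn S (preimg ι N) := by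
    have h1 : ((preimg ι N).subgroupOf (preimg ι N ⊔ FusionSystem.centralizerIn S (preimg ι N)) ⊔
        (FusionSystem.centralizerIn S (preimg ι N)).subgroupOf
          (preimg ι N ⊔ FusionSystem.centralizerIn S (preimg ι N))) ≤
        (preimg ι N ⊔ FusionSystem.centralizerIn S (preimg ι N)).comap φ := by
      apply sup_le
      · intro x hx
        exact (le_sup_left : preimg ι N ≤ _) (hφS₀ x hx)
      · intro x hx
        exact (le_sup_right : FusionSystem.centralizerIn S (preimg ι N) ≤ _) (hφC x hx)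
    rw [← Subgroup.subgroupOf_sup le_sup_left le_sup_right, Subgroup.subgroupOf_self] at h1
    intro x
    exact h1 (Subgroup.mem_top x)
  haveI : Finite ↥(preimg ι N ⊔ FusionSystem.centralizerIn S (preimg ι N)) := finite_of_le hMS
  obtain ⟨β, hβ, hβφ⟩ := exists_aut_of_hom F hφ hφM
  refine ⟨β, hβ, fun x => ?_, fun c hc => ?_⟩
  · rw [hβφ]
    apply iX_inj hR.1 (hφS _) (hS₀S (α x).2)
    rw [hφg']
    show g * iX ι (x : Ω) * g⁻¹ = iX ι ((α x : preimg ι N) : Ω)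
    rw [hgx _ ((hT₀ _).2 ⟨x.1, x.2, rfl⟩)]
    exact (hαn x).symm
  · rw [hβφ]
    have hcS : (c : Ω) ∈ S := hMS c.2
    refine ⟨mem_preimg_iff.2 ⟨S.mul_mem (S.inv_mem hcS) (hφS c), ?_⟩, ?_⟩
    · rw [iX_mul ι (S.inv_mem hcS) (hφS c), iX_inv ι hcS, hφg' c]
      have h1 : (iX ι (c : Ω))⁻¹ * g * (iX ι (c : Ω))⁻¹⁻¹ ∈ N := hN.conj_mem g hgN _
      have h2 := N.mul_mem h1 (N.inv_mem hgN)
      have e : (iX ι (c : Ω))⁻¹ * g * (iX ι (c : Ω))⁻¹⁻¹ * g⁻¹ =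
          (iX ι (c : Ω))⁻¹ * (g * iX ι (c : Ω) * g⁻¹) := by group
      rwa [e] at h2
    · exact Subgroup.mul_mem _ (Subgroup.inv_mem _ hc.2) (hφC c hc).2

theorem nSys_isNormalIn [Finite G] [Finite S] (p : ℕ) [Fact p.Prime] (hS : IsPGroup p S) (T : Sylow p G)
    (hT : (T : Subgroup G) = ι.range) : (nSys hR N).IsNormalIn F p := by
  have hFsat : F.IsSaturated p := saturated_of_realized hR p T hT
  have hinv : (nSys hR N).IsInvariantIn F :=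
    (Cfsg.Agent.S5119.result p hS F hFsat _ (nSys_sub hR N) (stronglyClosed_preimg hR N)).2
      (nSys_strongInv hR N)
  exact ⟨⟨nSys_saturated hR N p T hT, hFsat, hinv⟩, nSys_ext hR N p T hT⟩

end

end Cfsg.Agent.Lib.Helper25
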