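import Mathlib
import Cfsg.Agent.S0201
import Cfsg.Agent.Lib.Helper25.ZStarD
import Cfsg.Agent.Lib.Helper25.HallThree
import Cfsg.Agent.Lib.Lead.BaerSuzuki
import Cfsg.Agent.Lib.Helper20.Fitting

/-!
W-classes of 3-transpositions (helper25): two 3-transpositions with the same commuting partners
differ by an element of `O_3(G)`.
-/

set_option autoImplicit false
open Cfsg

namespace Cfsg.Agent.Lib.Helper25.ThreeTrW

open Cfsg.Agent.Lib.Lead Cfsg.Agent.Lib.Helper20 Cfsg.Agent.Lib.Helper25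

universe u

section basic
variable {G : Type u} [Group G]

theorem sq_of_ord {d : G} (h : orderOf d = 2) : d * d = 1 := by
  have := pow_orderOf_eq_one d
  rwa [h, pow_two] at this

theorem inv_of_sq {a : G} (h : a * a = 1) : a⁻¹ = a := inv_eq_of_mul_eq_one_left h

theorem commute_iff_sq' {d e : G} (hd : d * d = 1) (he : e * e = 1) :
    Commute d e ↔ (d * e) ^ 2 = 1 := by
  constructor
  · intro h
    rw [h.mul_pow, pow_two, pow_two, hd, he, one_mul]
  · intro h
    rw [pow_two] at h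
    have h1 : d * e = (d * e)⁻¹ := eq_inv_of_mul_eq_one_left h
    rw [mul_inv_rev, inv_of_sq hd, inv_of_sq he] at h1
    exact h1

theorem braid' {a d : G} (ha : a * a = 1) (hd : d * d = 1) (h3 : (a * d) ^ 3 = 1) :
    a * d * a = d * a * d := by
  have h : a * d * a * (d * a * d) = 1 := by
    rw [pow_succ, pow_two] at h3
    simp only [mul_assoc] at h3 ⊢
    exact h3
  have h1 : a * d * a = (d * a * d)⁻¹ := eq_inv_of_mul_eq_one_left h
  rw [h1, mul_inv_rev, mul_inv_rev, inv_of_sq ha, inv_of_sq hd, mul_assoc]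

theorem conj_eq' {d e : G} (hd : d * d = 1) (he : e * e = 1) (h3 : (d * e) ^ 3 = 1) :
    (d * e) * d * (d * e)⁻¹ = e := by
  have dinv := inv_of_sq hd
  have einv := inv_of_sq he
  calc (d * e) * d * (d * e)⁻¹ = (d * e) * d * (e⁻¹ * d⁻¹) := by rw [mul_inv_rev]
    _ = (d * e) * d * (e * d) := by rw [einv, dinv]
    _ = (d * e) ^ 3 * e⁻¹ := by rw [pow_three]; group
    _ = e := by rw [h3, one_mul, einv]

theorem three_group_sq {T : Subgroup G} (hT : IsPGroup 3 T) {x : G} (hx : x ∈ T)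
    (h2 : x * x = 1) : x = 1 := by
  obtain ⟨k, hk⟩ := hT ⟨x, hx⟩
  have hk' : x ^ (3 ^ k) = 1 := by
    have := congrArg Subtype.val hk
    simpa using this
  have d1 : orderOf x ∣ 3 ^ k := orderOf_dvd_of_pow_eq_one hk'
  have d2 : orderOf x ∣ 2 := orderOf_dvd_of_pow_eq_one (by rw [pow_two]; exact h2)
  have hc : Nat.Coprime (3 ^ k) 2 := Nat.Coprime.pow_left k (by norm_num)
  have : orderOf x = 1 := Nat.eq_one_of_dvd_coprimes hc d1 d2
  exact orderOf_eq_one_iff.mp this

theorem zpowers_cases {d z : G} (hd : d * d = 1) (hz : z ∈ Subgroup.zpowers d) :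
    z = 1 ∨ z = d := by
  obtain ⟨k, rfl⟩ := Subgroup.mem_zpowers_iff.mp hz
  rcases Int.even_or_odd k with ⟨m, rfl⟩ | ⟨m, rfl⟩
  · left
    rw [zpow_add, ← (Commute.refl d).mul_zpow, hd, one_zpow]
  · right
    rw [zpow_add_one, zpow_mul, zpow_two, hd, one_zpow, one_mul]

/-- same commuting partners -/
def SameW (D : Set G) (u u' : G) : Prop :=
  {y : G | y ∈ D ∧ y ≠ u ∧ Commute u y} = {y : G | y ∈ D ∧ y ≠ u' ∧ Commute u' y}

theorem SameW.refl (D : Set G) (u : G) : SameW D u u := rfl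

theorem SameW.symm {D : Set G} {u u' : G} (h : SameW D u u') : SameW D u' u := Eq.symm h

theorem SameW.trans {D : Set G} {a b c : G} (h : SameW D a b) (h' : SameW D b c) :
    SameW D a c := Eq.trans h h'

theorem SameW.not_commute {D : Set G} {u u' : G} (hu' : u' ∈ D) (h : SameW D u u')
    (hne : u ≠ u') : ¬ Commute u u' := by
  intro hc
  have h' : {y : G | y ∈ D ∧ y ≠ u ∧ Commute u y} = {y : G | y ∈ D ∧ y ≠ u' ∧ Commute u' y} := h
  have h1 : u' ∈ {y : G | y ∈ D ∧ y ≠ u ∧ Commute u y} := ⟨hu', fun e => hne e.symm, hc⟩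
  rw [h'] at h1
  exact h1.2.1 rfl

theorem SameW.commute_iff {D : Set G} {u u' e : G} (h : SameW D u u') (he : e ∈ D)
    (h1 : e ≠ u) (h2 : e ≠ u') : Commute u e ↔ Commute u' e := by
  have h' : {y : G | y ∈ D ∧ y ≠ u ∧ Commute u y} = {y : G | y ∈ D ∧ y ≠ u' ∧ Commute u' y} := h
  constructor
  · intro hc
    have : e ∈ {y : G | y ∈ D ∧ y ≠ u ∧ Commute u y} := ⟨he, h1, hc⟩
    rw [h'] at this
    exact this.2.2
  · intro hc
    have : e ∈ {y : G | y ∈ D ∧ y ≠ u' ∧ Commute u' y} := ⟨he, h2, hc⟩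
    rw [← h'] at this
    exact this.2.2

theorem sameW_conj {D : Set G} (hconj : ∀ g : G, ∀ d ∈ D, g * d * g⁻¹ ∈ D) {u u' : G}
    (h : SameW D u u') (g : G) : SameW D (g * u * g⁻¹) (g * u' * g⁻¹) := by
  have key : ∀ a : G, {y : G | y ∈ D ∧ y ≠ g * a * g⁻¹ ∧ Commute (g * a * g⁻¹) y}
      = (fun y => g * y * g⁻¹) '' {y : G | y ∈ D ∧ y ≠ a ∧ Commute a y} := by
    intro a
    ext y
    simp only [Set.mem_ofPred_eq, Set.mem_image]
    constructor
    · rintro ⟨hy, hne, hc⟩
      refine ⟨g⁻¹ * y * g, ⟨?_, ?_, ?_⟩, by group⟩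
      · have := hconj g⁻¹ y hy
        simpa using this
      · intro h
        apply hne
        rw [← h]
        group
      · have e1 : g * (g⁻¹ * y * g) * g⁻¹ = y := by group
        have hc' : Commute (g * a * g⁻¹) (g * (g⁻¹ * y * g) * g⁻¹) := by rw [e1]; exact hc
        exact (Commute.conj_iff g).mp hc'
    · rintro ⟨z, ⟨hz, hne, hc⟩, rfl⟩
      refine ⟨hconj g z hz, ?_, ?_⟩
      · intro h
        apply hne
        exact mul_left_cancel (mul_right_cancel h)
      · exact (Commute.conj_iff g).mpr hc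
  have h' : {y : G | y ∈ D ∧ y ≠ u ∧ Commute u y} = {y : G | y ∈ D ∧ y ≠ u' ∧ Commute u' y} := h
  show {y : G | y ∈ D ∧ y ≠ g * u * g⁻¹ ∧ Commute (g * u * g⁻¹) y}
    = {y : G | y ∈ D ∧ y ≠ g * u' * g⁻¹ ∧ Commute (g * u' * g⁻¹) y}
  rw [key u, key u', h']

end basic

section main
variable {G : Type u} [Group G] {D : Set G} (hord : ∀ d ∈ D, orderOf d = 2)
  (h23 : ∀ d ∈ D, ∀ e ∈ D, (d * e) ^ 2 = 1 ∨ (d * e) ^ 3 = 1)
  (hconj : ∀ g : G, ∀ d ∈ D, g * d * g⁻¹ ∈ D)

include hord h23 in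
theorem cube_of_not_commute' {d e : G} (hd : d ∈ D) (he : e ∈ D) (h : ¬ Commute d e) :
    (d * e) ^ 3 = 1 := by
  rcases h23 d hd e he with h2 | h3
  · exact absurd ((commute_iff_sq' (sq_of_ord (hord d hd)) (sq_of_ord (hord e he))).mpr h2) h
  · exact h3

include hord h23 in
theorem cube_of_sameW {u u' w : G} (hu' : u' ∈ D) (hw : w ∈ D) (hs : SameW D u u')
    (hn : ¬ Commute u w) : (u' * w) ^ 3 = 1 := by
  rcases h23 u' hu' w hw with h2 | h3
  · have hc : Commute u' w :=
      (commute_iff_sq' (sq_of_ord (hord u' hu')) (sq_of_ord (hord w hw))).mpr h2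
    by_cases hwu' : w = u'
    · rw [hwu', sq_of_ord (hord u' hu'), one_pow]
    · have hwu : w ≠ u := by
        intro h
        apply hn
        rw [h]
      exact absurd ((hs.commute_iff hw hwu hwu').mpr hc) hn
  · exact h3

include hord h23 in
theorem cube_pair {u u' : G} (hu : u ∈ D) (hu' : u' ∈ D) (hs : SameW D u u') :
    (u * u') ^ 3 = 1 := by
  by_cases h : u = u'
  · rw [← h, sq_of_ord (hord u hu), one_pow]
  · exact cube_of_not_commute' hord h23 hu hu' (hs.not_commute hu' h)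

include hord h23 hconj in
theorem F1 {u u' w : G} (hu : u ∈ D) (hu' : u' ∈ D) (hw : w ∈ D) (hs : SameW D u u')
    (hn : ¬ Commute u w) : SameW D w ((u * u') * w * (u * u')⁻¹) := by
  have hu2 := sq_of_ord (hord u hu)
  have hu'2 := sq_of_ord (hord u' hu')
  have hw2 := sq_of_ord (hord w hw)
  have hui : u⁻¹ = u := inv_of_sq hu2
  have hu'i : u'⁻¹ = u' := inv_of_sq hu'2
  have hwi : w⁻¹ = w := inv_of_sq hw2
  have b1 : u * w * u = w * u * w :=
    braid' hu2 hw2 (cube_of_not_commute' hord h23 hu hw hn)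
  have b2 : u' * w * u' = w * u' * w :=
    braid' hu'2 hw2 (cube_of_sameW hord h23 hu' hw hs hn)
  have c1 : (u * w) * u * (u * w)⁻¹ = w := by
    rw [mul_inv_rev, hui, hwi]
    calc u * w * u * (w * u) = u * (w * u * w) * u := by simp only [mul_assoc]
      _ = u * (u * w * u) * u := by rw [b1]
      _ = (u * u) * w * (u * u) := by simp only [mul_assoc]
      _ = w := by rw [hu2, one_mul, mul_one]
  have c2 : (u * w) * u' * (u * w)⁻¹ = (u * u') * w * (u * u')⁻¹ := by
    rw [mul_inv_rev, mul_inv_rev, hui, hwi, hu'i]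
    calc u * w * u' * (w * u) = u * (w * u' * w) * u := by simp only [mul_assoc]
      _ = u * (u' * w * u') * u := by rw [b2]
      _ = u * u' * w * (u' * u) := by simp only [mul_assoc]
  have := sameW_conj hconj hs (u * w)
  rw [c1, c2] at this
  exact this

include hord h23 hconj in
theorem F2 {u u' w : G} (hu : u ∈ D) (hu' : u' ∈ D) (hw : w ∈ D) (hs : SameW D u u') :
    SameW D w ((u * u') * w * (u * u')⁻¹) := by
  by_cases hc : Commute u w
  · by_cases hwu : w = u
    · rw [hwu, conj_eq' (sq_of_ord (hord u hu)) (sq_of_ord (hord u' hu'))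
        (cube_pair hord h23 hu hu' hs)]
      exact hs
    · have hc' : Commute u' w := by
        by_cases hwu' : w = u'
        · rw [hwu']
        · exact (hs.commute_iff hw hwu hwu').mp hc
      have hcx : Commute (u * u') w := hc.mul_left hc'
      have e : (u * u') * w * (u * u')⁻¹ = w := by
        rw [hcx.eq, mul_inv_cancel_right]
      rw [e]
      exact SameW.refl D w
  · exact F1 hord h23 hconj hu hu' hw hs hc

/-- the W-class of `w` -/
def Wc (D : Set G) (w : G) : Set G := {v | v ∈ D ∧ SameW D w v}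

include hord h23 hconj in
theorem conj_mem_Wc {u u' w v : G} (hu : u ∈ D) (hu' : u' ∈ D) (hs : SameW D u u')
    (hv : v ∈ Wc D w) : (u * u') * v * (u * u')⁻¹ ∈ Wc D w :=
  ⟨hconj _ v hv.1, hv.2.trans (F2 hord h23 hconj hu hu' hv.1 hs)⟩

include hord h23 hconj in
theorem conj_mem_Wc_inv {u u' w v : G} (hu : u ∈ D) (hu' : u' ∈ D) (hs : SameW D u u')
    (hv : v ∈ Wc D w) : (u * u')⁻¹ * v * (u * u') ∈ Wc D w := by
  have h := conj_mem_Wc hord h23 hconj hu' hu hs.symm hv
  have hui : u⁻¹ = u := inv_of_sq (sq_of_ord (hord u hu))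
  have hu'i : u'⁻¹ = u' := inv_of_sq (sq_of_ord (hord u' hu'))
  have e : (u * u')⁻¹ * v * (u * u') = (u' * u) * v * (u' * u)⁻¹ := by
    rw [mul_inv_rev, mul_inv_rev, hui, hu'i]
  rw [e]
  exact h

include hconj in
theorem Wc_conj_self {w a v : G} (ha : a ∈ Wc D w) (hv : v ∈ Wc D w) :
    a * v * a⁻¹ ∈ Wc D w := by
  refine ⟨hconj a v hv.1, ?_⟩
  have h1 : SameW D (a * w * a⁻¹) (a * a * a⁻¹) := sameW_conj hconj ha.2 a
  have h2 : SameW D (a * w * a⁻¹) (a * v * a⁻¹) := sameW_conj hconj hv.2 a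
  have e : a * a * a⁻¹ = a := by group
  rw [e] at h1
  exact (ha.2.trans h1.symm).trans h2

include hord hconj in
theorem Wc_conj_closure {w g : G} (hg : g ∈ Subgroup.closure (Wc D w)) :
    ∀ v ∈ Wc D w, g * v * g⁻¹ ∈ Wc D w ∧ g⁻¹ * v * g ∈ Wc D w := by
  induction hg using Subgroup.closure_induction with
  | mem a ha =>
    intro v hv
    have hai : a⁻¹ = a := inv_of_sq (sq_of_ord (hord a ha.1))
    refine ⟨Wc_conj_self hconj ha hv, ?_⟩
    have := Wc_conj_self hconj ha hv
    rw [hai] at this ⊢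
    exact this
  | one =>
    intro v hv
    simpa using hv
  | mul a b _ _ iha ihb =>
    intro v hv
    constructor
    · have e : a * b * v * (a * b)⁻¹ = a * (b * v * b⁻¹) * a⁻¹ := by group
      rw [e]
      exact (iha _ (ihb v hv).1).1
    · have e : (a * b)⁻¹ * v * (a * b) = b⁻¹ * (a⁻¹ * v * a) * b := by group
      rw [e]
      exact (ihb _ (iha v hv).2).2
  | inv a _ iha =>
    intro v hv
    constructor
    · rw [inv_inv]
      exact (iha v hv).2
    · rw [inv_inv]
      exact (iha v hv).1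

include hord h23 hconj in
theorem w1_Wc {w : G} :
    ZStar.W1 (G := ↥(Subgroup.closure (Wc D w)))
      {y : ↥(Subgroup.closure (Wc D w)) | (y : G) ∈ Wc D w} where
  ord := by
    intro y hy
    rw [← Subgroup.orderOf_coe]
    exact hord _ hy.1
  conj := by
    intro g y hy
    show ((g * y * g⁻¹ : ↥(Subgroup.closure (Wc D w))) : G) ∈ Wc D w
    have := (Wc_conj_closure hord hconj g.2 (y : G) hy).1
    simpa using this
  gen := Subgroup.closure_closure_coe_preimage
  cube := by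
    intro a ha b hb
    apply Subtype.ext
    show ((a : G) * (b : G)) ^ 3 = 1
    exact cube_pair hord h23 ha.1 hb.1 (ha.2.symm.trans hb.2)
  w1 := by
    intro a ha b hb hc
    apply Subtype.ext
    by_contra hne
    have hc' : Commute (a : G) (b : G) := by
      have h := congrArg Subtype.val hc.eq
      simp only [Subgroup.coe_mul] at h
      exact h
    exact (ha.2.symm.trans hb.2).not_commute hb.1 hne hc'

theorem zprop (X : Type u) [Group X] [Finite X] : ZStar.ZProp X :=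
  ZStar.zstar_of_bsStmt (fun H _ _ S n e hO => Cfsg.Agent.S0201.result S n e hO) X

include hord h23 hconj in
theorem prod_mem_map [Finite G] {w a b : G} (hw : w ∈ D) (ha : a ∈ Wc D w) (hb : b ∈ Wc D w) :
    a * b ∈ (pCore 3 ↥(Subgroup.closure (Wc D w))).map (Subgroup.closure (Wc D w)).subtype := by
  set Y := Subgroup.closure (Wc D w) with hY
  have hwW : w ∈ Wc D w := ⟨hw, SameW.refl D w⟩
  let d' : ↥Y := ⟨w, Subgroup.subset_closure hwW⟩
  have hd'd' : d' * d' = 1 := Subtype.ext (sq_of_ord (hord w hw))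
  have htop : Subgroup.zpowers d' ⊔ pCore 3 ↥Y = ⊤ :=
    ZStar.hall_three (zprop ↥Y) (w1_Wc hord h23 hconj) (d := d') hwW
  have hN : IsPGroup 3 (pCore 3 ↥Y) := pCore_isPGroup' 3
  have key : ∀ c : G, ∀ hc : c ∈ Wc D w,
      ∃ n ∈ pCore 3 ↥Y, (⟨c, Subgroup.subset_closure hc⟩ : ↥Y) = d' * n := by
    intro c hc
    have hmem : (⟨c, Subgroup.subset_closure hc⟩ : ↥Y) ∈ Subgroup.zpowers d' ⊔ pCore 3 ↥Y := by
      rw [htop]; trivial
    obtain ⟨z, hz, n, hn, hzn⟩ := Subgroup.mem_sup_of_normal_right.mp hmem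
    rcases zpowers_cases hd'd' hz with h1 | h1
    · exfalso
      rw [h1, one_mul] at hzn
      have hcc : (⟨c, Subgroup.subset_closure hc⟩ : ↥Y) * ⟨c, Subgroup.subset_closure hc⟩ = 1 :=
        Subtype.ext (sq_of_ord (hord c hc.1))
      have h2 := three_group_sq hN (hzn ▸ hn) hcc
      have h3 : c = 1 := congrArg Subtype.val h2
      have h4 := hord c hc.1
      rw [h3, orderOf_one] at h4
      omega
    · exact ⟨n, hn, by rw [← hzn, h1]⟩
  obtain ⟨na, hna, ea⟩ := key a ha
  obtain ⟨nb, hnb, eb⟩ := key b hb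
  have hd'i : d'⁻¹ = d' := inv_of_sq hd'd'
  have hprod : (⟨a, Subgroup.subset_closure ha⟩ : ↥Y) * ⟨b, Subgroup.subset_closure hb⟩
      ∈ pCore 3 ↥Y := by
    rw [ea, eb]
    have e : d' * na * (d' * nb) = (d' * na * d'⁻¹) * nb := by
      rw [hd'i]; simp only [mul_assoc]
    rw [e]
    exact Subgroup.mul_mem _ ((inferInstance : (pCore 3 ↥Y).Normal).conj_mem na hna d') hnb
  exact ⟨_, hprod, rfl⟩

/-- the subgroup generated by products of two members of a W-class -/
def Rw (D : Set G) (w : G) : Subgroup G :=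
  Subgroup.closure {z | ∃ a ∈ Wc D w, ∃ b ∈ Wc D w, z = a * b}

include hord h23 hconj in
theorem Rw_isPGroup [Finite G] {w : G} (hw : w ∈ D) : IsPGroup 3 (Rw D w) := by
  have h1 : IsPGroup 3
      ((pCore 3 ↥(Subgroup.closure (Wc D w))).map (Subgroup.closure (Wc D w)).subtype) :=
    (pCore_isPGroup' 3).map _
  refine h1.to_le ?_
  unfold Rw
  rw [Subgroup.closure_le]
  rintro z ⟨a, ha, b, hb, rfl⟩
  exact prod_mem_map hord h23 hconj hw ha hb

include hord h23 hconj in
theorem mem_normalizer_Rw {u u' w : G} (hu : u ∈ D) (hu' : u' ∈ D) (hs : SameW D u u') :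
    u * u' ∈ Subgroup.normalizer ((Rw D w : Subgroup G) : Set G) := by
  unfold Rw
  apply mem_normalizer_closure
  · rintro t ⟨a, ha, b, hb, rfl⟩
    refine ⟨_, conj_mem_Wc hord h23 hconj hu hu' hs ha, _,
      conj_mem_Wc hord h23 hconj hu hu' hs hb, ?_⟩
    group
  · rintro t ⟨a, ha, b, hb, rfl⟩
    refine ⟨_, conj_mem_Wc_inv hord h23 hconj hu hu' hs ha, _,
      conj_mem_Wc_inv hord h23 hconj hu hu' hs hb, ?_⟩
    group

include hord h23 hconj in
theorem pair_isPGroup [Finite G] {u u' w w' : G} (hu : u ∈ D) (hu' : u' ∈ D) (hw : w ∈ D)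
    (hw' : w' ∈ D) (hs : SameW D u u') (hsw : SameW D w w') :
    IsPGroup 3 (Subgroup.closure ({u * u', w * w'} : Set G)) := by
  haveI : Fact (Nat.Prime 3) := ⟨Nat.prime_three⟩
  have hx3 : (u * u') ^ (3 ^ 1) = 1 := by
    rw [pow_one]; exact cube_pair hord h23 hu hu' hs
  have hX : IsPGroup 3 (Subgroup.zpowers (u * u')) := by
    rintro ⟨y, hy⟩
    obtain ⟨i, rfl⟩ := Subgroup.mem_zpowers_iff.mp hy
    refine ⟨1, Subtype.ext ?_⟩
    show ((u * u') ^ i) ^ (3 ^ 1) = 1
    rw [← zpow_natCast, ← zpow_mul, mul_comm, zpow_mul, zpow_natCast, hx3, one_zpow]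
  have hR := Rw_isPGroup hord h23 hconj hw
  have hnorm : Subgroup.zpowers (u * u') ≤ Subgroup.normalizer ((Rw D w : Subgroup G) : Set G) :=
    Subgroup.zpowers_le.mpr (mem_normalizer_Rw hord h23 hconj hu hu' hs)
  have hsup : IsPGroup 3 (Subgroup.zpowers (u * u') ⊔ Rw D w : Subgroup G) :=
    IsPGroup.to_sup_of_normal_right' hX hR hnorm
  refine hsup.to_le ?_
  rw [Subgroup.closure_le]
  intro z hz
  rcases hz with rfl | rfl
  · exact Subgroup.mem_sup_left (Subgroup.mem_zpowers _)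
  · apply Subgroup.mem_sup_right
    exact Subgroup.subset_closure ⟨w, ⟨hw, SameW.refl D w⟩, w', ⟨hw', hsw⟩, rfl⟩

include hord h23 hconj in
/-- the hard direction: W-equivalent transpositions are congruent modulo `O_3(G)` -/
theorem mul_mem_pCore [Finite G] {u u' : G} (hu : u ∈ D) (hu' : u' ∈ D) (hs : SameW D u u') :
    u * u' ∈ pCore 3 G := by
  haveI : Fact (Nat.Prime 3) := ⟨Nat.prime_three⟩
  let K : Set G := {x | ∃ a ∈ D, ∃ a' ∈ D, SameW D a a' ∧ x = a * a'}
  have hK : ∀ g x, x ∈ K → g * x * g⁻¹ ∈ K := by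
    rintro g x ⟨a, ha, a', ha', hs', rfl⟩
    refine ⟨g * a * g⁻¹, hconj g a ha, g * a' * g⁻¹, hconj g a' ha', sameW_conj hconj hs' g, ?_⟩
    group
  have hpair : ∀ x ∈ K, ∀ y ∈ K, IsPGroup 3 (Subgroup.closure ({x, y} : Set G)) := by
    rintro x ⟨a, ha, a', ha', hsa, rfl⟩ y ⟨b, hb, b', hb', hsb, rfl⟩
    exact pair_isPGroup hord h23 hconj ha ha' hb hb' hsa hsb
  obtain ⟨hKn, hKp⟩ := baer_suzuki_closure K hK hpair
  have hle : Subgroup.closure K ≤ pCore 3 G := le_pCore' hKn hKp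
  exact hle (Subgroup.subset_closure ⟨u, hu, u', hu', hs, rfl⟩)

include hord h23 in
theorem modT3 (T : Subgroup G) [T.Normal] (hT : IsPGroup 3 T) {d e v : G} (hd : d ∈ D)
    (he : e ∈ D) (hv : v ∈ D) (ht : d⁻¹ * v ∈ T) (hde : Commute d e) (hne : e ≠ d) :
    e ≠ v ∧ Commute v e := by
  have hd2 := sq_of_ord (hord d hd)
  have he2 := sq_of_ord (hord e he)
  have hv2 := sq_of_ord (hord v hv)
  have hdi : d⁻¹ = d := inv_of_sq hd2
  have hei : e⁻¹ = e := inv_of_sq he2
  have hvi : v⁻¹ = v := inv_of_sq hv2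
  have hde2 : (d * e) * (d * e) = 1 := by
    have := (commute_iff_sq' hd2 he2).mp hde
    rwa [pow_two] at this
  -- if d⁻¹ e ∈ T then e = d
  have hkey : d⁻¹ * e ∈ T → False := by
    intro h
    rw [hdi] at h
    have h1 := three_group_sq hT h hde2
    apply hne
    have := eq_inv_of_mul_eq_one_right h1
    rw [hdi] at this
    exact this
  constructor
  · intro hev
    apply hkey
    rw [hev]
    exact ht
  · rcases h23 v hv e he with h2 | h3
    · exact (commute_iff_sq' hv2 he2).mpr h2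
    · exfalso
      set t := d⁻¹ * v with htdef
      have hv' : v = d * t := by rw [htdef]; group
      have hsq : (v * e) ^ 2 = (d * t * d⁻¹) * (e * t * e⁻¹) := by
        rw [hdi, hei, hv', pow_two]
        simp only [mul_assoc]
        rw [← mul_assoc e d, ← hde.eq, mul_assoc d e]
      have hsqT : (v * e) ^ 2 ∈ T := by
        rw [hsq]
        exact T.mul_mem (Subgroup.Normal.conj_mem inferInstance t ht d)
          (Subgroup.Normal.conj_mem inferInstance t ht e)
      have hx : v * e = ((v * e) ^ 2)⁻¹ := by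
        apply eq_inv_of_mul_eq_one_left
        rw [← pow_succ']
        exact h3
      have hxT : v * e ∈ T := by rw [hx]; exact T.inv_mem hsqT
      apply hkey
      have e1 : d⁻¹ * e = (d⁻¹ * v) * (v * e) := by
        rw [mul_assoc, ← mul_assoc v v e, hv2, one_mul]
      rw [e1]
      exact T.mul_mem ht hxT

include hord h23 in
theorem sameW_of_mem (T : Subgroup G) [T.Normal] (hT : IsPGroup 3 T) {d v : G} (hd : d ∈ D)
    (hv : v ∈ D) (ht : d⁻¹ * v ∈ T) : SameW D d v := by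
  have ht' : v⁻¹ * d ∈ T := by
    have := T.inv_mem ht
    rwa [mul_inv_rev, inv_inv] at this
  show {y : G | y ∈ D ∧ y ≠ d ∧ Commute d y} = {y : G | y ∈ D ∧ y ≠ v ∧ Commute v y}
  ext y
  simp only [Set.mem_ofPred_eq]
  constructor
  · rintro ⟨hy, hne, hc⟩
    obtain ⟨h1, h2⟩ := modT3 hord h23 T hT hd hy hv ht hc hne
    exact ⟨hy, h1, h2⟩
  · rintro ⟨hy, hne, hc⟩
    obtain ⟨h1, h2⟩ := modT3 hord h23 T hT hv hy hd ht' hc hne
    exact ⟨hy, h1, h2⟩

end main

end Cfsg.Agent.Lib.Helper25.ThreeTrW
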