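import Cfsg.Agent.Lib.Helper25.ThreeTrPrim
import Cfsg.Agent.Lib.Helper25.ThreeTrW
import Cfsg.Agent.Lib.Helper20.Components

/-!
Primitive 3-transposition groups (helper25): normal subgroups are central or transitive, the cores
`O_2`, `O_3` are central, a quasisimple normal subgroup has index at most two, the commuting graph is
connected; the equivalences of S5361.
-/

set_option autoImplicit false
open Cfsg
open scoped commutatorElement

namespace Cfsg.Agent.Lib.Helper25.ThreeTrPrim

open Cfsg.Agent.Lib.Helper20 Cfsg.Agent.Lib.Helper25.ThreeTr Cfsg.Agent.Lib.Helper25.ZStar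

universe u

variable {G : Type u} [Group G] {D : Set G}

theorem isQuasisimple_of_simple' {H : Type*} [Group H] (hs : IsSimpleGroup H)
    (hna : ∃ a b : H, a * b ≠ b * a) : Cfsg.IsQuasisimple H := by
  obtain ⟨a, b, hab⟩ := hna
  have hcomm : commutator H = ⊤ := by
    rcases (inferInstance : (commutator H).Normal).eq_bot_or_eq_top with h | h
    · exfalso
      apply hab
      have this := Subgroup.commutator_mem_commutator (H₁ := (⊤ : Subgroup H))
        (H₂ := (⊤ : Subgroup H)) (Subgroup.mem_top a) (Subgroup.mem_top b)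
      have h' : ⁅(⊤ : Subgroup H), (⊤ : Subgroup H)⁆ = ⊥ := h
      rw [h', Subgroup.mem_bot, commutatorElement_eq_one_iff_mul_comm] at this
      exact this
    · exact h
  have hcen : Subgroup.center H = ⊥ := by
    rcases (inferInstance : (Subgroup.center H).Normal).eq_bot_or_eq_top with h | h
    · exact h
    · exfalso
      apply hab
      have : a ∈ Subgroup.center H := by rw [h]; trivial
      exact (Subgroup.mem_center_iff.mp this b).symm
  refine ⟨⟨hcomm⟩, ?_⟩
  have e : H ⧸ Subgroup.center H ≃* H :=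
    (QuotientGroup.quotientMulEquivOfEq hcen).trans QuotientGroup.quotientBot
  exact e.isSimpleGroup

/-- orbits of a normal subgroup are blocks: a normal subgroup of a primitive group is central or
transitive -/
theorem central_or_transitive (h : TT D) (hprim : IsPrimitiveUnderConj D) (N : Subgroup G)
    [hN : N.Normal] :
    N ≤ Subgroup.center G ∨ ∀ d ∈ D, ∀ e ∈ D, ∃ n ∈ N, n * d * n⁻¹ = e := by
  obtain ⟨htr, ⟨d, hd, -⟩, hblk⟩ := hprim
  let B : Set G := {x | ∃ n ∈ N, x = n * d * n⁻¹}
  have hBD : B ⊆ D := by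
    rintro x ⟨n, -, rfl⟩
    exact h.conj n d hd
  have hdB : d ∈ B := ⟨1, N.one_mem, by group⟩
  have hblock : ∀ g : G, (fun x => g * x * g⁻¹) '' B = B ∨
      Disjoint ((fun x => g * x * g⁻¹) '' B) B := by
    intro g
    by_cases hmeet : ∃ z, z ∈ (fun x => g * x * g⁻¹) '' B ∧ z ∈ B
    · left
      obtain ⟨z, ⟨x, ⟨n₁, hn₁, rfl⟩, rfl⟩, ⟨n₂, hn₂, hz⟩⟩ := hmeet
      have hz' : g * (n₁ * d * n₁⁻¹) * g⁻¹ = n₂ * d * n₂⁻¹ := hz
      have hm : (g * n₁⁻¹ * g⁻¹) * n₂ ∈ N :=
        N.mul_mem (hN.conj_mem _ (N.inv_mem hn₁) g) hn₂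
      have hgd : g * d * g⁻¹ =
          ((g * n₁⁻¹ * g⁻¹) * n₂) * d * ((g * n₁⁻¹ * g⁻¹) * n₂)⁻¹ := by
        have e : g * d * g⁻¹ =
            (g * n₁⁻¹ * g⁻¹) * (g * (n₁ * d * n₁⁻¹) * g⁻¹) * (g * n₁⁻¹ * g⁻¹)⁻¹ := by group
        rw [e, hz']
        group
      obtain ⟨m, hmdef⟩ : ∃ m, m = (g * n₁⁻¹ * g⁻¹) * n₂ := ⟨_, rfl⟩
      rw [← hmdef] at hm hgd
      ext y
      constructor
      · rintro ⟨x, ⟨n, hn, rfl⟩, rfl⟩
        refine ⟨(g * n * g⁻¹) * m, N.mul_mem (hN.conj_mem n hn g) hm, ?_⟩
        have e : g * (n * d * n⁻¹) * g⁻¹ =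
            (g * n * g⁻¹) * (g * d * g⁻¹) * (g * n * g⁻¹)⁻¹ := by group
        show g * (n * d * n⁻¹) * g⁻¹ = _
        rw [e, hgd]
        group
      · rintro ⟨n, hn, rfl⟩
        refine ⟨g⁻¹ * (n * d * n⁻¹) * g, ⟨g⁻¹ * (n * m⁻¹) * g, ?_, ?_⟩, by group⟩
        · have := hN.conj_mem (n * m⁻¹) (N.mul_mem hn (N.inv_mem hm)) g⁻¹
          simpa using this
        · have e : g⁻¹ * (n * m⁻¹) * g * d * (g⁻¹ * (n * m⁻¹) * g)⁻¹ =
              g⁻¹ * (n * m⁻¹) * (g * d * g⁻¹) * (n * m⁻¹)⁻¹ * g := by group
          rw [e, hgd]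
          group
    · right
      rw [Set.disjoint_left]
      intro z hz1 hz2
      exact hmeet ⟨z, hz1, hz2⟩
  rcases hblk B hBD hblock with hsub | hBeq
  · left
    apply h.le_center
    intro d' hd' x hx
    obtain ⟨g, rfl⟩ := htr d hd d' hd'
    have hx' : g⁻¹ * x * g ∈ N := by
      have := hN.conj_mem x hx g⁻¹
      simpa using this
    have h1 : (g⁻¹ * x * g) * d * (g⁻¹ * x * g)⁻¹ = d := hsub ⟨_, hx', rfl⟩ hdB
    have h2 : x * (g * d * g⁻¹) * x⁻¹ = g * d * g⁻¹ := by
      have e : x * (g * d * g⁻¹) * x⁻¹ =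
          g * ((g⁻¹ * x * g) * d * (g⁻¹ * x * g)⁻¹) * g⁻¹ := by group
      rw [e, h1]
    calc g * d * g⁻¹ * x = (x * (g * d * g⁻¹) * x⁻¹) * x := by rw [h2]
      _ = x * (g * d * g⁻¹) := by group
  · right
    intro d₁ hd₁ e he
    have h1 : d₁ ∈ B := by rw [hBeq]; exact hd₁
    have h2 : e ∈ B := by rw [hBeq]; exact he
    obtain ⟨n₁, hn₁, rfl⟩ := h1
    obtain ⟨n₂, hn₂, rfl⟩ := h2
    exact ⟨n₂ * n₁⁻¹, N.mul_mem hn₂ (N.inv_mem hn₁), by group⟩

theorem conj_mul_mem (h : TT D) (N : Subgroup G) [hN : N.Normal] {x n : G} (hx : x ∈ D)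
    (hn : n ∈ N) : x * (n * x * n⁻¹) ∈ N := by
  have h1 : x * n * x⁻¹ ∈ N := hN.conj_mem n hn x
  have e : x * (n * x * n⁻¹) = (x * n * x⁻¹) * n⁻¹ := by
    rw [h.inv hx]; simp only [mul_assoc]
  rw [e]
  exact N.mul_mem h1 (N.inv_mem hn)

theorem pCore_two_central [Finite G] (h : TT D) (hprim : IsPrimitiveUnderConj D) :
    pCore 2 G ≤ Subgroup.center G := by
  rcases central_or_transitive h hprim (pCore 2 G) with hc | htr
  · exact hc
  · exfalso
    obtain ⟨htrans, ⟨a, ha, b, hb, hab⟩, -⟩ := hprim
    have hall : ∀ x ∈ D, ∀ y ∈ D, Commute x y := by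
      intro x hx y hy
      by_cases hxy : x = y
      · rw [hxy]
      obtain ⟨n, hn, rfl⟩ := htr x hx y hy
      by_contra hnc
      have h3 := cube_of_nc h hx (h.conj n x hx) hnc
      have hmem := conj_mul_mem h (pCore 2 G) hx hn
      have h1 := Cfsg.Agent.S5349.pgroup_cube_eq_one (pCore_isPGroup' 2) hmem h3
      apply hxy
      have := eq_inv_of_mul_eq_one_right h1
      rw [h.inv hx] at this
      exact this.symm
    have hcent : ∀ g : G, Commute g a := by
      intro g
      have hg : g ∈ Subgroup.closure D := by rw [h.gen]; trivial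
      induction hg using Subgroup.closure_induction with
      | mem x hx => exact hall x hx a ha
      | one => exact Commute.one_left a
      | mul x y _ _ ihx ihy => exact ihx.mul_left ihy
      | inv x _ ihx => exact ihx.inv_left
    obtain ⟨g, hg⟩ := htrans a ha b hb
    apply hab
    rw [← hg, (hcent g).eq, mul_inv_cancel_right]

theorem pCore_three_central [Finite G] (h : TT D) (hprim : IsPrimitiveUnderConj D)
    (hw : ∃ a ∈ D, ∃ b ∈ D, a ≠ b ∧ Commute a b) : pCore 3 G ≤ Subgroup.center G := by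
  rcases central_or_transitive h hprim (pCore 3 G) with hc | htr
  · exact hc
  · exfalso
    obtain ⟨a, ha, b, hb, hab, hcab⟩ := hw
    obtain ⟨n, hn, rfl⟩ := htr a ha b hb
    have hmem := conj_mul_mem h (pCore 3 G) ha hn
    have hsq : (a * (n * a * n⁻¹)) * (a * (n * a * n⁻¹)) = 1 := by
      calc (a * (n * a * n⁻¹)) * (a * (n * a * n⁻¹))
          = a * ((n * a * n⁻¹) * a) * (n * a * n⁻¹) := by simp only [mul_assoc]
        _ = a * (a * (n * a * n⁻¹)) * (n * a * n⁻¹) := by rw [hcab.eq]
        _ = (a * a) * ((n * a * n⁻¹) * (n * a * n⁻¹)) := by simp only [mul_assoc]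
        _ = 1 := by rw [h.sq ha, h.sq hb, one_mul]
    have h1 := ThreeTrW.three_group_sq (pCore_isPGroup' 3) hmem hsq
    apply hab
    have := eq_inv_of_mul_eq_one_right h1
    rw [h.inv ha] at this
    exact this.symm

theorem index_le_two_of_coset [Finite G] (h : TT D) (L : Subgroup G) [hLn : L.Normal] {a : G}
    (haD : a ∈ D) (hall : ∀ d ∈ D, a⁻¹ * d ∈ L) : L.index ≤ 2 := by
  have hsup2 : L ⊔ Subgroup.zpowers a = ⊤ := by
    rw [eq_top_iff, ← h.gen, Subgroup.closure_le]
    intro d hd
    have e : d = a * (a⁻¹ * d) := by group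
    rw [e]
    exact Subgroup.mul_mem _ (Subgroup.mem_sup_right (Subgroup.mem_zpowers a))
      (Subgroup.mem_sup_left (hall d hd))
  have hdvd : L.index ∣ 2 := by
    have h1 : L.relIndex (L ⊔ Subgroup.zpowers a) = L.relIndex (Subgroup.zpowers a) :=
      Subgroup.relIndex_sup_left (Subgroup.zpowers a) L
    rw [hsup2, Subgroup.relIndex_top_right] at h1
    rw [h1]
    have h2' : L.relIndex (Subgroup.zpowers a) ∣ Nat.card (Subgroup.zpowers a) :=
      Subgroup.relIndex_dvd_card _ _
    rwa [Nat.card_zpowers, h.ord a haD] at h2'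
  exact Nat.le_of_dvd (by norm_num) hdvd

theorem coset_facts [Finite G] (h : TT D) (L : Subgroup G) [hLn : L.Normal]
    (hidx : L.index ≤ 2) {a : G} (haD : a ∈ D) : ∀ g : G, g ∈ L ∨ g * a ∈ L := by
  intro g
  by_cases hLtop : L = ⊤
  · rw [hLtop]
    exact Or.inl trivial
  · have hidx2 : L.index = 2 := by
      have h1 : L.index ≠ 0 := Subgroup.index_ne_zero_of_finite
      have h2' : L.index ≠ 1 := fun h1' => hLtop (Subgroup.index_eq_one.mp h1')
      omega
    have haL : a ∉ L := not_mem_of_ne_top h L hLtop haD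
    by_cases hg : g ∈ L
    · left; exact hg
    · right
      rw [Subgroup.mul_mem_iff_of_index_two hidx2]
      exact ⟨fun h' => absurd h' hg, fun h' => absurd h' haL⟩

theorem index_le_of_primitive [Finite G] (h : TT D) (hprim : IsPrimitiveUnderConj D)
    (L : Subgroup G) [hLn : L.Normal] (hL : IsQuasisimple L) : L.index ≤ 2 := by
  have hnc : ¬ L ≤ Subgroup.center G := by
    intro hle
    apply isQuasisimple_not_isSolvable hL
    have hcm : ∀ a b : ↥L, a * b = b * a := by
      intro a b
      apply Subtype.ext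
      exact Subgroup.mem_center_iff.mp (hle b.2) a.1
    exact Group.isSolvable_of_comm hcm
  rcases central_or_transitive h hprim L with hc | htr
  · exact absurd hc hnc
  · obtain ⟨-, ⟨a, haD, -⟩, -⟩ := hprim
    have hall : ∀ d ∈ D, a⁻¹ * d ∈ L := by
      intro d hd
      obtain ⟨l, hl, rfl⟩ := htr a haD d hd
      have h1 : a⁻¹ * l * a⁻¹⁻¹ ∈ L := hLn.conj_mem l hl a⁻¹
      have e : a⁻¹ * (l * a * l⁻¹) = (a⁻¹ * l * a⁻¹⁻¹) * l⁻¹ := by group
      rw [e]
      exact L.mul_mem h1 (L.inv_mem hl)
    exact index_le_two_of_coset h L haD hall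

/-- commuting relation on `D` -/
def CRel (D : Set G) (x y : G) : Prop := x ∈ D ∧ y ∈ D ∧ x ≠ y ∧ Commute x y

theorem CRel.symm' {x y : G} (hr : CRel D x y) : CRel D y x :=
  ⟨hr.2.1, hr.1, hr.2.2.1.symm, hr.2.2.2.symm⟩

theorem CRel.conj' (h : TT D) {x y : G} (hr : CRel D x y) (g : G) :
    CRel D (g * x * g⁻¹) (g * y * g⁻¹) :=
  ⟨h.conj g x hr.1, h.conj g y hr.2.1,
    fun e => hr.2.2.1 (mul_left_cancel (mul_right_cancel e)), (Commute.conj_iff g).mpr hr.2.2.2⟩

theorem connected_of_primitive (h : TT D) (hprim : IsPrimitiveUnderConj D)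
    (hw : ∃ a ∈ D, ∃ b ∈ D, a ≠ b ∧ Commute a b) : (commutingGraph D).Connected := by
  obtain ⟨a, ha, b, hb, hab, hcab⟩ := hw
  obtain ⟨-, -, hblk⟩ := hprim
  have hRsymm : ∀ x y, Relation.ReflTransGen (CRel D) x y →
      Relation.ReflTransGen (CRel D) y x := by
    intro x y hxy
    induction hxy with
    | refl => exact Relation.ReflTransGen.refl
    | tail _ hbc ih => exact Relation.ReflTransGen.head hbc.symm' ih
  have hRconj : ∀ (g x y : G), Relation.ReflTransGen (CRel D) x y →
      Relation.ReflTransGen (CRel D) (g * x * g⁻¹) (g * y * g⁻¹) := by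
    intro g x y hxy
    induction hxy with
    | refl => exact Relation.ReflTransGen.refl
    | tail _ hbc ih => exact ih.tail (hbc.conj' h g)
  let B : Set G := {x | x ∈ D ∧ Relation.ReflTransGen (CRel D) a x}
  have hBD : B ⊆ D := fun x hx => hx.1
  have hblock : ∀ g : G, (fun x => g * x * g⁻¹) '' B = B ∨
      Disjoint ((fun x => g * x * g⁻¹) '' B) B := by
    intro g
    by_cases hmeet : ∃ z, z ∈ (fun x => g * x * g⁻¹) '' B ∧ z ∈ B
    · left
      obtain ⟨z, ⟨x, ⟨hxD, hax⟩, rfl⟩, ⟨-, haz⟩⟩ := hmeet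
      have haz' : Relation.ReflTransGen (CRel D) a (g * x * g⁻¹) := haz
      have h1 := hRconj g a x hax
      have h2 : Relation.ReflTransGen (CRel D) a (g * a * g⁻¹) := haz'.trans (hRsymm _ _ h1)
      ext y
      constructor
      · rintro ⟨w, ⟨hwD, haw⟩, rfl⟩
        exact ⟨h.conj g w hwD, h2.trans (hRconj g a w haw)⟩
      · rintro ⟨hyD, hay⟩
        refine ⟨g⁻¹ * y * g, ⟨?_, ?_⟩, by group⟩
        · have := h.conj g⁻¹ y hyD
          simpa using this
        · have h3 : Relation.ReflTransGen (CRel D) (g * a * g⁻¹) y := (hRsymm _ _ h2).trans hay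
          have h4 := hRconj g⁻¹ _ _ h3
          have e : g⁻¹ * (g * a * g⁻¹) * g⁻¹⁻¹ = a := by group
          rw [e, inv_inv] at h4
          exact h4
    · right
      rw [Set.disjoint_left]
      intro z hz1 hz2
      exact hmeet ⟨z, hz1, hz2⟩
  rcases hblk B hBD hblock with hsub | hBeq
  · exfalso
    have haB : a ∈ B := ⟨ha, Relation.ReflTransGen.refl⟩
    have hbB : b ∈ B := ⟨hb, Relation.ReflTransGen.single ⟨ha, hb, hab, hcab⟩⟩
    exact hab (hsub haB hbB)
  · have hreach : ∀ x, Relation.ReflTransGen (CRel D) a x → ∀ hx : x ∈ D,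
        (commutingGraph D).Reachable ⟨a, ha⟩ ⟨x, hx⟩ := by
      intro x hx
      induction hx with
      | refl => intro _; exact SimpleGraph.Reachable.refl _
      | tail _ hyx ih =>
        intro hx'
        have hy := hyx.1
        have hadj : (commutingGraph D).Adj ⟨_, hy⟩ ⟨_, hx'⟩ := by
          unfold commutingGraph
          rw [SimpleGraph.fromRel_adj]
          exact ⟨fun e => hyx.2.2.1 (congrArg Subtype.val e), Or.inl hyx.2.2.2⟩
        exact (ih hy).trans hadj.reachable
    rw [SimpleGraph.connected_iff_exists_forall_reachable]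
    refine ⟨⟨a, ha⟩, fun w => ?_⟩
    have hwB : (w : G) ∈ B := by rw [hBeq]; exact w.2
    exact hreach w.1 hwB.2 w.2

theorem s5361_main [Finite G] (hD : IsThreeTranspositionClass D)
    (hZ : Subgroup.center G = ⊥) (hw : ∃ a ∈ D, ∃ b ∈ D, a ≠ b ∧ Commute a b) :
    (IsSimpleGroup (commutator G) ↔ IsPrimitiveUnderConj D) ∧
      (IsPrimitiveUnderConj D ↔
        (pCore 2 G = ⊥ ∧ pCore 3 G = ⊥ ∧ (commutingGraph D).Connected)) := by
  have h := tt_of_class hD
  have hD2 : ∃ a ∈ D, ∃ b ∈ D, a ≠ b := by
    obtain ⟨a, ha, b, hb, hab, -⟩ := hw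
    exact ⟨a, ha, b, hb, hab⟩
  have prim_to : IsPrimitiveUnderConj D →
      (pCore 2 G = ⊥ ∧ pCore 3 G = ⊥ ∧ (commutingGraph D).Connected) := by
    intro hp
    have h2 := pCore_two_central h hp
    have h3 := pCore_three_central h hp hw
    rw [hZ] at h2 h3
    exact ⟨eq_bot_iff.mpr h2, eq_bot_iff.mpr h3, connected_of_primitive h hp hw⟩
  have to_prim : (pCore 2 G = ⊥ ∧ pCore 3 G = ⊥ ∧ (commutingGraph D).Connected) →
      IsPrimitiveUnderConj D := by
    rintro ⟨e2, e3, hconn⟩
    have h2 : pCore 2 G ≤ Subgroup.center G := by rw [e2]; exact bot_le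
    have h3 : pCore 3 G ≤ Subgroup.center G := by rw [e3]; exact bot_le
    obtain ⟨L, hLn, hLq, hF, -⟩ := s5352_of_zprop (fun X _ _ => zprop X) hD hD2 h2 h3
    haveI := hLn
    exact primitive_of_index hD hD2 h2 h3 L hLq
      (index_le_of_connected hD hD2 h2 h3 L hLq hF hconn)
  have prim_to_simple : IsPrimitiveUnderConj D → IsSimpleGroup (commutator G) := by
    intro hp
    have h2 := pCore_two_central h hp
    have h3 := pCore_three_central h hp hw
    obtain ⟨L, hLn, hLq, hF, -⟩ := s5352_of_zprop (fun X _ _ => zprop X) hD hD2 h2 h3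
    haveI := hLn
    have hidx := index_le_of_primitive h hp L hLq
    obtain ⟨a, ha, b, hb, hab, hcab⟩ := hw
    have hcoset := coset_facts h L hidx ha
    have hLeq : L = commutator G := by
      apply le_antisymm
      · have hp' : ⁅L, L⁆ = L := isComponent_perfect ⟨hLn.isSubnormal, hLq⟩
        rw [← hp', commutator_def]
        exact Subgroup.commutator_mono le_top le_top
      · rw [commutator_def, Subgroup.commutator_le]
        intro g₁ _ g₂ _
        rw [commutatorElement_def]
        by_cases hLtop : L = ⊤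
        · rw [hLtop]; trivial
        · have hidx2 : L.index = 2 := by
            have h1 : L.index ≠ 0 := Subgroup.index_ne_zero_of_finite
            have h2' : L.index ≠ 1 := fun h1' => hLtop (Subgroup.index_eq_one.mp h1')
            omega
          rw [Subgroup.mul_mem_iff_of_index_two hidx2, inv_mem_iff]
          constructor
          · intro h1
            have := hLn.conj_mem _ h1 g₁⁻¹
            have e : g₁⁻¹ * (g₁ * g₂ * g₁⁻¹) * g₁⁻¹⁻¹ = g₂ := by group
            rwa [e] at this
          · intro h1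
            exact hLn.conj_mem _ h1 g₁
    have hcen : Subgroup.center ↥L = ⊥ := by
      let Zc : Subgroup G := (Subgroup.center ↥L).map L.subtype
      have hZcn : Zc.Normal := by
        constructor
        rintro _ ⟨z, hz, rfl⟩ g
        refine ⟨⟨g * z * g⁻¹, hLn.conj_mem z z.2 g⟩, ?_, rfl⟩
        rw [SetLike.mem_coe, Subgroup.mem_center_iff]
        intro l
        apply Subtype.ext
        show (l : G) * (g * z * g⁻¹) = (g * z * g⁻¹) * l
        have hl' : g⁻¹ * l * g ∈ L := by
          have := hLn.conj_mem l l.2 g⁻¹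
          simpa using this
        have hz' := Subgroup.mem_center_iff.mp hz ⟨g⁻¹ * l * g, hl'⟩
        have hz'' : (g⁻¹ * l * g) * (z : G) = z * (g⁻¹ * l * g) := congrArg Subtype.val hz'
        calc (l : G) * (g * z * g⁻¹) = g * ((g⁻¹ * l * g) * z) * g⁻¹ := by group
          _ = g * (z * (g⁻¹ * l * g)) * g⁻¹ := by rw [hz'']
          _ = (g * z * g⁻¹) * l := by group
      haveI := hZcn
      rcases central_or_transitive h hp Zc with hc | htr
      · rw [eq_bot_iff]
        intro z hz
        have h1 : (z : G) ∈ Zc := ⟨z, hz, rfl⟩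
        have h4 := hc h1
        rw [hZ, Subgroup.mem_bot] at h4
        rw [Subgroup.mem_bot]
        exact Subtype.ext h4
      · exfalso
        obtain ⟨n, hn, hbn⟩ := htr a ha b hb
        have hmem : a * (n * a * n⁻¹) ∈ Zc := conj_mul_mem h Zc ha hn
        rw [hbn] at hmem
        obtain ⟨z, hz, hzt⟩ := hmem
        have hzt' : (z : G) = a * b := hzt
        have hcl : ∀ l ∈ L, l * (a * b) = (a * b) * l := by
          intro l hl
          have := Subgroup.mem_center_iff.mp hz ⟨l, hl⟩
          have h5 : l * (z : G) = z * l := congrArg Subtype.val this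
          rw [hzt'] at h5
          exact h5
        have hax : a * (a * b) = (a * b) * a := by
          rw [hcab.eq, ← mul_assoc, hcab.eq]
        have hcentral : a * b ∈ Subgroup.center G := by
          rw [Subgroup.mem_center_iff]
          intro g
          rcases hcoset g with hg | hg
          · exact hcl g hg
          · have hgl : g = (g * a) * a := by rw [mul_assoc, h.sq ha, mul_one]
            obtain ⟨l, hl, rfl⟩ : ∃ l ∈ L, g = l * a := ⟨g * a, hg, hgl⟩
            rw [mul_assoc, hax, ← mul_assoc, hcl _ hl, mul_assoc]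
        rw [hZ, Subgroup.mem_bot] at hcentral
        apply hab
        have := eq_inv_of_mul_eq_one_right hcentral
        rw [h.inv ha] at this
        exact this.symm
    subst hLeq
    have e : ↥(commutator G) ⧸ Subgroup.center ↥(commutator G) ≃* ↥(commutator G) :=
      (QuotientGroup.quotientMulEquivOfEq hcen).trans QuotientGroup.quotientBot
    haveI := hLq.2
    exact e.symm.isSimpleGroup
  have simple_to_prim : IsSimpleGroup (commutator G) → IsPrimitiveUnderConj D := by
    intro hs
    obtain ⟨a, ha, b, hb, hab, hcab⟩ := hw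
    have hall : ∀ d ∈ D, a⁻¹ * d ∈ commutator G := by
      intro d hd
      obtain ⟨g, rfl⟩ := h.trans a ha d hd
      have e : a⁻¹ * (g * a * g⁻¹) = ⁅a⁻¹, g⁆ := by
        rw [commutatorElement_def]; group
      rw [e, commutator_def]
      exact Subgroup.commutator_mem_commutator (Subgroup.mem_top _) (Subgroup.mem_top _)
    have hidx : (commutator G).index ≤ 2 := index_le_two_of_coset h (commutator G) ha hall
    by_cases hcomm : ∀ x y : ↥(commutator G), x * y = y * x
    · exfalso
      haveI : Fact (Nat.Prime 2) := ⟨Nat.prime_two⟩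
      have htS := hall b hb
      have htne : (⟨a⁻¹ * b, htS⟩ : ↥(commutator G)) ≠ 1 := by
        intro h1
        have h4 : a⁻¹ * b = 1 := congrArg Subtype.val h1
        apply hab
        have := eq_inv_of_mul_eq_one_right h4
        rw [inv_inv] at this
        exact this.symm
      have htsq : (⟨a⁻¹ * b, htS⟩ : ↥(commutator G)) ^ 2 = 1 := by
        apply Subtype.ext
        show (a⁻¹ * b) ^ 2 = 1
        rw [h.inv ha, pow_two]
        calc a * b * (a * b) = a * (b * a) * b := by simp only [mul_assoc]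
          _ = a * (a * b) * b := by rw [hcab.eq]
          _ = (a * a) * (b * b) := by simp only [mul_assoc]
          _ = 1 := by rw [h.sq ha, h.sq hb, one_mul]
      have hord : orderOf (⟨a⁻¹ * b, htS⟩ : ↥(commutator G)) = 2 :=
        orderOf_eq_prime htsq htne
      letI : CommGroup ↥(commutator G) :=
        { (inferInstance : Group ↥(commutator G)) with mul_comm := hcomm }
      have hprime : (Nat.card ↥(commutator G)).Prime := IsSimpleGroup.prime_card
      have h2dvd : 2 ∣ Nat.card ↥(commutator G) := hord ▸ orderOf_dvd_natCard _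
      have hcard2 : Nat.card ↥(commutator G) = 2 :=
        ((Nat.prime_dvd_prime_iff_eq Nat.prime_two hprime).mp h2dvd).symm
      have hcardG := Subgroup.index_mul_card (commutator G)
      rw [hcard2] at hcardG
      have hidx0 : (commutator G).index ≠ 0 := Subgroup.index_ne_zero_of_finite
      have hpG : IsPGroup 2 G := by
        have h12 : (commutator G).index = 1 ∨ (commutator G).index = 2 := by omega
        rcases h12 with h1 | h1
        · apply IsPGroup.of_card (n := 1)
          rw [← hcardG, h1]; norm_num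
        · apply IsPGroup.of_card (n := 2)
          rw [← hcardG, h1]; norm_num
      haveI : Nontrivial G := ⟨⟨a, b, hab⟩⟩
      have hnt := hpG.center_nontrivial
      rw [Subgroup.nontrivial_iff_ne_bot] at hnt
      exact hnt hZ
    · push Not at hcomm
      have hSq : IsQuasisimple ↥(commutator G) := by
        obtain ⟨x, y, hxy⟩ := hcomm
        exact isQuasisimple_of_simple' hs ⟨x, y, hxy⟩
      have hcore : ∀ (p : ℕ) [Fact p.Prime], pCore p G ≤ Subgroup.center G := by
        intro p _
        have hN : (pCore p G).Normal := inferInstance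
        rcases (inferInstance : ((pCore p G).subgroupOf (commutator G)).Normal).eq_bot_or_eq_top
          with hb' | ht
        · intro n hn
          rw [Subgroup.mem_center_iff]
          intro g
          have h1 : ⁅n, g⁆ ∈ pCore p G := by
            rw [commutatorElement_def]
            have : n * g * n⁻¹ * g⁻¹ = n * (g * n⁻¹ * g⁻¹) := by group
            rw [this]
            exact Subgroup.mul_mem _ hn (hN.conj_mem _ (Subgroup.inv_mem _ hn) g)
          have h2' : ⁅n, g⁆ ∈ commutator G := by
            rw [commutator_def]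
            exact Subgroup.commutator_mem_commutator (Subgroup.mem_top _) (Subgroup.mem_top _)
          have h3' : (⟨⁅n, g⁆, h2'⟩ : ↥(commutator G)) ∈
              (pCore p G).subgroupOf (commutator G) := Subgroup.mem_subgroupOf.mpr h1
          rw [hb', Subgroup.mem_bot] at h3'
          have h4 : ⁅n, g⁆ = 1 := congrArg Subtype.val h3'
          rw [commutatorElement_eq_one_iff_mul_comm] at h4
          exact h4.symm
        · exfalso
          have hle : commutator G ≤ pCore p G := Subgroup.subgroupOf_eq_top.mp ht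
          have hpS : IsPGroup p ↥(commutator G) := (pCore_isPGroup' p).to_le hle
          have hnil : Group.IsNilpotent ↥(commutator G) := hpS.isNilpotent
          exact isQuasisimple_not_isSolvable hSq inferInstance
      haveI : Fact (Nat.Prime 2) := ⟨Nat.prime_two⟩
      haveI : Fact (Nat.Prime 3) := ⟨Nat.prime_three⟩
      exact primitive_of_index hD hD2 (hcore 2) (hcore 3) (commutator G) hSq hidx
  exact ⟨⟨simple_to_prim, prim_to_simple⟩, ⟨prim_to, to_prim⟩⟩

end Cfsg.Agent.Lib.Helper25.ThreeTrPrim
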