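import Cfsg.Agent.S5357
import Cfsg.Agent.S5349
import Cfsg.Agent.S5350
import Cfsg.Agent.Lib.Helper25.ThreeTrPrimB

/-!
Reflection groups over the field with three elements (S5360), helper25: the classes of members with
the same commuting members are trivial, the commuting graph is connected, hence the structure
statements follow from the general theory of 3-transposition groups.
-/

set_option autoImplicit false
open scoped MatrixGroups
open Cfsg

namespace Cfsg.Agent.Lib.Helper25.ReflF3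

open Matrix QuadraticMap Cfsg.Agent.Lib.Helper19.OrthRefl Cfsg.Agent.S5357

section geom

variable {n : ℕ} (Q : QuadraticForm (ZMod 3) (Fin n → ZMod 3))

theorem z3_a : ∀ g c : ZMod 3, c ≠ 0 → g + g * c * (2 * c) = 0 := by decide

theorem z3_b : ∀ b c : ZMod 3, b ≠ 0 → c ≠ 0 → c + (b * c) * (b * c) * c + (b * c) * b = 0 := by
  decide

theorem polar_add_smul_right (x a b : Fin n → ZMod 3) (t : ZMod 3) :
    polar (⇑Q) x (a + t • b) = polar (⇑Q) x a + t * polar (⇑Q) x b := by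
  rw [QuadraticMap.polar_add_right, QuadraticMap.polar_smul_right, smul_eq_mul]

theorem polar_add_smul_left (x a b : Fin n → ZMod 3) (t : ZMod 3) :
    polar (⇑Q) (a + t • b) x = polar (⇑Q) a x + t * polar (⇑Q) b x := by
  rw [QuadraticMap.polar_add_left, QuadraticMap.polar_smul_left, smul_eq_mul]

theorem Q_add' (a b : Fin n → ZMod 3) : Q (a + b) = Q a + Q b + polar (⇑Q) a b := by
  unfold QuadraticMap.polar; ring

theorem Q_add_smul (a b : Fin n → ZMod 3) (t : ZMod 3) :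
    Q (a + t • b) = Q a + t * t * Q b + t * polar (⇑Q) a b := by
  rw [Q_add', QuadraticMap.map_smul, QuadraticMap.polar_smul_right, smul_eq_mul, smul_eq_mul]

theorem proj_orth {u : Fin n → ZMod 3} {c : ZMod 3} (hc : c ≠ 0) (hu : Q u = c)
    (x : Fin n → ZMod 3) : polar (⇑Q) u (x + (polar (⇑Q) u x * c) • u) = 0 := by
  rw [polar_add_smul_right, polar_self', hu]
  exact z3_a _ c hc

theorem proj_sing {u v : Fin n → ZMod 3} {c : ZMod 3} (hc : c ≠ 0) (hu : Q u = c) (hv : Q v = c)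
    (h : polar (⇑Q) u v ≠ 0) : Q (v + (polar (⇑Q) u v * c) • u) = 0 := by
  rw [Q_add_smul, hu, hv, QuadraticMap.polar_comm (⇑Q) v u]
  exact z3_b _ c h hc

theorem exists_pair (hQ : (QuadraticMap.polarBilin Q).Nondegenerate) {u x : Fin n → ZMod 3}
    {c : ZMod 3} (hc : c ≠ 0) (hu : Q u = c) (hx0 : x ≠ 0) (hux : polar (⇑Q) u x = 0) :
    ∃ y, polar (⇑Q) u y = 0 ∧ polar (⇑Q) x y ≠ 0 := by
  obtain ⟨y, hy⟩ : ∃ y, polar (⇑Q) x y ≠ 0 := by
    by_contra hcon
    push Not at hcon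
    apply hx0
    apply hQ.1 x
    intro y
    rw [QuadraticMap.polarBilin_apply_apply]
    exact hcon y
  refine ⟨y + (polar (⇑Q) u y * c) • u, proj_orth Q hc hu y, ?_⟩
  rw [polar_add_smul_right, QuadraticMap.polar_comm (⇑Q) x u, hux, mul_zero, add_zero]
  exact hy

theorem refl_ne_of_witness {v w x : Fin n → ZMod 3} (hv : Q v ≠ 0) (hw : Q w ≠ 0)
    (h1 : polar (⇑Q) v x = 0) (h2 : polar (⇑Q) w x ≠ 0) : refl Q v hv ≠ refl Q w hw := by
  intro heq
  have e1 := act_refl_of_polar_eq_zero Q v hv x h1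
  rw [heq, act_refl] at e1
  have e2 : ((Q w)⁻¹ * polar (⇑Q) w x) • w = 0 := sub_eq_self.mp e1
  rcases smul_eq_zero.mp e2 with h3 | h3
  · exact mul_ne_zero (inv_ne_zero hw) h2 h3
  · apply hw
    rw [h3, QuadraticMap.map_zero]

theorem exists_W (hQ : (QuadraticMap.polarBilin Q).Nondegenerate) {u v : Fin n → ZMod 3}
    {c : ZMod 3} (hc : c ≠ 0) (hu : Q u = c) (hv : Q v = c) (h : polar (⇑Q) u v ≠ 0)
    (hu' : Q u ≠ 0) (hv' : Q v ≠ 0) (hne : refl Q u hu' ≠ refl Q v hv') :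
    ∃ w, Q w = c ∧ polar (⇑Q) u w = 0 ∧ polar (⇑Q) v w ≠ 0 := by
  obtain ⟨β, hβ⟩ : ∃ β, β = polar (⇑Q) u v := ⟨_, rfl⟩
  obtain ⟨v', hv'def⟩ : ∃ v', v' = v + (polar (⇑Q) u v * c) • u := ⟨_, rfl⟩
  have hs : Q v' = 0 := by rw [hv'def]; exact proj_sing Q hc hu hv h
  have ho : polar (⇑Q) u v' = 0 := by rw [hv'def]; exact proj_orth Q hc hu v
  have hv0 : v' ≠ 0 := by
    intro h0
    apply hne
    have hvu : v = (-(polar (⇑Q) u v * c)) • u := by
      have h1 : v + (polar (⇑Q) u v * c) • u = 0 := by rw [← hv'def]; exact h0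
      rw [neg_smul]
      exact eq_neg_of_add_eq_zero_left h1
    have ht : -(polar (⇑Q) u v * c) ≠ 0 := neg_ne_zero.mpr (mul_ne_zero h hc)
    have hne' : Q ((-(polar (⇑Q) u v * c)) • u) ≠ 0 := by rw [← hvu]; exact hv'
    exact ((refl_eq_of_eq Q hvu hv' hne').trans (refl_smul Q u hu' _ ht hne')).symm
  obtain ⟨y, huy, hxy⟩ := exists_pair Q hQ hc hu hv0 ho
  obtain ⟨δ, hδ⟩ : ∃ δ, δ = polar (⇑Q) v' y := ⟨_, rfl⟩
  have hδ0 : δ ≠ 0 := by rw [hδ]; exact hxy
  have e1 : polar (⇑Q) v y = δ := by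
    rw [hδ, hv'def, polar_add_smul_left, huy, mul_zero, add_zero]
  have e2 : polar (⇑Q) v v' = 0 := by
    have h1 : polar (⇑Q) v' v' = 0 := by rw [polar_self', hs, mul_zero]
    have h2 : polar (⇑Q) v' v' = polar (⇑Q) v v' + (polar (⇑Q) u v * c) * polar (⇑Q) u v' := by
      conv_lhs => rw [hv'def]
      rw [polar_add_smul_left, ← hv'def]
    rw [h2, ho, mul_zero, add_zero] at h1
    exact h1
  refine ⟨y + ((c - Q y) * δ⁻¹) • v', ?_, ?_, ?_⟩
  · rw [Q_add_smul, hs, mul_zero, add_zero, QuadraticMap.polar_comm (⇑Q) y v', ← hδ]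
    field_simp
    ring
  · rw [polar_add_smul_right, huy, ho, mul_zero, add_zero]
  · rw [polar_add_smul_right, e1, e2, mul_zero, add_zero]
    exact hδ0

theorem exists_V (hn : 5 ≤ n) (hQ : (QuadraticMap.polarBilin Q).Nondegenerate)
    {u v : Fin n → ZMod 3} {c : ZMod 3} (hc : c ≠ 0) (hu : Q u = c) (hv : Q v = c)
    (h : polar (⇑Q) u v = 0) :
    ∃ w x, Q w = c ∧ polar (⇑Q) u w = 0 ∧ polar (⇑Q) v w ≠ 0 ∧ polar (⇑Q) v x = 0 ∧
      polar (⇑Q) w x ≠ 0 := by
  have hu0 : Q u ≠ 0 := by rw [hu]; exact hc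
  have hv0 : Q v ≠ 0 := by rw [hv]; exact hc
  have hvu : polar (⇑Q) v u = 0 := by rw [QuadraticMap.polar_comm]; exact h
  have hso2 : ∀ i j : Fin 2, i ≠ j → polar (⇑Q) (![u, v] i) (![u, v] j) = 0 := by
    intro i j hij
    fin_cases i <;> fin_cases j
    · exact absurd rfl hij
    · exact h
    · exact hvu
    · exact absurd rfl hij
  have hsn2 : ∀ i : Fin 2, Q (![u, v] i) ≠ 0 := by
    intro i
    fin_cases i
    · exact hu0
    · exact hv0
  obtain ⟨a, hao, han⟩ := exists_orth_norm Q hQ 2 ![u, v] hso2 hsn2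
    (by rw [Fintype.card_fin]; omega) c hc
  have hua : polar (⇑Q) u a = 0 := hao 0
  have hva : polar (⇑Q) v a = 0 := hao 1
  have hau : polar (⇑Q) a u = 0 := by rw [QuadraticMap.polar_comm]; exact hua
  have hav : polar (⇑Q) a v = 0 := by rw [QuadraticMap.polar_comm]; exact hva
  have ha0 : Q a ≠ 0 := by rw [han]; exact hc
  have hso3 : ∀ i j : Fin 3, i ≠ j → polar (⇑Q) (![u, v, a] i) (![u, v, a] j) = 0 := by
    intro i j hij
    fin_cases i <;> fin_cases j
    · exact absurd rfl hij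
    · exact h
    · exact hua
    · exact hvu
    · exact absurd rfl hij
    · exact hva
    · exact hau
    · exact hav
    · exact absurd rfl hij
  have hsn3 : ∀ i : Fin 3, Q (![u, v, a] i) ≠ 0 := by
    intro i
    fin_cases i
    · exact hu0
    · exact hv0
    · exact ha0
  obtain ⟨b, hbo, hbn⟩ := exists_orth_norm Q hQ 3 ![u, v, a] hso3 hsn3
    (by rw [Fintype.card_fin]; omega) (-c) (neg_ne_zero.mpr hc)
  have hub : polar (⇑Q) u b = 0 := hbo 0
  have hvb : polar (⇑Q) v b = 0 := hbo 1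
  have hab : polar (⇑Q) a b = 0 := hbo 2
  have hcc : polar (⇑Q) a a ≠ 0 := by
    rw [polar_self', han]; exact mul_ne_zero z3_two hc
  have hvv : polar (⇑Q) v v ≠ 0 := by
    rw [polar_self', hv]; exact mul_ne_zero z3_two hc
  refine ⟨v + a + b, a, ?_, ?_, ?_, hva, ?_⟩
  · rw [Q_add', Q_add', QuadraticMap.polar_add_left, hva, hvb, hab, hv, han, hbn]
    ring
  · rw [QuadraticMap.polar_add_right, QuadraticMap.polar_add_right, h, hua, hub, add_zero,
      add_zero]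
  · rw [QuadraticMap.polar_add_right, QuadraticMap.polar_add_right, hva, hvb, add_zero, add_zero]
    exact hvv
  · rw [QuadraticMap.polar_add_left, QuadraticMap.polar_add_left, hva,
      QuadraticMap.polar_comm (⇑Q) b a, hab, add_zero, zero_add]
    exact hcc

theorem exists_common (hn : 5 ≤ n) (hQ : (QuadraticMap.polarBilin Q).Nondegenerate)
    {u v : Fin n → ZMod 3} {c : ZMod 3} (hc : c ≠ 0) (hu : Q u = c) (hv : Q v = c)
    (h : polar (⇑Q) u v ≠ 0) :
    ∃ w, Q w = c ∧ polar (⇑Q) u w = 0 ∧ polar (⇑Q) v w = 0 := by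
  have hu0 : Q u ≠ 0 := by rw [hu]; exact hc
  obtain ⟨v', hv'def⟩ : ∃ v', v' = v + (polar (⇑Q) u v * c) • u := ⟨_, rfl⟩
  have hs : Q v' = 0 := by rw [hv'def]; exact proj_sing Q hc hu hv h
  have ho : polar (⇑Q) u v' = 0 := by rw [hv'def]; exact proj_orth Q hc hu v
  have key : ∀ w, polar (⇑Q) u w = 0 → polar (⇑Q) v' w = 0 → polar (⇑Q) v w = 0 := by
    intro w h1 h2
    have h3 : polar (⇑Q) v' w = polar (⇑Q) v w + (polar (⇑Q) u v * c) * polar (⇑Q) u w := by
      rw [hv'def, polar_add_smul_left]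
    rw [h2, h1, mul_zero, add_zero] at h3
    exact h3.symm
  by_cases hv0 : v' = 0
  · have hso1 : ∀ i j : Fin 1, i ≠ j → polar (⇑Q) (![u] i) (![u] j) = 0 := by
      intro i j hij
      exact absurd (Subsingleton.elim i j) hij
    have hsn1 : ∀ i : Fin 1, Q (![u] i) ≠ 0 := by
      intro i
      fin_cases i
      exact hu0
    obtain ⟨w, hwo, hwn⟩ := exists_orth_norm Q hQ 1 ![u] hso1 hsn1
      (by rw [Fintype.card_fin]; omega) c hc
    have huw : polar (⇑Q) u w = 0 := hwo 0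
    refine ⟨w, hwn, huw, key w huw ?_⟩
    rw [hv0]
    exact QuadraticMap.polar_zero_left _ _
  · obtain ⟨y, huy, hxy⟩ := exists_pair Q hQ hc hu hv0 ho
    obtain ⟨δ, hδ⟩ : ∃ δ, δ = polar (⇑Q) v' y := ⟨_, rfl⟩
    have hδ0 : δ ≠ 0 := by rw [hδ]; exact hxy
    obtain ⟨y₁, hy₁⟩ : ∃ y₁, y₁ = y + (-(Q y) * δ⁻¹) • v' := ⟨_, rfl⟩
    have hy₁s : Q y₁ = 0 := by
      rw [hy₁, Q_add_smul, hs, mul_zero, add_zero, QuadraticMap.polar_comm (⇑Q) y v', ← hδ]
      field_simp
      ring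
    have huy₁ : polar (⇑Q) u y₁ = 0 := by
      rw [hy₁, polar_add_smul_right, huy, ho, mul_zero, add_zero]
    have hvy₁ : polar (⇑Q) v' y₁ = δ := by
      rw [hy₁, polar_add_smul_right, polar_self', hs, ← hδ]
      ring
    have hy₁v : polar (⇑Q) y₁ v' = δ := by rw [QuadraticMap.polar_comm]; exact hvy₁
    have hvv : polar (⇑Q) v' v' = 0 := by rw [polar_self', hs, mul_zero]
    have hyy : polar (⇑Q) y₁ y₁ = 0 := by rw [polar_self', hy₁s, mul_zero]
    obtain ⟨p, hp⟩ : ∃ p, p = v' + y₁ := ⟨_, rfl⟩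
    obtain ⟨q, hq⟩ : ∃ q, q = v' - y₁ := ⟨_, rfl⟩
    have hQp : Q p = δ := by
      rw [hp, Q_add', hs, hy₁s, hvy₁]; ring
    have hQq : Q q = -δ := by
      rw [hq, Q_sub', hs, hy₁s, hvy₁]; ring
    have hup : polar (⇑Q) u p = 0 := by
      rw [hp, QuadraticMap.polar_add_right, ho, huy₁, add_zero]
    have huq : polar (⇑Q) u q = 0 := by
      rw [hq, QuadraticMap.polar_sub_right, ho, huy₁, sub_zero]
    have hpq : polar (⇑Q) p q = 0 := by
      rw [hp, hq, QuadraticMap.polar_add_left, QuadraticMap.polar_sub_right,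
        QuadraticMap.polar_sub_right, hvv, hvy₁, hy₁v, hyy]
      ring
    have hpu : polar (⇑Q) p u = 0 := by rw [QuadraticMap.polar_comm]; exact hup
    have hqu : polar (⇑Q) q u = 0 := by rw [QuadraticMap.polar_comm]; exact huq
    have hqp : polar (⇑Q) q p = 0 := by rw [QuadraticMap.polar_comm]; exact hpq
    have hso3 : ∀ i j : Fin 3, i ≠ j → polar (⇑Q) (![u, p, q] i) (![u, p, q] j) = 0 := by
      intro i j hij
      fin_cases i <;> fin_cases j
      · exact absurd rfl hij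
      · exact hup
      · exact huq
      · exact hpu
      · exact absurd rfl hij
      · exact hpq
      · exact hqu
      · exact hqp
      · exact absurd rfl hij
    have hsn3 : ∀ i : Fin 3, Q (![u, p, q] i) ≠ 0 := by
      intro i
      fin_cases i
      · exact hu0
      · show Q p ≠ 0
        rw [hQp]; exact hδ0
      · show Q q ≠ 0
        rw [hQq]; exact neg_ne_zero.mpr hδ0
    obtain ⟨w, hwo, hwn⟩ := exists_orth_norm Q hQ 3 ![u, p, q] hso3 hsn3
      (by rw [Fintype.card_fin]; omega) c hc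
    have huw : polar (⇑Q) u w = 0 := hwo 0
    have hpw : polar (⇑Q) p w = 0 := hwo 1
    have hqw : polar (⇑Q) q w = 0 := hwo 2
    rw [hp, QuadraticMap.polar_add_left] at hpw
    rw [hq, QuadraticMap.polar_sub_left] at hqw
    have h2 : (2 : ZMod 3) * polar (⇑Q) v' w = 0 := by linear_combination hpw + hqw
    have hvw : polar (⇑Q) v' w = 0 := by
      rcases mul_eq_zero.mp h2 with h3 | h3
      · exact absurd h3 z3_two
      · exact h3
    exact ⟨w, hwn, huw, key w huw hvw⟩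

end geom


section grp

open Cfsg.Agent.Lib.Helper25.ThreeTr Cfsg.Agent.Lib.Helper25.ThreeTrPrim

variable (n : ℕ) (Q : QuadraticForm (ZMod 3) (Fin n → ZMod 3)) (c : ZMod 3) (hc : c ≠ 0)

/-- the class of reflections of norm `c` -/
abbrev DD : Set ↥(Cfsg.reflectionSubgroup (⇑Q) c) :=
  {g : ↥(Cfsg.reflectionSubgroup (⇑Q) c) |
    (g : ↥(Cfsg.isometryGroup (ZMod 3) (⇑Q))) ∈ Cfsg.reflectionsOfNorm (⇑Q) c}

theorem mem_DD_iff (g : ↥(Cfsg.reflectionSubgroup (⇑Q) c)) :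
    g ∈ DD n Q c ↔ ∃ (v : Fin n → ZMod 3) (hv : Q v = c), g = rR n Q c hc hv := by
  show (g : ↥(Cfsg.isometryGroup (ZMod 3) (⇑Q))) ∈ Cfsg.reflectionsOfNorm (⇑Q) c ↔ _
  rw [mem_Rn_iff n Q c hc]
  constructor
  · rintro ⟨v, hv, h⟩
    exact ⟨v, hv, Subtype.ext h⟩
  · rintro ⟨v, hv, rfl⟩
    exact ⟨v, hv, rfl⟩

theorem rR_mem_DD {v : Fin n → ZMod 3} (hv : Q v = c) : rR n Q c hc hv ∈ DD n Q c :=
  (mem_DD_iff n Q c hc _).mpr ⟨v, hv, rfl⟩

theorem commute_cases {u w : Fin n → ZMod 3} (hu : Q u = c) (hw : Q w = c)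
    (hcm : Commute (rR n Q c hc hu) (rR n Q c hc hw)) :
    polar (⇑Q) u w = 0 ∨ rR n Q c hc hu = rR n Q c hc hw := by
  by_cases h : polar (⇑Q) u w = 0
  · left; exact h
  · right
    have hb := rR_braid n Q c hc hu hw h
    calc rR n Q c hc hu = rR n Q c hc hu * rR n Q c hc hw * rR n Q c hc hw := by
          rw [mul_assoc, rR_mul_self, mul_one]
      _ = rR n Q c hc hw * rR n Q c hc hu * rR n Q c hc hw := by rw [hcm.eq]
      _ = rR n Q c hc hu * rR n Q c hc hw * rR n Q c hc hu := hb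
      _ = rR n Q c hc hw * rR n Q c hc hu * rR n Q c hc hu := by rw [hcm.eq]
      _ = rR n Q c hc hw := by rw [mul_assoc, rR_mul_self, mul_one]

theorem rR_ne_of_witness {v w x : Fin n → ZMod 3} (hv : Q v = c) (hw : Q w = c)
    (h1 : polar (⇑Q) v x = 0) (h2 : polar (⇑Q) w x ≠ 0) :
    rR n Q c hc hv ≠ rR n Q c hc hw := by
  intro heq
  exact refl_ne_of_witness Q (ne0 n Q c hc hv) (ne0 n Q c hc hw) h1 h2 (congrArg Subtype.val heq)

include hc in
theorem polar_self_ne' {v : Fin n → ZMod 3} (hv : Q v = c) : polar (⇑Q) v v ≠ 0 := by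
  rw [polar_self', hv]
  exact mul_ne_zero z3_two hc

include hc in
theorem v_trivial (hn : 5 ≤ n) (hQ : (QuadraticMap.polarBilin Q).Nondegenerate)
    {d v' : ↥(Cfsg.reflectionSubgroup (⇑Q) c)} (hd : d ∈ DD n Q c) (hv' : v' ∈ DD n Q c)
    (hcd : ∀ e ∈ DD n Q c, Commute v' e ↔ Commute d e) : v' = d := by
  obtain ⟨u, hu, rfl⟩ := (mem_DD_iff n Q c hc d).mp hd
  obtain ⟨v, hv, rfl⟩ := (mem_DD_iff n Q c hc v').mp hv'
  by_contra hne
  by_cases h : polar (⇑Q) u v = 0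
  · obtain ⟨w, x, hw, huw, hvw, hvx, hwx⟩ := exists_V Q hn hQ hc hu hv h
    have h1 : Commute (rR n Q c hc hu) (rR n Q c hc hw) := rR_comm n Q c hc hu hw huw
    have h2 := (hcd _ (rR_mem_DD n Q c hc hw)).mpr h1
    rcases commute_cases n Q c hc hv hw h2 with h3 | h3
    · exact hvw h3
    · exact rR_ne_of_witness n Q c hc hv hw hvx hwx h3
  · have h1 : Commute (rR n Q c hc hv) (rR n Q c hc hu) :=
      (hcd _ (rR_mem_DD n Q c hc hu)).mpr (Commute.refl _)
    rcases commute_cases n Q c hc hv hu h1 with h3 | h3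
    · apply h
      rw [QuadraticMap.polar_comm]
      exact h3
    · exact hne h3

include hc in
theorem w_trivial (hQ : (QuadraticMap.polarBilin Q).Nondegenerate)
    {d w : ↥(Cfsg.reflectionSubgroup (⇑Q) c)} (hd : d ∈ DD n Q c) (hw : w ∈ DD n Q c)
    (hs : {y | y ∈ DD n Q c ∧ y ≠ d ∧ Commute d y} = {y | y ∈ DD n Q c ∧ y ≠ w ∧ Commute w y}) :
    w = d := by
  obtain ⟨u, hu, rfl⟩ := (mem_DD_iff n Q c hc d).mp hd
  obtain ⟨v, hv, rfl⟩ := (mem_DD_iff n Q c hc w).mp hw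
  by_contra hne
  by_cases h : polar (⇑Q) u v = 0
  · have hmem : rR n Q c hc hv ∈ {y | y ∈ DD n Q c ∧ y ≠ rR n Q c hc hu ∧
        Commute (rR n Q c hc hu) y} := ⟨rR_mem_DD n Q c hc hv, hne, rR_comm n Q c hc hu hv h⟩
    rw [hs] at hmem
    exact hmem.2.1 rfl
  · have hne' : refl Q u (ne0 n Q c hc hu) ≠ refl Q v (ne0 n Q c hc hv) := by
      intro e
      apply hne
      exact (Subtype.ext e).symm
    obtain ⟨w₀, hw₀, huw, hvw⟩ := exists_W Q hQ hc hu hv h _ _ hne'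
    have hw₀u : polar (⇑Q) w₀ u = 0 := by rw [QuadraticMap.polar_comm]; exact huw
    have hvu : polar (⇑Q) v u ≠ 0 := by rw [QuadraticMap.polar_comm]; exact h
    have hmem : rR n Q c hc hw₀ ∈ {y | y ∈ DD n Q c ∧ y ≠ rR n Q c hc hu ∧
        Commute (rR n Q c hc hu) y} :=
      ⟨rR_mem_DD n Q c hc hw₀,
        rR_ne_of_witness n Q c hc hw₀ hu hw₀u (polar_self_ne' n Q c hc hu),
        rR_comm n Q c hc hu hw₀ huw⟩
    rw [hs] at hmem
    rcases commute_cases n Q c hc hv hw₀ hmem.2.2 with h3 | h3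
    · exact hvw h3
    · exact rR_ne_of_witness n Q c hc hw₀ hv hw₀u hvu h3.symm

include hc in
theorem exists_two (hn : 5 ≤ n) (hQ : (QuadraticMap.polarBilin Q).Nondegenerate) :
    ∃ a ∈ DD n Q c, ∃ b ∈ DD n Q c, a ≠ b := by
  obtain ⟨u, -, hu⟩ := exists_orth_norm Q hQ 0 (fun i => Fin.elim0 i)
    (fun i => Fin.elim0 i) (fun i => Fin.elim0 i) (by rw [Fintype.card_fin]; omega) c hc
  have hso1 : ∀ i j : Fin 1, i ≠ j → polar (⇑Q) (![u] i) (![u] j) = 0 := by
    intro i j hij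
    exact absurd (Subsingleton.elim i j) hij
  have hsn1 : ∀ i : Fin 1, Q (![u] i) ≠ 0 := by
    intro i
    fin_cases i
    exact ne0 n Q c hc hu
  obtain ⟨w, hwo, hw⟩ := exists_orth_norm Q hQ 1 ![u] hso1 hsn1
    (by rw [Fintype.card_fin]; omega) c hc
  have huw : polar (⇑Q) u w = 0 := hwo 0
  exact ⟨rR n Q c hc hu, rR_mem_DD n Q c hc hu, rR n Q c hc hw, rR_mem_DD n Q c hc hw,
    rR_ne_of_witness n Q c hc hu hw huw (polar_self_ne' n Q c hc hw)⟩


include hc in
theorem pCore_two_le (hn : 5 ≤ n) (hQ : (QuadraticMap.polarBilin Q).Nondegenerate) :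
    pCore 2 ↥(Cfsg.reflectionSubgroup (⇑Q) c) ≤
      Subgroup.center ↥(Cfsg.reflectionSubgroup (⇑Q) c) := by
  have hD : IsThreeTranspositionClass (DD n Q c) := Cfsg.Agent.S5357.result n hn Q hQ c hc
  have hD2 := exists_two n Q c hc hn hQ
  have h := tt_of_class hD
  apply h.le_center
  intro d hd x hx
  have hS := (Cfsg.Agent.S5349.result hD hD2 hd).2
  have hmem : x * d * x⁻¹ ∈ {v : ↥(Cfsg.reflectionSubgroup (⇑Q) c) |
      ∃ g ∈ pCore 2 ↥(Cfsg.reflectionSubgroup (⇑Q) c), v = g * d * g⁻¹} := ⟨x, hx, rfl⟩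
  rw [← hS] at hmem
  have hxd := v_trivial n Q c hc hn hQ hd hmem.1 hmem.2
  calc d * x = (x * d * x⁻¹) * x := by rw [hxd]
    _ = x * d := by group

include hc in
theorem pCore_three_le (hn : 5 ≤ n) (hQ : (QuadraticMap.polarBilin Q).Nondegenerate) :
    pCore 3 ↥(Cfsg.reflectionSubgroup (⇑Q) c) ≤
      Subgroup.center ↥(Cfsg.reflectionSubgroup (⇑Q) c) := by
  have hD : IsThreeTranspositionClass (DD n Q c) := Cfsg.Agent.S5357.result n hn Q hQ c hc
  have hD2 := exists_two n Q c hc hn hQ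
  have h := tt_of_class hD
  apply h.le_center
  intro d hd x hx
  have hS := (Cfsg.Agent.S5350.result hD hD2 hd).2
  have hmem : x * d * x⁻¹ ∈ {w : ↥(Cfsg.reflectionSubgroup (⇑Q) c) |
      ∃ g ∈ pCore 3 ↥(Cfsg.reflectionSubgroup (⇑Q) c), w = g * d * g⁻¹} := ⟨x, hx, rfl⟩
  rw [← hS] at hmem
  have hxd := w_trivial n Q c hc hQ hd hmem.1 hmem.2
  calc d * x = (x * d * x⁻¹) * x := by rw [hxd]
    _ = x * d := by group

include hc in
theorem connected (hn : 5 ≤ n) (hQ : (QuadraticMap.polarBilin Q).Nondegenerate) :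
    (commutingGraph (DD n Q c)).Connected := by
  obtain ⟨u₀, -, hu₀⟩ := exists_orth_norm Q hQ 0 (fun i => Fin.elim0 i)
    (fun i => Fin.elim0 i) (fun i => Fin.elim0 i) (by rw [Fintype.card_fin]; omega) c hc
  have hadj : ∀ {a b : Fin n → ZMod 3} (ha : Q a = c) (hb : Q b = c), polar (⇑Q) a b = 0 →
      rR n Q c hc ha ≠ rR n Q c hc hb →
      (commutingGraph (DD n Q c)).Adj ⟨rR n Q c hc ha, rR_mem_DD n Q c hc ha⟩
        ⟨rR n Q c hc hb, rR_mem_DD n Q c hc hb⟩ := by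
    intro a b ha hb hab hne
    unfold commutingGraph
    rw [SimpleGraph.fromRel_adj]
    exact ⟨fun e => hne (congrArg Subtype.val e), Or.inl (rR_comm n Q c hc ha hb hab)⟩
  rw [SimpleGraph.connected_iff_exists_forall_reachable]
  refine ⟨⟨rR n Q c hc hu₀, rR_mem_DD n Q c hc hu₀⟩, ?_⟩
  rintro ⟨g, hg⟩
  obtain ⟨v, hv, rfl⟩ := (mem_DD_iff n Q c hc g).mp hg
  by_cases h : polar (⇑Q) u₀ v = 0
  · by_cases he : rR n Q c hc hu₀ = rR n Q c hc hv
    · have e : (⟨rR n Q c hc hu₀, rR_mem_DD n Q c hc hu₀⟩ : DD n Q c) =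
          ⟨rR n Q c hc hv, hg⟩ := Subtype.ext he
      rw [e]
    · exact (hadj hu₀ hv h he).reachable
  · obtain ⟨w, hw, huw, hvw⟩ := exists_common Q hn hQ hc hu₀ hv h
    have hwv : polar (⇑Q) w v = 0 := by rw [QuadraticMap.polar_comm]; exact hvw
    have h1 := hadj hu₀ hw huw
      (rR_ne_of_witness n Q c hc hu₀ hw huw (polar_self_ne' n Q c hc hw))
    have h2 := hadj hw hv hwv
      (rR_ne_of_witness n Q c hc hv hw hvw (polar_self_ne' n Q c hc hw)).symm
    exact h1.reachable.trans h2.reachable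

end grp

section final

open Cfsg.Agent.Lib.Helper20 Cfsg.Agent.Lib.Helper25.ThreeTr Cfsg.Agent.Lib.Helper25.ThreeTrPrim

universe u

theorem eq_commutator_of_index {G : Type u} [Group G] [Finite G] (L : Subgroup G)
    [hLn : L.Normal] (hLq : IsQuasisimple L) (hidx : L.index ≤ 2) : L = commutator G := by
  apply le_antisymm
  · have hp' : ⁅L, L⁆ = L := isComponent_perfect ⟨hLn.isSubnormal, hLq⟩
    rw [← hp', commutator_def]
    exact Subgroup.commutator_mono le_top le_top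
  · rw [commutator_def, Subgroup.commutator_le]
    intro g₁ _ g₂ _
    rw [commutatorElement_def]
    by_cases hLtop : L = ⊤
    · rw [hLtop]; trivial
    · have hidx2 : L.index = 2 := by
        have h1 : L.index ≠ 0 := Subgroup.index_ne_zero_of_finite
        have h2' : L.index ≠ 1 := fun h1' => hLtop (Subgroup.index_eq_one.mp h1')
        omega
      rw [Subgroup.mul_mem_iff_of_index_two hidx2, inv_mem_iff]
      constructor
      · intro h1
        have := hLn.conj_mem _ h1 g₁⁻¹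
        have e : g₁⁻¹ * (g₁ * g₂ * g₁⁻¹) * g₁⁻¹⁻¹ = g₂ := by group
        rwa [e] at this
      · intro h1
        exact hLn.conj_mem _ h1 g₁

theorem s5360_main (n : ℕ) (hn : 5 ≤ n) (Q : QuadraticForm (ZMod 3) (Fin n → ZMod 3))
    (hQ : (QuadraticMap.polarBilin Q).Nondegenerate) (c : ZMod 3) (hc : c ≠ 0) :
    IsQuasisimple (commutator ↥(Cfsg.reflectionSubgroup (⇑Q) c)) ∧
      (commutator ↥(Cfsg.reflectionSubgroup (⇑Q) c)).index ≤ 2 ∧
      generalizedFittingSubgroup ↥(Cfsg.reflectionSubgroup (⇑Q) c) =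
        Subgroup.center ↥(Cfsg.reflectionSubgroup (⇑Q) c) ⊔
          commutator ↥(Cfsg.reflectionSubgroup (⇑Q) c) ∧
      IsPrimitiveUnderConj {g : ↥(Cfsg.reflectionSubgroup (⇑Q) c) |
        (g : ↥(Cfsg.isometryGroup (ZMod 3) (⇑Q))) ∈ Cfsg.reflectionsOfNorm (⇑Q) c} := by
  have hD : IsThreeTranspositionClass (DD n Q c) := Cfsg.Agent.S5357.result n hn Q hQ c hc
  have hD2 := exists_two n Q c hc hn hQ
  have h2 := pCore_two_le n Q c hc hn hQ
  have h3 := pCore_three_le n Q c hc hn hQ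
  have hconn := connected n Q c hc hn hQ
  obtain ⟨L, hLn, hLq, hF, -⟩ := s5352_of_zprop (fun X _ _ => zprop X) hD hD2 h2 h3
  haveI := hLn
  have hidx := index_le_of_connected hD hD2 h2 h3 L hLq hF hconn
  have hprim := primitive_of_index hD hD2 h2 h3 L hLq hidx
  have hLeq := eq_commutator_of_index L hLq hidx
  rw [← hLeq]
  refine ⟨hLq, hidx, ?_, hprim⟩
  rw [hF, sup_comm]

end final

end Cfsg.Agent.Lib.Helper25.ReflF3
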