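import Mathlib

/-!
Auxiliary lemmas for fusion systems of supersoluble type: a number-theoretic lemma on units of
`p'`-order modulo `p^k`, stability groups of chains in `p`-groups, and cyclic sections.
-/
set_option autoImplicit false

namespace Cfsg.Agent.Lib.Helper25.SuperSol


section NT

/-- number theory: a unit of `p'`-order mod `p^k` has order dividing `p - 1` -/
theorem nt_lemma (p : ℕ) (hp : p.Prime) (k n : ℕ) (hn : n.Coprime p) (m : ℤ)
    (h : ((p ^ k : ℕ) : ℤ) ∣ m ^ n - 1) : ((p ^ k : ℕ) : ℤ) ∣ m ^ (p - 1) - 1 := by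
  rcases Nat.eq_zero_or_pos k with hk | hk
  · subst hk
    simp
  have hn0 : n ≠ 0 := by
    rintro rfl
    rw [Nat.coprime_zero_left] at hn
    exact hp.one_lt.ne' hn
  have h1 : ((m : ZMod (p ^ k))) ^ n = 1 := by
    have := (ZMod.intCast_zmod_eq_zero_iff_dvd (m ^ n - 1) (p ^ k)).mpr h
    push_cast at this
    exact sub_eq_zero.mp this
  let u : (ZMod (p ^ k))ˣ := Units.ofPowEqOne (m : ZMod (p ^ k)) n h1 hn0
  have hu : (u : ZMod (p ^ k)) = m := rfl
  have hun : u ^ n = 1 := by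
    apply Units.ext
    rw [Units.val_pow_eq_pow_val, hu, h1, Units.val_one]
  have hut : u ^ (p ^ (k - 1) * (p - 1)) = 1 := by
    rw [← Nat.totient_prime_pow hp hk]
    exact ZMod.pow_totient u
  have ho1 : orderOf u ∣ n := orderOf_dvd_of_pow_eq_one hun
  have ho2 : orderOf u ∣ p ^ (k - 1) * (p - 1) := orderOf_dvd_of_pow_eq_one hut
  have hc : (orderOf u).Coprime (p ^ (k - 1)) :=
    Nat.Coprime.pow_right _ (Nat.Coprime.coprime_dvd_left ho1 hn)
  have ho3 : orderOf u ∣ p - 1 := hc.dvd_of_dvd_mul_left ho2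
  have hup : u ^ (p - 1) = 1 := orderOf_dvd_iff_pow_eq_one.mp ho3
  have h2 : ((m : ZMod (p ^ k))) ^ (p - 1) = 1 := by
    rw [← hu, ← Units.val_pow_eq_pow_val, hup, Units.val_one]
  apply (ZMod.intCast_zmod_eq_zero_iff_dvd (m ^ (p - 1) - 1) (p ^ k)).mp
  push_cast
  rw [h2, sub_self]

end NT



section Chain

variable {G : Type*} [Group G]

/-- a `p'`-automorphism acting trivially on all factors of a chain of a `p`-group is trivial -/
theorem stab_trivial [Finite G] {p : ℕ} [Fact p.Prime] (hG : IsPGroup p G)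
    {m : ℕ} (d : Fin (m + 1) → Subgroup G) (h0 : d 0 = ⊥) (hlast : d (Fin.last m) = ⊤)
    (α : MulAut G) (hα : ∀ i : Fin m, ∀ x ∈ d i.succ, x⁻¹ * α x ∈ d i.castSucc)
    (hcop : (orderOf α).Coprime p) : α = 1 := by
  have claim : ∀ i : Fin (m + 1), ∀ x ∈ d i, α x = x := by
    intro i
    induction i using Fin.induction with
    | zero =>
      intro x hx
      rw [h0, Subgroup.mem_bot] at hx
      rw [hx, map_one]
    | succ i ih =>
      intro x hx
      have hy := hα i x hx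
      set y := x⁻¹ * α x with hydef
      have hαx : α x = x * y := by rw [hydef, mul_inv_cancel_left]
      have hαy : α y = y := ih y hy
      have hpow : ∀ k : ℕ, (α ^ k) x = x * y ^ k := by
        intro k
        induction k with
        | zero => simp
        | succ k ihk =>
          rw [pow_succ', MulAut.mul_apply, ihk, map_mul, map_pow, hαx, hαy, pow_succ', mul_assoc]
      have h1 := hpow (orderOf α)
      rw [pow_orderOf_eq_one, MulAut.one_apply] at h1
      have h2 : y ^ orderOf α = 1 := by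
        have : x * 1 = x * y ^ orderOf α := by rw [mul_one]; exact h1
        exact (mul_left_cancel this).symm
      obtain ⟨k, hk⟩ := hG y
      have h3 : orderOf y ∣ orderOf α := orderOf_dvd_of_pow_eq_one h2
      have h4 : orderOf y ∣ p ^ k := orderOf_dvd_of_pow_eq_one hk
      have h5 : orderOf y ∣ 1 := by
        have := Nat.dvd_gcd h3 h4
        rwa [Nat.Coprime.gcd_eq_one (Nat.Coprime.pow_right k hcop)] at this
      have h6 : y = 1 := orderOf_eq_one_iff.mp (Nat.dvd_one.mp h5)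
      rw [hαx, h6, mul_one]
  ext x
  rw [MulAut.one_apply]
  exact claim (Fin.last m) x (by rw [hlast]; trivial)

/-- the stabilizing condition -/
def Stab {m : ℕ} (d : Fin (m + 1) → Subgroup G) (α : MulAut G) : Prop :=
  (∀ i, ∀ x ∈ d i, α x ∈ d i) ∧ ∀ i : Fin m, ∀ x ∈ d i.succ, x⁻¹ * α x ∈ d i.castSucc

theorem Stab.mul {m : ℕ} {d : Fin (m + 1) → Subgroup G} {α β : MulAut G} (hα : Stab d α)
    (hβ : Stab d β) : Stab d (α * β) := by
  refine ⟨fun i x hx => hα.1 i _ (hβ.1 i x hx), fun i x hx => ?_⟩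
  have hy := hβ.2 i x hx
  have h1 : x⁻¹ * (α * β) x = (x⁻¹ * α x) * α (x⁻¹ * β x) := by
    rw [MulAut.mul_apply, map_mul, map_inv]
    group
  rw [h1]
  exact (d i.castSucc).mul_mem (hα.2 i x hx) (hα.1 _ _ hy)

theorem Stab.one {m : ℕ} (d : Fin (m + 1) → Subgroup G) : Stab d 1 := by
  refine ⟨fun i x hx => hx, fun i x hx => ?_⟩
  rw [MulAut.one_apply, inv_mul_cancel]
  exact (d i.castSucc).one_mem

/-- the stability group of a chain -/
def stabGroup {m : ℕ} (d : Fin (m + 1) → Subgroup G) : Subgroup (MulAut G) where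
  carrier := {α | Stab d α ∧ Stab d α⁻¹}
  one_mem' := ⟨Stab.one d, by rw [inv_one]; exact Stab.one d⟩
  mul_mem' := by
    rintro α β ⟨h1, h2⟩ ⟨h3, h4⟩
    refine ⟨h1.mul h3, ?_⟩
    rw [mul_inv_rev]
    exact h4.mul h2
  inv_mem' := by
    rintro α ⟨h1, h2⟩
    exact ⟨h2, by rw [inv_inv]; exact h1⟩

theorem stabGroup_isPGroup [Finite G] {p : ℕ} [hp : Fact p.Prime] (hG : IsPGroup p G)
    {m : ℕ} (d : Fin (m + 1) → Subgroup G) (h0 : d 0 = ⊥) (hlast : d (Fin.last m) = ⊤) :
    IsPGroup p (stabGroup d) := by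
  intro α
  have hpos : orderOf α.1 ≠ 0 := (orderOf_pos α.1).ne'
  obtain ⟨a, n', hn', hn⟩ := Nat.exists_eq_pow_mul_and_not_dvd hpos p hp.out.ne_one
  refine ⟨a, ?_⟩
  have hβ : α.1 ^ (p ^ a) ∈ stabGroup d := (stabGroup d).pow_mem α.2 _
  have h1 : (α.1 ^ (p ^ a)) ^ n' = 1 := by
    rw [← pow_mul, ← hn, pow_orderOf_eq_one]
  have h2 : orderOf (α.1 ^ (p ^ a)) ∣ n' := orderOf_dvd_of_pow_eq_one h1
  have h3 : (orderOf (α.1 ^ (p ^ a))).Coprime p :=
    Nat.Coprime.coprime_dvd_left h2 ((Nat.Prime.coprime_iff_not_dvd hp.out).mpr hn').symm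
  have h4 := stab_trivial hG d h0 hlast (α.1 ^ (p ^ a)) hβ.1.2 h3
  apply Subtype.ext
  rw [Subgroup.coe_pow, h4]
  rfl

end Chain



section Cyclic

variable {G : Type*} [Group G]

/-- restriction of an automorphism preserving `E` -/
def restr (E : Subgroup G) (α : MulAut G) (hα : ∀ x ∈ E, α x ∈ E) : E →* E :=
  (α.toMonoidHom.comp E.subtype).codRestrict E (fun x => hα x x.2)

theorem comm_mod (D E : Subgroup G) [hN : (D.subgroupOf E).Normal]
    [hc : IsCyclic (E ⧸ D.subgroupOf E)] (α β : MulAut G)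
    (hαD : ∀ x ∈ D, α x ∈ D) (hαE : ∀ x ∈ E, α x ∈ E)
    (hβD : ∀ x ∈ D, β x ∈ D) (hβE : ∀ x ∈ E, β x ∈ E) :
    ∀ z ∈ E, (β (α z))⁻¹ * α (β z) ∈ D := by
  intro z hz
  have hα' : D.subgroupOf E ≤ (D.subgroupOf E).comap (restr E α hαE) := fun x hx => hαD x hx
  have hβ' : D.subgroupOf E ≤ (D.subgroupOf E).comap (restr E β hβE) := fun x hx => hβD x hx
  obtain ⟨m₁, h₁⟩ := MonoidHom.map_cyclic
    (QuotientGroup.map (D.subgroupOf E) (D.subgroupOf E) (restr E α hαE) hα')
  obtain ⟨m₂, h₂⟩ := MonoidHom.map_cyclic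
    (QuotientGroup.map (D.subgroupOf E) (D.subgroupOf E) (restr E β hβE) hβ')
  have key : (QuotientGroup.map (D.subgroupOf E) (D.subgroupOf E) (restr E α hαE) hα')
      ((QuotientGroup.map (D.subgroupOf E) (D.subgroupOf E) (restr E β hβE) hβ')
        (QuotientGroup.mk ⟨z, hz⟩)) =
      (QuotientGroup.map (D.subgroupOf E) (D.subgroupOf E) (restr E β hβE) hβ')
      ((QuotientGroup.map (D.subgroupOf E) (D.subgroupOf E) (restr E α hαE) hα')
        (QuotientGroup.mk ⟨z, hz⟩)) := by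
    rw [h₁, h₂, h₂, h₁, ← zpow_mul, ← zpow_mul, mul_comm]
  rw [QuotientGroup.map_mk, QuotientGroup.map_mk, QuotientGroup.map_mk, QuotientGroup.map_mk] at key
  have h3 := QuotientGroup.eq.mp key.symm
  exact h3

theorem isCyclic_quot (K L : Subgroup G) (x : G) (hle : L ≤ K ⊔ Subgroup.zpowers x) (hxL : x ∈ L)
    (hKL : K ≤ L) [hN : (K.subgroupOf L).Normal] : IsCyclic (L ⧸ K.subgroupOf L) := by
  refine ⟨⟨(QuotientGroup.mk (⟨x, hxL⟩ : L) : L ⧸ K.subgroupOf L), fun q => ?_⟩⟩
  induction q using QuotientGroup.induction_on with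
  | H l =>
    have h1 : K ≤ ((Subgroup.zpowers (QuotientGroup.mk (⟨x, hxL⟩ : L) : L ⧸ K.subgroupOf L)).comap
        (QuotientGroup.mk' (K.subgroupOf L))).map L.subtype := by
      intro k hk
      refine ⟨(⟨k, hKL hk⟩ : L), ?_, rfl⟩
      show QuotientGroup.mk' _ (⟨k, hKL hk⟩ : L) ∈ Subgroup.zpowers _
      have : (QuotientGroup.mk' (K.subgroupOf L)) (⟨k, hKL hk⟩ : L) = 1 := by
        rw [QuotientGroup.mk'_apply, QuotientGroup.eq_one_iff]
        exact hk
      rw [this]
      exact Subgroup.one_mem _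
    have h2 : x ∈ ((Subgroup.zpowers (QuotientGroup.mk (⟨x, hxL⟩ : L) : L ⧸ K.subgroupOf L)).comap
        (QuotientGroup.mk' (K.subgroupOf L))).map L.subtype :=
      ⟨(⟨x, hxL⟩ : L), Subgroup.mem_zpowers _, rfl⟩
    have h3 := sup_le h1 ((Subgroup.zpowers_le).mpr h2)
    obtain ⟨l', hl', hll⟩ := h3 (hle l.2)
    have : l' = l := Subtype.ext hll
    rw [← this]
    exact hl'

theorem isCyclic_of_embed {G₁ G₂ : Type*} [Group G₁] [Group G₂] (f : G₁ →* G₂)
    (D₁ E₁ : Subgroup G₁) (D₂ E₂ : Subgroup G₂) [(D₁.subgroupOf E₁).Normal]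
    [(D₂.subgroupOf E₂).Normal]
    (hE : ∀ x ∈ E₁, f x ∈ E₂) (hD : ∀ x ∈ E₁, (f x ∈ D₂ ↔ x ∈ D₁))
    [IsCyclic (E₂ ⧸ D₂.subgroupOf E₂)] : IsCyclic (E₁ ⧸ D₁.subgroupOf E₁) := by
  have h : D₁.subgroupOf E₁ ≤ (D₂.subgroupOf E₂).comap
      ((f.comp E₁.subtype).codRestrict E₂ (fun x => hE x x.2)) := fun x hx => (hD x x.2).mpr hx
  apply isCyclic_of_injective (QuotientGroup.map _ _ _ h)
  rw [injective_iff_map_eq_one]
  intro q hq
  induction q using QuotientGroup.induction_on with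
  | H a =>
    rw [QuotientGroup.map_mk, QuotientGroup.eq_one_iff] at hq
    rw [QuotientGroup.eq_one_iff]
    exact (hD a a.2).mp hq

theorem pow_pred_stab [Finite G] {p : ℕ} [hp : Fact p.Prime] (hG : IsPGroup p G)
    (D E : Subgroup G) [hN : (D.subgroupOf E).Normal] [hc : IsCyclic (E ⧸ D.subgroupOf E)]
    (α : MulAut G) (hαD : ∀ x ∈ D, α x ∈ D) (hαE : ∀ x ∈ E, α x ∈ E)
    (hcop : (orderOf α).Coprime p) : ∀ x ∈ E, x⁻¹ * (α ^ (p - 1)) x ∈ D := by
  intro x hx
  have hα' : D.subgroupOf E ≤ (D.subgroupOf E).comap (restr E α hαE) := fun y hy => hαD y hy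
  obtain ⟨m₁, h₁⟩ := MonoidHom.map_cyclic
    (QuotientGroup.map (D.subgroupOf E) (D.subgroupOf E) (restr E α hαE) hα')
  have hit : ∀ (j : ℕ) (z : E), (((restr E α hαE)^[j] z : E) : G) = (α ^ j) (z : G) := by
    intro j
    induction j with
    | zero => intro z; simp
    | succ j ih =>
      intro z
      rw [Function.iterate_succ_apply', pow_succ', MulAut.mul_apply, ← ih]
      rfl
  have hmk : ∀ (j : ℕ) (z : E), (QuotientGroup.mk ((restr E α hαE)^[j] z) : E ⧸ D.subgroupOf E) =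
      (QuotientGroup.mk z) ^ (m₁ ^ j) := by
    intro j
    induction j with
    | zero => intro z; simp
    | succ j ih =>
      intro z
      rw [Function.iterate_succ_apply']
      have h0 : (QuotientGroup.mk ((restr E α hαE) ((restr E α hαE)^[j] z)) : E ⧸ D.subgroupOf E) =
          (QuotientGroup.map (D.subgroupOf E) (D.subgroupOf E) (restr E α hαE) hα')
            (QuotientGroup.mk ((restr E α hαE)^[j] z)) := rfl
      rw [h0, h₁, ih, ← zpow_mul, pow_succ]
  obtain ⟨g₀, hg₀⟩ := hc.exists_generator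
  have hZp : IsPGroup p (E ⧸ D.subgroupOf E) := (hG.to_subgroup E).to_quotient _
  obtain ⟨k, hk⟩ := IsPGroup.iff_card.mp hZp
  have hord : orderOf g₀ = p ^ k := by rw [orderOf_eq_card_of_forall_mem_zpowers hg₀, hk]
  have h2 : ∀ g : E ⧸ D.subgroupOf E, g ^ (m₁ ^ orderOf α) = g := by
    intro g
    induction g using QuotientGroup.induction_on with
    | H z =>
      rw [← hmk (orderOf α) z]
      congr 1
      apply Subtype.ext
      rw [hit, pow_orderOf_eq_one, MulAut.one_apply]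
  have h3 : ((p ^ k : ℕ) : ℤ) ∣ m₁ ^ orderOf α - 1 := by
    rw [← hord]
    apply orderOf_dvd_iff_zpow_eq_one.mpr
    rw [zpow_sub, zpow_one, h2 g₀, mul_inv_cancel]
  have h4 := nt_lemma p hp.out k (orderOf α) hcop m₁ h3
  have h5 : ∀ g : E ⧸ D.subgroupOf E, g ^ (m₁ ^ (p - 1)) = g := by
    intro g
    obtain ⟨t, rfl⟩ := Subgroup.mem_zpowers_iff.mp (hg₀ g)
    have h50 : g₀ ^ (m₁ ^ (p - 1) - 1) = 1 :=
      orderOf_dvd_iff_zpow_eq_one.mp (by rw [hord]; exact h4)
    rw [zpow_sub, zpow_one, mul_inv_eq_one] at h50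
    rw [← zpow_mul, mul_comm, zpow_mul, h50]
  have h6 := hmk (p - 1) ⟨x, hx⟩
  rw [h5] at h6
  have h7 := QuotientGroup.eq.mp h6.symm
  rw [Subgroup.mem_subgroupOf, Subgroup.coe_mul, Subgroup.coe_inv, hit] at h7
  exact h7

end Cyclic


universe u

theorem lin_eigen {V : Type*} [AddCommGroup V] (p : ℕ) [hp : Fact p.Prime] [Module (ZMod p) V]
    [Finite V] [Nontrivial V] (f : Module.End (ZMod p) V) (hf : f ^ (p - 1) = 1) :
    ∃ v : V, v ≠ 0 ∧ ∃ μ : ZMod p, f v = μ • v := by
  have hp1 : p - 1 + 1 = p := Nat.sub_add_cancel hp.out.one_le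
  have hfp : f ^ p = f := by
    have : f ^ (p - 1 + 1) = f := by rw [pow_succ, hf, one_mul]
    rw [← this]
    congr 1
    exact hp1.symm
  haveI : Module.Finite (ZMod p) V := Module.Finite.of_finite
  have hdvd : minpoly (ZMod p) f ∣ (Polynomial.X ^ p - Polynomial.X : Polynomial (ZMod p)) := by
    apply minpoly.dvd
    rw [map_sub, map_pow, Polynomial.aeval_X, hfp, sub_self]
  have hsplit : (Polynomial.X ^ p - Polynomial.X : Polynomial (ZMod p)).Splits := by
    have h := FiniteField.splits_X_pow_card_sub_X (p := p) (K := ZMod p)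
    rw [Algebra.algebraMap_self, Polynomial.map_id, ZMod.card] at h
    exact h
  have hne : (Polynomial.X ^ p - Polynomial.X : Polynomial (ZMod p)) ≠ 0 :=
    FiniteField.X_pow_card_sub_X_ne_zero (ZMod p) hp.out.one_lt
  have hms := hsplit.of_dvd hne hdvd
  have hint : IsIntegral (ZMod p) f := Algebra.IsIntegral.isIntegral f
  have hdeg : (minpoly (ZMod p) f).degree ≠ 0 := (minpoly.degree_pos hint).ne'
  obtain ⟨μ, hμ⟩ := hms.exists_eval_eq_zero hdeg
  have hev : f.HasEigenvalue μ := Module.End.hasEigenvalue_of_isRoot hμ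
  obtain ⟨v, hv⟩ := hev.exists_hasEigenvector
  exact ⟨v, hv.2, μ, hv.apply_eq_smul⟩

theorem add_eigen {V : Type*} [AddCommGroup V] (p : ℕ) [hp : Fact p.Prime] [Module (ZMod p) V]
    [Finite V] [Nontrivial V] (a : V →+ V) (ha : ∀ v, a^[p - 1] v = v) :
    ∃ v : V, v ≠ 0 ∧ ∃ c : ℕ, a v = c • v := by
  haveI : NeZero p := ⟨hp.out.ne_zero⟩
  have hfa : ∀ (k : ℕ) (x : V), ((a.toZModLinearMap p) ^ k) x = a^[k] x := by
    intro k
    induction k with
    | zero => intro x; simp
    | succ k ih =>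
      intro x
      rw [pow_succ', Module.End.mul_apply, ih, Function.iterate_succ_apply']
      rfl
  have hf : (a.toZModLinearMap p) ^ (p - 1) = 1 := by
    apply LinearMap.ext
    intro x
    rw [hfa, ha]
    rfl
  obtain ⟨v, hv, μ, hμ⟩ := lin_eigen p (a.toZModLinearMap p) hf
  refine ⟨v, hv, μ.val, ?_⟩
  have h2 : μ • v = μ.val • v := by
    rw [← Nat.cast_smul_eq_nsmul (ZMod p), ZMod.natCast_zmod_val]
  rw [← h2, ← hμ]
  rfl

theorem exists_eigen {W : Type*} [Group W] [Finite W] (p : ℕ) [hp : Fact p.Prime]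
    (hcomm : ∀ a b : W, a * b = b * a)
    (hW : ∀ w : W, w ^ p = 1) (hnt : ∃ w : W, w ≠ 1) (a : W →* W) (ha : ∀ w, a^[p - 1] w = w) :
    ∃ w : W, w ≠ 1 ∧ ∃ c : ℕ, a w = w ^ c := by
  letI : CommGroup W := { (inferInstance : Group W) with mul_comm := hcomm }
  letI : Module (ZMod p) (Additive W) := AddCommGroup.zmodModule (n := p) (fun x => by
    show Additive.ofMul ((Additive.toMul x) ^ p) = 0
    rw [hW]; rfl)
  haveI : Nontrivial (Additive W) := by
    obtain ⟨w, hw⟩ := hnt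
    exact ⟨⟨Additive.ofMul w, 0, hw⟩⟩
  obtain ⟨v, hv, c, hc⟩ := add_eigen p (MonoidHom.toAdditive a) (fun v => ha v)
  exact ⟨Additive.toMul v, hv, c, hc⟩

section Common

variable {G : Type*} [Group G]

/-- `Ω₁(Z(G))` -/
def omegaZ (G : Type*) [Group G] (p : ℕ) : Subgroup G where
  carrier := {z | z ∈ Subgroup.center G ∧ z ^ p = 1}
  one_mem' := ⟨Subgroup.one_mem _, one_pow p⟩
  mul_mem' := by
    rintro a b ⟨ha, hap⟩ ⟨hb, hbp⟩
    refine ⟨Subgroup.mul_mem _ ha hb, ?_⟩
    have hc : Commute a b := (Subgroup.mem_center_iff.mp ha b).symm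
    rw [hc.mul_pow, hap, hbp, one_mul]
  inv_mem' := by
    rintro a ⟨ha, hap⟩
    exact ⟨Subgroup.inv_mem _ ha, by rw [inv_pow, hap, inv_one]⟩

theorem mem_omegaZ {p : ℕ} {z : G} : z ∈ omegaZ G p ↔ z ∈ Subgroup.center G ∧ z ^ p = 1 := Iff.rfl

/-- the eigen-subgroup -/
def eigSub (W : Subgroup G) (hW : W ≤ Subgroup.center G) (a : G →* G) (c : ℕ) : Subgroup G where
  carrier := {w | w ∈ W ∧ a w = w ^ c}
  one_mem' := ⟨W.one_mem, by rw [map_one, one_pow]⟩
  mul_mem' := by
    rintro x y ⟨hx, hxa⟩ ⟨hy, hya⟩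
    refine ⟨W.mul_mem hx hy, ?_⟩
    have hc : Commute x y := (Subgroup.mem_center_iff.mp (hW hx) y).symm
    rw [map_mul, hxa, hya, hc.mul_pow]
  inv_mem' := by
    rintro x ⟨hx, hxa⟩
    exact ⟨W.inv_mem hx, by rw [map_inv, hxa, inv_pow]⟩

theorem iterate_surj {p : ℕ} (hp : 1 < p) (a : G →* G) (ha : ∀ x, a^[p - 1] x = x) :
    Function.Surjective a := by
  intro x
  refine ⟨a^[p - 2] x, ?_⟩
  have h : p - 1 = (p - 2) + 1 := by omega
  have := ha x
  rw [h, Function.iterate_succ_apply'] at this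
  exact this

theorem exists_common_eigen [Finite G] (p : ℕ) [hp : Fact p.Prime]
    (hG : IsPGroup p G) [hnt : Nontrivial G] (T : Set (G →* G))
    (hTc : ∀ a ∈ T, ∀ b ∈ T, ∀ x, a (b x) = b (a x))
    (hTp : ∀ a ∈ T, ∀ x, a^[p - 1] x = x) :
    ∃ v : G, v ≠ 1 ∧ v ∈ Subgroup.center G ∧ v ^ p = 1 ∧ ∀ a ∈ T, ∃ c : ℕ, a v = v ^ c := by
  classical
  -- `V = Ω₁(Z(G))` is nontrivial
  have hVne : omegaZ G p ≠ ⊥ := by
    haveI := hG.center_nontrivial
    have hZp : IsPGroup p (Subgroup.center G) := hG.to_subgroup _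
    obtain ⟨n, hn⟩ := IsPGroup.iff_card.1 hZp
    have hn0 : n ≠ 0 := by
      rintro rfl
      rw [pow_zero] at hn
      have := (Nat.card_eq_one_iff_unique.1 hn).1
      exact not_subsingleton (Subgroup.center G) this
    have hdvd : p ∣ Nat.card (Subgroup.center G) := by rw [hn]; exact dvd_pow_self p hn0
    obtain ⟨z, hz⟩ := exists_prime_orderOf_dvd_card' p hdvd
    intro hbot
    have hzV : (z : G) ∈ omegaZ G p := by
      refine ⟨z.2, ?_⟩
      have : z ^ p = 1 := by rw [← hz]; exact pow_orderOf_eq_one z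
      exact congrArg Subtype.val this
    rw [hbot, Subgroup.mem_bot] at hzV
    have hz1 : z = 1 := Subtype.ext hzV
    rw [hz1, orderOf_one] at hz
    exact hp.out.one_lt.ne hz
  have hVT : ∀ a ∈ T, ∀ x ∈ omegaZ G p, a x ∈ omegaZ G p := by
    rintro a ha x ⟨hxc, hxp⟩
    refine ⟨?_, by rw [← map_pow, hxp, map_one]⟩
    rw [Subgroup.mem_center_iff]
    intro g
    obtain ⟨g', rfl⟩ := iterate_surj hp.out.one_lt a (hTp a ha) g
    rw [← map_mul, ← map_mul, Subgroup.mem_center_iff.mp hxc g']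
  -- a minimal invariant subgroup
  let 𝒮 : Set (Subgroup G) := {W | W ≠ ⊥ ∧ W ≤ omegaZ G p ∧ ∀ a ∈ T, ∀ x ∈ W, a x ∈ W}
  have h𝒮 : 𝒮.Nonempty := ⟨omegaZ G p, hVne, le_rfl, hVT⟩
  obtain ⟨W, ⟨hW1, hW2, hW3⟩, hWmin⟩ := wellFounded_lt.has_min 𝒮 h𝒮
  have hWc : W ≤ Subgroup.center G := fun x hx => (hW2 hx).1
  have hall : ∀ a ∈ T, ∃ c : ℕ, ∀ w ∈ W, a w = w ^ c := by
    intro a ha
    -- the restriction of `a` to `W`
    let aW : W →* W := (a.comp W.subtype).codRestrict W (fun x => hW3 a ha x x.2)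
    have hit : ∀ (k : ℕ) (w : W), ((aW^[k] w : W) : G) = a^[k] (w : G) := by
      intro k
      induction k with
      | zero => intro w; rfl
      | succ k ih =>
        intro w
        rw [Function.iterate_succ_apply', Function.iterate_succ_apply', ← ih]
        rfl
    have hWfin : Finite W := inferInstance
    have hcommW : ∀ x y : W, x * y = y * x := by
      intro x y
      apply Subtype.ext
      exact (Subgroup.mem_center_iff.mp (hWc x.2) y).symm
    have hpowW : ∀ w : W, w ^ p = 1 := by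
      intro w
      apply Subtype.ext
      exact (hW2 w.2).2
    have hntW : ∃ w : W, w ≠ 1 := by
      exact (Subgroup.ne_bot_iff_exists_ne_one).mp hW1
    obtain ⟨w, hw1, c, hwc⟩ := exists_eigen p hcommW hpowW hntW aW
      (fun w => Subtype.ext (by rw [hit, hTp a ha]))
    refine ⟨c, ?_⟩
    have hE : eigSub W hWc a c ∈ 𝒮 := by
      refine ⟨?_, fun x hx => hW2 hx.1, ?_⟩
      · intro hbot
        have : (w : G) ∈ eigSub W hWc a c := ⟨w.2, congrArg Subtype.val hwc⟩
        rw [hbot, Subgroup.mem_bot] at this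
        exact hw1 (Subtype.ext this)
      · rintro b hb x ⟨hx, hxa⟩
        refine ⟨hW3 b hb x hx, ?_⟩
        rw [hTc a ha b hb, hxa, map_pow]
    have hle : eigSub W hWc a c ≤ W := fun x hx => hx.1
    have heq : eigSub W hWc a c = W := by
      by_contra hne
      exact hWmin _ hE (lt_of_le_of_ne hle hne)
    intro x hx
    rw [← heq] at hx
    exact hx.2
  obtain ⟨v, hv1⟩ := (Subgroup.ne_bot_iff_exists_ne_one).mp hW1
  refine ⟨v, ?_, hWc v.2, (hW2 v.2).2, fun a ha => ?_⟩
  · intro h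
    exact hv1 (Subtype.ext h)
  · obtain ⟨c, hc⟩ := hall a ha
    exact ⟨c, hc v v.2⟩

end Common

section ChainH

/-- invariant normal subgroups -/
def Good {G : Type*} [Group G] (T : Set (G →* G)) (D : Subgroup G) : Prop :=
  D.Normal ∧ ∀ a ∈ T, ∀ x ∈ D, a x ∈ D

/-- the step relation -/
def RelH {G : Type*} [Group G] (T : Set (G →* G)) (A B : Subgroup G) : Prop :=
  A ≤ B ∧ Good T B ∧ ∃ x : G, B = A ⊔ Subgroup.zpowers x

theorem comap_step {G : Type*} [Group G] (N : Subgroup G) [N.Normal] (A : Subgroup (G ⧸ N)) (x : G) :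
    (A ⊔ Subgroup.zpowers (QuotientGroup.mk' N x)).comap (QuotientGroup.mk' N) =
      A.comap (QuotientGroup.mk' N) ⊔ Subgroup.zpowers x := by
  have h0 := Subgroup.comap_sup_eq (QuotientGroup.mk' N) A (Subgroup.zpowers (QuotientGroup.mk' N x)) (QuotientGroup.mk'_surjective N)
  rw [← h0]
  have h1 : (Subgroup.zpowers (QuotientGroup.mk' N x)).comap (QuotientGroup.mk' N) = Subgroup.zpowers x ⊔ N := by
    rw [← MonoidHom.map_zpowers, Subgroup.comap_map_eq, QuotientGroup.ker_mk']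
  rw [h1]
  have h : N ≤ A.comap (QuotientGroup.mk' N) := by
    intro n hn
    rw [Subgroup.mem_comap]
    have : QuotientGroup.mk' N n = 1 := by
      rw [QuotientGroup.mk'_apply, QuotientGroup.eq_one_iff]; exact hn
    rw [this]
    exact A.one_mem
  rw [sup_comm (Subgroup.zpowers x) N, ← sup_assoc, sup_eq_left.mpr h]

theorem quot_iterate {G : Type*} [Group G] (N : Subgroup G) [N.Normal] (a : G →* G)
    (h : N ≤ N.comap a) (k : ℕ) (x : G) :
    (QuotientGroup.map N N a h)^[k] (QuotientGroup.mk x) = QuotientGroup.mk (a^[k] x) := by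
  induction k with
  | zero => rfl
  | succ k ih =>
    rw [Function.iterate_succ_apply', Function.iterate_succ_apply', ih]
    rfl

theorem rtg_chain (p : ℕ) [hp : Fact p.Prime] : ∀ (n : ℕ) (G : Type u) [Group G] [Finite G],
    IsPGroup p G → Nat.card G = n → ∀ T : Set (G →* G),
    (∀ a ∈ T, ∀ b ∈ T, ∀ x, a (b x) = b (a x)) → (∀ a ∈ T, ∀ x, a^[p - 1] x = x) →
    Relation.ReflTransGen (RelH T) ⊥ ⊤ := by
  intro n
  induction n using Nat.strong_induction_on with
  | _ n ih =>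
    intro G _ _ hG hn T hTc hTp
    rcases subsingleton_or_nontrivial G with hsub | hnt
    · have : (⊤ : Subgroup G) = ⊥ := Subgroup.eq_bot_of_subsingleton ⊤
      rw [this]
    · obtain ⟨v, hv1, hvc, hvp, hvT⟩ := exists_common_eigen p hG T hTc hTp
      have hNc : Subgroup.zpowers v ≤ Subgroup.center G := by
        rw [Subgroup.zpowers_le]; exact hvc
      haveI hNn : (Subgroup.zpowers v).Normal := by
        constructor
        intro x hx g
        rw [Subgroup.mem_center_iff.mp (hNc hx) g, mul_inv_cancel_right]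
        exact hx
      have hNT : ∀ a ∈ T, ∀ x ∈ Subgroup.zpowers v, a x ∈ Subgroup.zpowers v := by
        intro a ha x hx
        obtain ⟨k, rfl⟩ := Subgroup.mem_zpowers_iff.mp hx
        obtain ⟨c, hc⟩ := hvT a ha
        rw [map_zpow, hc]
        exact Subgroup.zpow_mem _ (Subgroup.pow_mem _ (Subgroup.mem_zpowers v) c) k
      have hNT' : ∀ a ∈ T, Subgroup.zpowers v ≤ (Subgroup.zpowers v).comap a :=
        fun a ha x hx => hNT a ha x hx
      have hstep0 : RelH T ⊥ (Subgroup.zpowers v) :=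
        ⟨bot_le, ⟨hNn, hNT⟩, v, by rw [bot_sup_eq]⟩
      -- the quotient
      let Tq : Set ((G ⧸ Subgroup.zpowers v) →* (G ⧸ Subgroup.zpowers v)) :=
        {b | ∃ a, ∃ ha : a ∈ T, b = QuotientGroup.map _ _ a (hNT' a ha)}
      have hcard : Nat.card (G ⧸ Subgroup.zpowers v) < n := by
        have h1 := Subgroup.card_eq_card_quotient_mul_card_subgroup (Subgroup.zpowers v)
        have h2 : 1 < Nat.card (Subgroup.zpowers v) := by
          rw [Subgroup.one_lt_card_iff_ne_bot]
          intro hbot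
          have := Subgroup.mem_zpowers v
          rw [hbot, Subgroup.mem_bot] at this
          exact hv1 this
        have h3 : 0 < Nat.card (G ⧸ Subgroup.zpowers v) := Nat.card_pos
        rw [← hn, h1]
        nlinarith
      have hTqc : ∀ a ∈ Tq, ∀ b ∈ Tq, ∀ x, a (b x) = b (a x) := by
        rintro _ ⟨a, ha, rfl⟩ _ ⟨b, hb, rfl⟩ x
        induction x using QuotientGroup.induction_on with
        | H x =>
          show (QuotientGroup.mk (a (b x)) : G ⧸ Subgroup.zpowers v) = QuotientGroup.mk (b (a x))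
          rw [hTc a ha b hb]
      have hTqp : ∀ a ∈ Tq, ∀ x, a^[p - 1] x = x := by
        rintro _ ⟨a, ha, rfl⟩ x
        induction x using QuotientGroup.induction_on with
        | H x =>
          rw [quot_iterate, hTp a ha]
      have hrec := ih _ hcard (G ⧸ Subgroup.zpowers v) (hG.to_quotient _) rfl Tq hTqc hTqp
      have hlift := Relation.ReflTransGen.lift
        (fun D : Subgroup (G ⧸ Subgroup.zpowers v) =>
          D.comap (QuotientGroup.mk' (Subgroup.zpowers v))) (p := RelH T) ?_ _ _ hrec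
      · have e1 : (⊥ : Subgroup (G ⧸ Subgroup.zpowers v)).comap
            (QuotientGroup.mk' (Subgroup.zpowers v)) = Subgroup.zpowers v := by
          rw [MonoidHom.comap_bot, QuotientGroup.ker_mk']
        have e2 : (⊤ : Subgroup (G ⧸ Subgroup.zpowers v)).comap
            (QuotientGroup.mk' (Subgroup.zpowers v)) = ⊤ := Subgroup.comap_top _
        simp only [Function.onFun, e1, e2] at hlift
        exact Relation.ReflTransGen.head hstep0 hlift
      · rintro A B ⟨hAB, ⟨hBn, hBT⟩, xq, hx⟩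
        refine ⟨Subgroup.comap_mono hAB, ⟨hBn.comap _, ?_⟩, ?_⟩
        · intro a ha x hx'
          rw [Subgroup.mem_comap] at hx' ⊢
          exact hBT _ ⟨a, ha, rfl⟩ _ hx'
        · obtain ⟨x, rfl⟩ := QuotientGroup.mk'_surjective (Subgroup.zpowers v) xq
          exact ⟨x, by rw [hx]; exact comap_step _ A x⟩

theorem chain_of_rtg {α : Type*} (R : α → α → Prop) {a b : α} (h : Relation.ReflTransGen R a b) :
    ∃ (m : ℕ) (c : ℕ → α), c 0 = a ∧ c m = b ∧ ∀ i < m, R (c i) (c (i + 1)) := by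
  induction h with
  | refl => exact ⟨0, fun _ => a, rfl, rfl, fun i hi => absurd hi (Nat.not_lt_zero i)⟩
  | @tail b' c' _ hbc ih =>
    obtain ⟨m, c, h0, hm, hs⟩ := ih
    refine ⟨m + 1, fun i => if i ≤ m then c i else c', ?_, ?_, ?_⟩
    · simp [h0]
    · simp
    · intro i hi
      by_cases him : i < m
      · have h1 : i ≤ m := by omega
        have h2 : i + 1 ≤ m := by omega
        simp only [if_pos h1, if_pos h2]
        exact hs i him
      · have h1 : i = m := by omega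
        subst h1
        simp only [le_refl, if_true]
        have h2 : ¬ (i + 1 ≤ i) := by omega
        simp only [if_neg h2]
        rw [hm]
        exact hbc

/-- the chain of invariant normal subgroups with cyclic steps -/
theorem exists_good_chain {G : Type u} [Group G] [Finite G] (p : ℕ) [hp : Fact p.Prime]
    (hG : IsPGroup p G) (T : Set (G →* G))
    (hTc : ∀ a ∈ T, ∀ b ∈ T, ∀ x, a (b x) = b (a x)) (hTp : ∀ a ∈ T, ∀ x, a^[p - 1] x = x) :
    ∃ (m : ℕ) (d : Fin (m + 1) → Subgroup G), d 0 = ⊥ ∧ d (Fin.last m) = ⊤ ∧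
      (∀ i, Good T (d i)) ∧ ∀ i : Fin m, d i.castSucc ≤ d i.succ ∧
        ∃ x : G, d i.succ = d i.castSucc ⊔ Subgroup.zpowers x := by
  have h := rtg_chain p (Nat.card G) G hG rfl T hTc hTp
  obtain ⟨m, c, h0, hm, hs⟩ := chain_of_rtg (RelH T) h
  refine ⟨m, fun i => c i.val, ?_, ?_, ?_, ?_⟩
  · simpa using h0
  · simpa using hm
  · intro i
    rcases Nat.eq_zero_or_pos i.val with hi | hi
    · show Good T (c i.val)
      rw [hi, h0]
      refine ⟨Subgroup.normal_bot, fun a _ x hx => ?_⟩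
      rw [Subgroup.mem_bot] at hx ⊢
      rw [hx, map_one]
    · obtain ⟨k, hk⟩ : ∃ k, i.val = k + 1 := ⟨i.val - 1, by omega⟩
      show Good T (c i.val)
      rw [hk]
      exact (hs k (by omega)).2.1
  · intro i
    have := hs i.val i.isLt
    exact ⟨this.1, this.2.2⟩

end ChainH


end Cfsg.Agent.Lib.Helper25.SuperSol
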