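import Cfsg.Agent.Lib.Helper20.Bender
import Cfsg.Agent.Lib.Helper20.DerivedLimit
import Cfsg.Agent.Lib.Helper20.PLocal
import Cfsg.Agent.Lib.Helper16.Subnormal
import Cfsg.Agent.Lib.Helper18.Dihedral

/-!
Tools for S5351 (helper25): elements of small order in p-groups, groups generated by commuting
involutions, and the action of an element on the layer.
-/

set_option autoImplicit false
open Cfsg
open scoped Pointwise commutatorElement

namespace Cfsg.Agent.Lib.Helper25.ThreeTr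

open Cfsg.Agent.Lib.Helper18 Cfsg.Agent.Lib.Helper20

universe u

/-- an element of a `p`-group killed by a number prime to `p` is trivial -/
theorem eq_one_of_pow_of_isPGroup {G : Type u} [Group G] {p : ℕ} [Fact p.Prime] {P : Subgroup G}
    (hP : IsPGroup p P) {r : G} (hr : r ∈ P) {m : ℕ} (hm : r ^ m = 1) (hcop : Nat.Coprime m p) :
    r = 1 := by
  obtain ⟨k, hk⟩ := hP ⟨r, hr⟩
  have hk' : r ^ p ^ k = 1 := by
    have := congrArg Subtype.val hk
    simpa using this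
  have h1 : orderOf r ∣ m := orderOf_dvd_of_pow_eq_one hm
  have h2 : orderOf r ∣ p ^ k := orderOf_dvd_of_pow_eq_one hk'
  have h3 : orderOf r = 1 := Nat.eq_one_of_dvd_coprimes (Nat.Coprime.pow_right k hcop) h1 h2
  exact orderOf_eq_one_iff.mp h3

/-- a group generated by pairwise commuting involutions is a 2-group -/
theorem isPGroup_two_closure {G : Type u} [Group G] (T : Set G)
    (hcomm : ∀ s ∈ T, ∀ t ∈ T, s * t = t * s) (hsq : ∀ s ∈ T, s * s = 1) :
    IsPGroup 2 (Subgroup.closure T) := by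
  have h1 : Subgroup.closure T ≤ Subgroup.centralizer T := by
    rw [Subgroup.closure_le]
    intro s hs
    rw [SetLike.mem_coe, Subgroup.mem_centralizer_iff]
    intro t ht
    exact hcomm t ht s hs
  have h2 : Subgroup.closure T ≤ Subgroup.centralizer (Subgroup.closure T : Set G) := by
    rw [Subgroup.closure_le]
    intro s hs
    rw [SetLike.mem_coe, Subgroup.mem_centralizer_iff]
    intro g hg
    have := h1 hg
    rw [Subgroup.mem_centralizer_iff] at this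
    exact (this s hs).symm
  have h3 : ∀ g ∈ Subgroup.closure T, g * g = 1 := by
    intro g hg
    induction hg using Subgroup.closure_induction with
    | mem x hx => exact hsq x hx
    | one => simp
    | mul x y hx hy ihx ihy =>
      have hxy : y * x = x * y := by
        have := h2 hx
        rw [Subgroup.mem_centralizer_iff] at this
        exact this y hy
      calc x * y * (x * y) = x * (y * x) * y := by group
        _ = x * (x * y) * y := by rw [hxy]
        _ = (x * x) * (y * y) := by group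
        _ = 1 := by rw [ihx, ihy, one_mul]
    | inv x hx ihx =>
      have : x⁻¹ = x := inv_eq_of_mul_eq_one_left ihx
      rw [this, ihx]
  intro g
  refine ⟨1, ?_⟩
  apply Subtype.ext
  rw [pow_one, pow_two]
  exact h3 g.1 g.2

/-- if the commutators `[x, d]`, `x` in the layer, generate a `p`-group, then `d` centralizes the
layer -/
theorem layer_centralized {G : Type u} [Group G] [Finite G] (d : G) (p : ℕ) [Fact p.Prime]
    (hQ : IsPGroup p (Subgroup.closure {y : G | ∃ x ∈ layer G, y = x * d * x⁻¹ * d⁻¹})) :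
    ∀ x ∈ layer G, x * d = d * x := by
  obtain ⟨E, hE⟩ : ∃ E : Subgroup G, E = layer G := ⟨_, rfl⟩
  have hEn : E.Normal := by rw [hE]; infer_instance
  rw [← hE] at hQ ⊢
  obtain ⟨Q, hQdef⟩ : ∃ Q : Subgroup G,
    Q = Subgroup.closure {y : G | ∃ x ∈ E, y = x * d * x⁻¹ * d⁻¹} := ⟨_, rfl⟩
  rw [← hQdef] at hQ
  have hcE : ∀ x ∈ E, x * d * x⁻¹ * d⁻¹ ∈ E := by
    intro x hx
    have h1 : d * x⁻¹ * d⁻¹ ∈ E := hEn.conj_mem _ (E.inv_mem hx) d
    have h2 : x * d * x⁻¹ * d⁻¹ = x * (d * x⁻¹ * d⁻¹) := by group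
    rw [h2]; exact E.mul_mem hx h1
  have hcQ : ∀ x ∈ E, x * d * x⁻¹ * d⁻¹ ∈ Q := by
    intro x hx
    rw [hQdef]; exact Subgroup.subset_closure ⟨x, hx, rfl⟩
  have hQE : Q ≤ E := by
    rw [hQdef, Subgroup.closure_le]
    rintro y ⟨x, hx, rfl⟩
    exact hcE x hx
  -- Q is normalized by E
  have hnorm : ∀ y ∈ E, ∀ q ∈ Q, y * q * y⁻¹ ∈ Q := by
    intro y hy q hq
    rw [hQdef] at hq
    induction hq using Subgroup.closure_induction with
    | mem q hq =>
      obtain ⟨x, hx, rfl⟩ := hq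
      have e1 : y * (x * d * x⁻¹ * d⁻¹) * y⁻¹ =
          ((y * x) * d * (y * x)⁻¹ * d⁻¹) * (y * d * y⁻¹ * d⁻¹)⁻¹ := by group
      rw [e1]
      exact Q.mul_mem (hcQ _ (E.mul_mem hy hx)) (Q.inv_mem (hcQ y hy))
    | one => simp [Q.one_mem]
    | mul a b _ _ iha ihb =>
      have e1 : y * (a * b) * y⁻¹ = (y * a * y⁻¹) * (y * b * y⁻¹) := by group
      rw [e1]; exact Q.mul_mem iha ihb
    | inv a _ iha =>
      have e1 : y * a⁻¹ * y⁻¹ = (y * a * y⁻¹)⁻¹ := by group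
      rw [e1]; exact Q.inv_mem iha
  have hQn : (Q.subgroupOf E).Normal := by
    rw [Subgroup.normal_subgroupOf_iff_le_normalizer hQE]
    intro y hy
    rw [Subgroup.mem_normalizer_iff]
    intro q
    constructor
    · exact hnorm y hy q
    · intro hq
      have := hnorm y⁻¹ (E.inv_mem hy) _ hq
      have e1 : y⁻¹ * (y * q * y⁻¹) * y⁻¹⁻¹ = q := by group
      rwa [e1] at this
  have hQsub : Q.IsSubnormal :=
    Subgroup.IsSubnormal.trans hQE hQn.isSubnormal hEn.isSubnormal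
  have hQF : Q ≤ fittingSubgroup G :=
    (Cfsg.Agent.Lib.Helper16.le_pCore_of_isSubnormal_of_isPGroup p hQsub hQ).trans
      (pCore_le_fitting' p)
  -- E centralizes Q
  have hEQ : ∀ y ∈ E, ∀ q ∈ Q, y * q = q * y := by
    intro y hy q hq
    have h1 : y ∈ Subgroup.centralizer (fittingSubgroup G : Set G) := by
      have := layer_le_centralizer_fitting (G := G)
      rw [← hE] at this
      exact this hy
    rw [Subgroup.mem_centralizer_iff] at h1
    exact (h1 q (hQF hq)).symm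
  -- anti-multiplicativity of c
  have hmul : ∀ x ∈ E, ∀ y ∈ E,
      (x * y) * d * (x * y)⁻¹ * d⁻¹ = (y * d * y⁻¹ * d⁻¹) * (x * d * x⁻¹ * d⁻¹) := by
    intro x hx y hy
    have h1 := hEQ x hx _ (hcQ y hy)
    calc (x * y) * d * (x * y)⁻¹ * d⁻¹
        = (x * (y * d * y⁻¹ * d⁻¹)) * x⁻¹ * (x * d * x⁻¹ * d⁻¹) := by group
      _ = ((y * d * y⁻¹ * d⁻¹) * x) * x⁻¹ * (x * d * x⁻¹ * d⁻¹) := by rw [h1]
      _ = _ := by group
  -- c of a commutator is trivial
  have hcomm : ∀ x ∈ E, ∀ y ∈ E, ⁅x, y⁆ ∈ Subgroup.centralizer ({d} : Set G) := by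
    intro x hx y hy
    rw [Subgroup.mem_centralizer_singleton_iff]
    have hxi := E.inv_mem hx
    have hyi := E.inv_mem hy
    have e0 : ⁅x, y⁆ = ((x * y) * x⁻¹) * y⁻¹ := by rw [commutatorElement_def]
    have e1 := hmul (x * y * x⁻¹) (E.mul_mem (E.mul_mem hx hy) hxi) y⁻¹ hyi
    have e2 := hmul (x * y) (E.mul_mem hx hy) x⁻¹ hxi
    have e3 := hmul x hx y hy
    have e4 := hmul x hx x⁻¹ hxi
    have e5 := hmul y hy y⁻¹ hyi
    -- c(x⁻¹) = c(x)⁻¹
    have e6 : x⁻¹ * d * x⁻¹⁻¹ * d⁻¹ = (x * d * x⁻¹ * d⁻¹)⁻¹ := by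
      have : (x * x⁻¹) * d * (x * x⁻¹)⁻¹ * d⁻¹ = 1 := by group
      rw [this] at e4
      exact eq_inv_of_mul_eq_one_left e4.symm
    have e7 : y⁻¹ * d * y⁻¹⁻¹ * d⁻¹ = (y * d * y⁻¹ * d⁻¹)⁻¹ := by
      have : (y * y⁻¹) * d * (y * y⁻¹)⁻¹ * d⁻¹ = 1 := by group
      rw [this] at e5
      exact eq_inv_of_mul_eq_one_left e5.symm
    have hc : (x * d * x⁻¹ * d⁻¹) * (y * d * y⁻¹ * d⁻¹) =
        (y * d * y⁻¹ * d⁻¹) * (x * d * x⁻¹ * d⁻¹) :=
      hEQ _ (hcE x hx) _ (hcQ y hy)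
    have e8 : (x * y * x⁻¹ * y⁻¹) * d * (x * y * x⁻¹ * y⁻¹)⁻¹ * d⁻¹ = 1 := by
      rw [e1, e2, e3, e6, e7]
      calc (y * d * y⁻¹ * d⁻¹)⁻¹ * ((x * d * x⁻¹ * d⁻¹)⁻¹ *
            ((y * d * y⁻¹ * d⁻¹) * (x * d * x⁻¹ * d⁻¹)))
          = (y * d * y⁻¹ * d⁻¹)⁻¹ * ((x * d * x⁻¹ * d⁻¹)⁻¹ *
            ((x * d * x⁻¹ * d⁻¹) * (y * d * y⁻¹ * d⁻¹))) := by rw [hc]
        _ = 1 := by group
    rw [e0]
    have e9 : (x * y * x⁻¹ * y⁻¹) * d = ((x * y * x⁻¹ * y⁻¹) * d * (x * y * x⁻¹ * y⁻¹)⁻¹ * d⁻¹) *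
        (d * (x * y * x⁻¹ * y⁻¹)) := by group
    rw [e9, e8, one_mul]
  have hle : ⁅E, E⁆ ≤ Subgroup.centralizer ({d} : Set G) := Subgroup.commutator_le.mpr hcomm
  have hperf : ⁅E, E⁆ = E := by rw [hE]; exact layer_perfect
  rw [hperf] at hle
  intro x hx
  exact Subgroup.mem_centralizer_singleton_iff.mp (hle hx)

end Cfsg.Agent.Lib.Helper25.ThreeTr
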