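import Cfsg.Agent.Lib.Helper25.ThreeTrA
import Cfsg.Agent.Lib.Helper25.HallThree
import Cfsg.Prelude.Def_SporadicB

/-!
S5351 from the Z*-property (helper25).
-/

set_option autoImplicit false
open Cfsg
open scoped Pointwise commutatorElement

namespace Cfsg.Agent.Lib.Helper25.ThreeTr

open Cfsg.Agent.Lib.Helper18 Cfsg.Agent.Lib.Helper20 Cfsg.Agent.Lib.Helper25.ZStar

universe u

/-- the facts used about a generating class of 3-transpositions -/
structure TT {G : Type u} [Group G] (D : Set G) : Prop where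
  ord : ∀ d ∈ D, orderOf d = 2
  prod : ∀ d ∈ D, ∀ e ∈ D, (d * e) ^ 2 = 1 ∨ (d * e) ^ 3 = 1
  conj : ∀ g : G, ∀ d ∈ D, g * d * g⁻¹ ∈ D
  trans : ∀ d ∈ D, ∀ e ∈ D, ∃ g : G, g * d * g⁻¹ = e
  gen : Subgroup.closure D = ⊤

theorem tt_of_class {G : Type u} [Group G] {D : Set G} (hD : IsThreeTranspositionClass D) :
    TT D := by
  obtain ⟨⟨hord, hprod⟩, ⟨d₀, hd₀, hconj⟩, hgen⟩ := hD
  have hmem : ∀ a : G, a ∈ D ↔ ∃ c : G, c * d₀ * c⁻¹ = a := by
    intro a
    rw [hconj]
    show IsConj d₀ a ↔ _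
    exact isConj_iff
  refine ⟨hord, hprod, ?_, ?_, hgen⟩
  · intro g d hd
    obtain ⟨c, rfl⟩ := (hmem d).mp hd
    exact (hmem _).mpr ⟨g * c, by group⟩
  · intro d hd e he
    obtain ⟨c, rfl⟩ := (hmem d).mp hd
    obtain ⟨c', rfl⟩ := (hmem e).mp he
    exact ⟨c' * c⁻¹, by group⟩

variable {G : Type u} [Group G] {D : Set G}

theorem TT.sq (h : TT D) {d : G} (hd : d ∈ D) : d * d = 1 := mul_self_of_orderOf_two (h.ord d hd)

theorem TT.inv (h : TT D) {d : G} (hd : d ∈ D) : d⁻¹ = d := inv_eq_self_of_mul_self (h.sq hd)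

theorem TT.le_center (h : TT D) (N : Subgroup G) (hN : ∀ d ∈ D, ∀ x ∈ N, d * x = x * d) :
    N ≤ Subgroup.center G := by
  intro x hx
  have h1 : Subgroup.closure D ≤ Subgroup.centralizer ({x} : Set G) := by
    rw [Subgroup.closure_le]
    intro d hd
    rw [SetLike.mem_coe, Subgroup.mem_centralizer_singleton_iff]
    exact hN d hd x hx
  rw [h.gen] at h1
  rw [Subgroup.mem_center_iff]
  intro g
  exact Subgroup.mem_centralizer_singleton_iff.mp (h1 (Subgroup.mem_top g))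

theorem TT.exists_noncomm (h : TT D) (N : Subgroup G) [hNn : N.Normal]
    (hN : ¬ N ≤ Subgroup.center G) {d : G} (hd : d ∈ D) : ∃ x ∈ N, d * x ≠ x * d := by
  by_contra hcon
  push Not at hcon
  apply hN
  apply h.le_center
  intro d' hd' x hx
  obtain ⟨g, rfl⟩ := h.trans d hd d' hd'
  have h1 := hcon (g⁻¹ * x * g) (by
    have := hNn.conj_mem x hx g⁻¹
    simpa using this)
  calc g * d * g⁻¹ * x = g * (d * (g⁻¹ * x * g)) * g⁻¹ := by group
    _ = g * ((g⁻¹ * x * g) * d) * g⁻¹ := by rw [h1]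
    _ = x * (g * d * g⁻¹) := by group

/-- the element `d * (x d x⁻¹)` for `x` in a normal subgroup `N` lies in `N` -/
theorem TT.comm_mem (h : TT D) (N : Subgroup G) [hNn : N.Normal] {d : G} (hd : d ∈ D) {x : G}
    (hx : x ∈ N) : d * (x * d * x⁻¹) ∈ N := by
  have e1 : d * (x * d * x⁻¹) = (d * x * d⁻¹) * x⁻¹ := by
    rw [h.inv hd]; group
  rw [e1]
  exact N.mul_mem (hNn.conj_mem x hx d) (N.inv_mem hx)

theorem comm_of_conj_eq {d x : G} (h : x * d * x⁻¹ = d) : d * x = x * d := by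
  calc d * x = (x * d * x⁻¹) * x := by rw [h]
    _ = x * d := by group

theorem TT.ne_one_of_noncomm (h : TT D) {d : G} (hd : d ∈ D) {x : G} (hx : d * x ≠ x * d) :
    d * (x * d * x⁻¹) ≠ 1 := by
  intro h1
  apply hx
  apply comm_of_conj_eq
  have : x * d * x⁻¹ = d⁻¹ := eq_inv_of_mul_eq_one_right h1
  rw [this, h.inv hd]

/-- involutions whose product squares to one commute -/
theorem comm_of_sq' {d e : G} (hd : d * d = 1) (he : e * e = 1) (h : (d * e) ^ 2 = 1) :
    d * e = e * d := by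
  have dinv : d⁻¹ = d := inv_eq_self_of_mul_self hd
  have einv : e⁻¹ = e := inv_eq_self_of_mul_self he
  have h1 : d * e = (d * e)⁻¹ := by
    rw [pow_two] at h
    exact eq_inv_of_mul_eq_one_left h
  rw [h1, mul_inv_rev, einv, dinv]

/-- `O_p(G)` is central for `p > 3` -/
theorem TT.pCore_central (h : TT D) [Finite G] (p : ℕ) (hp : p.Prime) (hp3 : 3 < p) :
    pCore p G ≤ Subgroup.center G := by
  haveI := Fact.mk hp
  apply h.le_center
  intro d hd x hx
  have hmem := h.comm_mem (pCore p G) hd hx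
  have hP : IsPGroup p (pCore p G) := pCore_isPGroup' p
  have h1 : d * (x * d * x⁻¹) = 1 := by
    rcases h.prod d hd _ (h.conj x d hd) with h2 | h2
    · exact eq_one_of_pow_of_isPGroup hP hmem h2
        ((Nat.coprime_primes Nat.prime_two hp).mpr (by omega))
    · exact eq_one_of_pow_of_isPGroup hP hmem h2
        ((Nat.coprime_primes Nat.prime_three hp).mpr (by omega))
  apply comm_of_conj_eq
  have : x * d * x⁻¹ = d⁻¹ := eq_inv_of_mul_eq_one_right h1
  rw [this, h.inv hd]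

/-- `O_2` and `O_3` cannot both be non-central -/
theorem TT.not_two_three (h : TT D) [Finite G] (h2 : ¬ pCore 2 G ≤ Subgroup.center G)
    (h3 : ¬ pCore 3 G ≤ Subgroup.center G) (hne : D.Nonempty) : False := by
  haveI : Fact (Nat.Prime 2) := ⟨Nat.prime_two⟩
  haveI : Fact (Nat.Prime 3) := ⟨Nat.prime_three⟩
  obtain ⟨d, hd⟩ := hne
  obtain ⟨z, hz, hzd⟩ := h.exists_noncomm (pCore 2 G) h2 hd
  obtain ⟨w, hw, hwd⟩ := h.exists_noncomm (pCore 3 G) h3 hd
  have hP2 : IsPGroup 2 (pCore 2 G) := pCore_isPGroup' 2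
  have hP3 : IsPGroup 3 (pCore 3 G) := pCore_isPGroup' 3
  have ha : z * d * z⁻¹ ∈ D := h.conj z d hd
  have hb : w * d * w⁻¹ ∈ D := h.conj w d hd
  have hu := h.comm_mem (pCore 2 G) hd hz
  have hv := h.comm_mem (pCore 3 G) hd hw
  have hu1 := h.ne_one_of_noncomm hd hzd
  have hv1 := h.ne_one_of_noncomm hd hwd
  -- u has order 2, v has order 3
  have hu2 : (d * (z * d * z⁻¹)) ^ 2 = 1 := by
    rcases h.prod d hd _ ha with h4 | h4
    · exact h4
    · exact (hu1 (eq_one_of_pow_of_isPGroup hP2 hu h4 (by norm_num))).elim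
  have hv3 : (d * (w * d * w⁻¹)) ^ 3 = 1 := by
    rcases h.prod d hd _ hb with h4 | h4
    · exact (hv1 (eq_one_of_pow_of_isPGroup hP3 hv h4 (by norm_num))).elim
    · exact h4
  -- u and v commute
  have hdisj : Disjoint (pCore 2 G) (pCore 3 G) := by
    rw [Subgroup.disjoint_def]
    intro x hx2 hx3
    obtain ⟨k, hk⟩ := hP2 ⟨x, hx2⟩
    have hk' : x ^ 2 ^ k = 1 := by
      have := congrArg Subtype.val hk
      simpa using this
    exact eq_one_of_pow_of_isPGroup hP3 hx3 hk' (Nat.Coprime.pow_left k (by norm_num))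
  have huv : Commute (d * (z * d * z⁻¹)) (d * (w * d * w⁻¹)) :=
    Subgroup.commute_of_normal_of_disjoint _ _ inferInstance inferInstance hdisj _ _ hu hv
  -- a * b = u * v
  have hda : d * (z * d * z⁻¹) = (z * d * z⁻¹) * d :=
    comm_of_sq' (h.sq hd) (h.sq ha) hu2
  have hab : (z * d * z⁻¹) * (w * d * w⁻¹) = (d * (z * d * z⁻¹)) * (d * (w * d * w⁻¹)) := by
    rw [hda]
    calc (z * d * z⁻¹) * (w * d * w⁻¹) = (z * d * z⁻¹) * (d * d) * (w * d * w⁻¹) := by
          rw [h.sq hd, mul_one]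
      _ = _ := by group
  have hvne : (d * (w * d * w⁻¹)) ^ 2 ≠ 1 := by
    intro h5
    apply hv1
    have h6 : d * (w * d * w⁻¹) = (d * (w * d * w⁻¹)) ^ 3 * ((d * (w * d * w⁻¹)) ^ 2)⁻¹ := by group
    rw [h6, hv3, h5]; simp
  rcases h.prod _ ha _ hb with h4 | h4
  · rw [hab, huv.mul_pow, hu2, one_mul] at h4
    exact hvne h4
  · rw [hab, huv.mul_pow, hv3, mul_one] at h4
    apply hu1
    have h6 : d * (z * d * z⁻¹) = (d * (z * d * z⁻¹)) ^ 3 * ((d * (z * d * z⁻¹)) ^ 2)⁻¹ := by group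
    rw [h6, h4, hu2]; simp

/-- if `d` centralizes the layer then the layer is trivial -/
theorem TT.layer_eq_bot (h : TT D) [Finite G] {d : G} (hd : d ∈ D)
    (hc : ∀ x ∈ layer G, x * d = d * x) : layer G = ⊥ := by
  have hle : layer G ≤ Subgroup.center G := by
    apply h.le_center
    intro d' hd' x hx
    obtain ⟨g, rfl⟩ := h.trans d hd d' hd'
    have hx' : g⁻¹ * x * g ∈ layer G := by
      have := (inferInstance : (layer G).Normal).conj_mem x hx g⁻¹
      simpa using this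
    have h1 := hc _ hx'
    calc g * d * g⁻¹ * x = g * (d * (g⁻¹ * x * g)) * g⁻¹ := by group
      _ = g * ((g⁻¹ * x * g) * d) * g⁻¹ := by rw [h1]
      _ = x * (g * d * g⁻¹) := by group
  have h1 : ⁅layer G, layer G⁆ = ⊥ := by
    rw [Subgroup.commutator_eq_bot_iff_le_centralizer]
    intro x hx
    rw [Subgroup.mem_centralizer_iff]
    intro y hy
    exact (Subgroup.mem_center_iff.mp (hle hx) y)
  rw [layer_perfect] at h1
  exact h1

end Cfsg.Agent.Lib.Helper25.ThreeTr
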