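import Cfsg.Agent.Lib.Helper25.ThreeTrB

/-!
S5351 from the Z*-property (helper25): the cases involving the layer, and the assembly.
-/

set_option autoImplicit false
open Cfsg
open scoped Pointwise commutatorElement

namespace Cfsg.Agent.Lib.Helper25.ThreeTr

open Cfsg.Agent.Lib.Helper18 Cfsg.Agent.Lib.Helper20 Cfsg.Agent.Lib.Helper25.ZStar

universe u

variable {G : Type u} [Group G] {D : Set G}

theorem layer_comm_fitting [Finite G] {x f : G} (hx : x ∈ layer G) (hf : f ∈ fittingSubgroup G) :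
    x * f = f * x := by
  have h1 := layer_le_centralizer_fitting (G := G) hx
  rw [Subgroup.mem_centralizer_iff] at h1
  exact (h1 f hf).symm

theorem prod_comm_left {s t : G} (hs : s * s = 1) (hst : s * t = t * s) :
    (s * t) * s = s * (s * t) := by
  calc (s * t) * s = (t * s) * s := by rw [hst]
    _ = t * (s * s) := by group
    _ = (s * s) * t := by rw [hs, mul_one, one_mul]
    _ = s * (s * t) := by group

theorem conj_of_comm {x z : G} (h : x * z = z * x) : x * z * x⁻¹ = z := by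
  rw [h]; group

/-- `O_2` non-central forces a trivial layer -/
theorem TT.not_two_layer (h : TT D) [Finite G] (h2 : ¬ pCore 2 G ≤ Subgroup.center G)
    (hE : layer G ≠ ⊥) (hne : D.Nonempty) : False := by
  haveI : Fact (Nat.Prime 2) := ⟨Nat.prime_two⟩
  obtain ⟨d, hd⟩ := hne
  obtain ⟨z, hz, hzd⟩ := h.exists_noncomm (pCore 2 G) h2 hd
  have hP2 : IsPGroup 2 (pCore 2 G) := pCore_isPGroup' 2
  have ha : z * d * z⁻¹ ∈ D := h.conj z d hd
  have hu := h.comm_mem (pCore 2 G) hd hz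
  have hu1 := h.ne_one_of_noncomm hd hzd
  have hu2 : (d * (z * d * z⁻¹)) ^ 2 = 1 := by
    rcases h.prod d hd _ ha with h4 | h4
    · exact h4
    · exact (hu1 (eq_one_of_pow_of_isPGroup hP2 hu h4 (by norm_num))).elim
  have hzF : z ∈ fittingSubgroup G := pCore_le_fitting' 2 hz
  have huF : d * (z * d * z⁻¹) ∈ fittingSubgroup G := pCore_le_fitting' 2 hu
  have hda : d * (z * d * z⁻¹) = (z * d * z⁻¹) * d := comm_of_sq' (h.sq hd) (h.sq ha) hu2
  obtain ⟨u, hudef⟩ : ∃ u : G, u = d * (z * d * z⁻¹) := ⟨_, rfl⟩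
  rw [← hudef] at hu hu1 hu2 huF
  have hud : u * d = d * u := by
    rw [hudef]; exact prod_comm_left (h.sq hd) hda
  have huu : u * u = 1 := by rw [← pow_two]; exact hu2
  -- key: d commutes with its conjugates under the layer
  have key : ∀ x ∈ layer G, (x * d * x⁻¹) * d = d * (x * d * x⁻¹) := by
    intro x hx
    have he : x * d * x⁻¹ ∈ D := h.conj x d hd
    have hxz : x * z * x⁻¹ = z := conj_of_comm (layer_comm_fitting hx hzF)
    have hxu : x * u * x⁻¹ = u := conj_of_comm (layer_comm_fitting hx huF)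
    have hea : (x * d * x⁻¹) * (z * (x * d * x⁻¹) * z⁻¹) = u := by
      have e1 : (x * d * x⁻¹) * ((x * z * x⁻¹) * (x * d * x⁻¹) * (x * z * x⁻¹)⁻¹) =
          x * (d * (z * d * z⁻¹)) * x⁻¹ := by group
      rw [hxz] at e1
      rw [e1, ← hudef, hxu]
    have ha' : z * (x * d * x⁻¹) * z⁻¹ ∈ D := h.conj z _ he
    have hue : u * (x * d * x⁻¹) = (x * d * x⁻¹) * u := by
      have h5 : ((x * d * x⁻¹) * (z * (x * d * x⁻¹) * z⁻¹)) ^ 2 = 1 := by rw [hea]; exact hu2
      have h6 := comm_of_sq' (h.sq he) (h.sq ha') h5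
      rw [← hea]; exact prod_comm_left (h.sq he) h6
    by_contra hnc
    have hsq : ((x * d * x⁻¹) * d) ^ 2 ≠ 1 := fun h5 => hnc (comm_of_sq' (h.sq he) (h.sq hd) h5)
    have hcube : ((x * d * x⁻¹) * d) ^ 3 = 1 := by
      rcases h.prod _ he d hd with h5 | h5
      · exact (hsq h5).elim
      · exact h5
    have hcomm : Commute ((x * d * x⁻¹) * d) u := by
      show (x * d * x⁻¹) * d * u = u * ((x * d * x⁻¹) * d)
      rw [mul_assoc, ← hud, ← mul_assoc, ← hue, mul_assoc]
    have hprod : (x * d * x⁻¹) * (z * d * z⁻¹) = ((x * d * x⁻¹) * d) * u := by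
      rw [hudef]
      calc (x * d * x⁻¹) * (z * d * z⁻¹) = (x * d * x⁻¹) * (d * d) * (z * d * z⁻¹) := by
            rw [h.sq hd, mul_one]
        _ = _ := by group
    rcases h.prod _ he _ ha with h5 | h5
    · rw [hprod, hcomm.mul_pow, hu2, mul_one] at h5
      exact hsq h5
    · rw [hprod, hcomm.mul_pow, hcube, one_mul] at h5
      apply hu1
      have h6 : u = u ^ 3 * (u ^ 2)⁻¹ := by group
      rw [h6, h5, hu2]; simp
  -- the conjugates of d under the layer commute pairwise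
  have hT : ∀ s ∈ {y : G | ∃ x ∈ layer G, y = x * d * x⁻¹},
      ∀ t ∈ {y : G | ∃ x ∈ layer G, y = x * d * x⁻¹}, s * t = t * s := by
    rintro s ⟨x, hx, rfl⟩ t ⟨y, hy, rfl⟩
    have hxy : x⁻¹ * y ∈ layer G := (layer G).mul_mem ((layer G).inv_mem hx) hy
    have h5 := key _ hxy
    calc x * d * x⁻¹ * (y * d * y⁻¹) = x * (d * ((x⁻¹ * y) * d * (x⁻¹ * y)⁻¹)) * x⁻¹ := by group
      _ = x * (((x⁻¹ * y) * d * (x⁻¹ * y)⁻¹) * d) * x⁻¹ := by rw [h5]
      _ = y * d * y⁻¹ * (x * d * x⁻¹) := by group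
  have hTsq : ∀ s ∈ {y : G | ∃ x ∈ layer G, y = x * d * x⁻¹}, s * s = 1 := by
    rintro s ⟨x, hx, rfl⟩
    exact h.sq (h.conj x d hd)
  have hV := isPGroup_two_closure _ hT hTsq
  have hQV : Subgroup.closure {y : G | ∃ x ∈ layer G, y = x * d * x⁻¹ * d⁻¹} ≤
      Subgroup.closure {y : G | ∃ x ∈ layer G, y = x * d * x⁻¹} := by
    rw [Subgroup.closure_le]
    rintro y ⟨x, hx, rfl⟩
    apply Subgroup.mul_mem
    · exact Subgroup.subset_closure ⟨x, hx, rfl⟩
    · apply Subgroup.inv_mem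
      exact Subgroup.subset_closure ⟨1, Subgroup.one_mem _, by group⟩
  have hQ := hV.to_le hQV
  exact hE (h.layer_eq_bot hd (layer_centralized d 2 hQ))

end Cfsg.Agent.Lib.Helper25.ThreeTr
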