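import Cfsg.Agent.Lib.Helper25.ThreeTrE
import Cfsg.Agent.Lib.Helper25.InvSylowB
import Cfsg.Agent.Lib.Lead.BaerSuzuki
import Cfsg.Agent.S5561
import Cfsg.Prelude.Def_CaseTheorems

/-!
Helper25: 3-transposition classes whose commuting graph is a disjoint union of cliques
(`C_D(d) = V_d`): `G = ⟨d⟩ P O₂(G)` with `P` a `d`-invariant Sylow 3-subgroup (S5356).
-/

set_option autoImplicit false
set_option maxHeartbeats 1000000
open Cfsg

namespace Cfsg.Agent.Lib.Helper25.ThreeTr

universe u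
variable {G : Type u} [Group G] {D : Set G}

theorem isPGroup_zpowers_of_pow {p n : ℕ} (t : G) (ht : t ^ (p ^ n) = 1) :
    IsPGroup p (Subgroup.zpowers t) := by
  rintro ⟨y, hy⟩
  obtain ⟨i, rfl⟩ := Subgroup.mem_zpowers_iff.mp hy
  refine ⟨n, Subtype.ext ?_⟩
  show (t ^ i) ^ (p ^ n) = 1
  rw [← zpow_natCast, ← zpow_mul, mul_comm, zpow_mul, zpow_natCast, ht, one_zpow]

theorem isPGroup_two_dihedral {x y : G} (hx : x * x = 1) (hy : y * y = 1)
    (hxy : (x * y) ^ 4 = 1) : IsPGroup 2 (Subgroup.closure ({x, y} : Set G)) := by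
  haveI : Fact (Nat.Prime 2) := ⟨Nat.prime_two⟩
  have xi : x⁻¹ = x := inv_eq_of_mul_eq_one_left hx
  have yi : y⁻¹ = y := inv_eq_of_mul_eq_one_left hy
  have h1 : IsPGroup 2 (Subgroup.zpowers (x * y)) :=
    isPGroup_zpowers_of_pow (n := 2) _ (by rw [show (2 : ℕ) ^ 2 = 4 from rfl]; exact hxy)
  have h2 : IsPGroup 2 (Subgroup.zpowers x) :=
    isPGroup_zpowers_of_pow (n := 1) _ (by rw [pow_one, pow_two]; exact hx)
  have hconj : x * (x * y) * x⁻¹ = (x * y)⁻¹ := by
    rw [mul_inv_rev, yi, ← mul_assoc x x y, hx, one_mul]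
  have key : ∀ t, t ∈ Subgroup.zpowers (x * y) → x * t * x⁻¹ ∈ Subgroup.zpowers (x * y) := by
    intro t ht
    obtain ⟨i, rfl⟩ := Subgroup.mem_zpowers_iff.mp ht
    rw [← conj_zpow, hconj]
    exact Subgroup.zpow_mem _ (Subgroup.inv_mem _ (Subgroup.mem_zpowers _)) i
  have h3 : Subgroup.zpowers x ≤
      Subgroup.normalizer ((Subgroup.zpowers (x * y) : Subgroup G) : Set G) := by
    rw [Subgroup.zpowers_le, Subgroup.mem_normalizer_iff]
    intro t
    constructor
    · exact key t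
    · intro ht
      have := key _ ht
      have e : x * (x * t * x⁻¹) * x⁻¹ = t := by
        rw [xi]
        calc x * (x * t * x) * x = (x * x) * t * (x * x) := by group
          _ = t := by rw [hx]; group
      rwa [e] at this
  have h4 : IsPGroup 2 (Subgroup.zpowers (x * y) ⊔ Subgroup.zpowers x : Subgroup G) :=
    IsPGroup.to_sup_of_normal_left' h1 h2 h3
  apply h4.to_le
  rw [Subgroup.closure_le]
  intro t ht
  rcases ht with rfl | rfl
  · exact Subgroup.mem_sup_right (Subgroup.mem_zpowers _)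
  · have hmem : x⁻¹ * (x * t) ∈
        (Subgroup.zpowers (x * t) ⊔ Subgroup.zpowers x : Subgroup G) :=
      Subgroup.mul_mem _
        (Subgroup.mem_sup_right (Subgroup.inv_mem _ (Subgroup.mem_zpowers _)))
        (Subgroup.mem_sup_left (Subgroup.mem_zpowers _))
    have e : x⁻¹ * (x * t) = t := by group
    rw [e] at hmem
    exact hmem

theorem sq_prod4 {p q r s : G} (hp : p * p = 1) (hq : q * q = 1) (hr : r * r = 1)
    (hs : s * s = 1) (hpq : Commute p q) (hpr : Commute p r) (hps : Commute p s)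
    (hqr : Commute q r) (hqs : Commute q s) (hrs : Commute r s) :
    (p * q * r * s) ^ 2 = 1 := by
  have h1 : Commute (p * q * r) s := (hps.mul_left hqs).mul_left hrs
  have h2 : Commute (p * q) r := hpr.mul_left hqr
  rw [h1.mul_pow, h2.mul_pow, hpq.mul_pow, pow_two, pow_two, pow_two, pow_two, hp, hq, hr, hs]
  simp

/-- the clique hypothesis transported to all of `D` -/
theorem clique_all (h : TT D) {d : G} (hd : d ∈ D)
    (hV : {y : G | y ∈ D ∧ Commute d y} =
      {v : G | v ∈ D ∧ ∀ e ∈ D, Commute v e ↔ Commute d e}) :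
    ∀ a ∈ D, ∀ b ∈ D, Commute a b → ∀ e ∈ D, (Commute b e ↔ Commute a e) := by
  intro a ha b hb hab e he
  obtain ⟨g, hg⟩ := h.trans d hd a ha
  have hb' : g⁻¹ * b * g ∈ D := by simpa using h.conj g⁻¹ b hb
  have he' : g⁻¹ * e * g ∈ D := by simpa using h.conj g⁻¹ e he
  have ha' : g⁻¹ * a * g⁻¹⁻¹ = d := by rw [← hg]; group
  have hdb' : Commute d (g⁻¹ * b * g) := by
    have := (Commute.conj_iff g⁻¹ (a := a) (b := b)).mpr hab
    rw [ha'] at this
    simpa using this
  have hmem : g⁻¹ * b * g ∈ {y : G | y ∈ D ∧ Commute d y} := ⟨hb', hdb'⟩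
  rw [hV] at hmem
  have h1 := hmem.2 (g⁻¹ * e * g) he'
  have h2 : Commute (g⁻¹ * b * g) (g⁻¹ * e * g) ↔ Commute b e := by
    have := Commute.conj_iff g⁻¹ (a := b) (b := e)
    simpa using this
  have h3 : Commute d (g⁻¹ * e * g) ↔ Commute a e := by
    have := Commute.conj_iff g⁻¹ (a := a) (b := e)
    rw [ha'] at this
    simpa using this
  rw [← h2, h1, h3]

end Cfsg.Agent.Lib.Helper25.ThreeTr
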