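import Cfsg.Agent.Lib.Helper25.ThreeTrClique

/-!
Helper25: main theorem for S5356.
-/

set_option autoImplicit false
set_option maxHeartbeats 1600000
open Cfsg

namespace Cfsg.Agent.Lib.Helper25.ThreeTr

universe u
variable {G : Type u} [Group G] {D : Set G}

theorem s5356_main [Finite G] (h : TT D) (hD2 : ∃ a ∈ D, ∃ b ∈ D, a ≠ b) {d : G} (hd : d ∈ D)
    (hV : {y : G | y ∈ D ∧ Commute d y} =
      {v : G | v ∈ D ∧ ∀ e ∈ D, Commute v e ↔ Commute d e}) :
    ∃ P : Sylow 3 G, d ∈ Subgroup.normalizer ((P : Subgroup G) : Set G) ∧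
      Subgroup.zpowers d ⊔ (P : Subgroup G) ⊔ pCore 2 G = ⊤ := by
  classical
  haveI : Fact (Nat.Prime 2) := ⟨Nat.prime_two⟩
  haveI : Fact (Nat.Prime 3) := ⟨Nat.prime_three⟩
  have hcl := clique_all h hd hV
  have hsq : ∀ a ∈ D, a * a = 1 := fun a ha => h.sq ha
  have hinv : ∀ a ∈ D, a⁻¹ = a := fun a ha => h.inv ha
  have hcases : ∀ a ∈ D, ∀ b ∈ D, Commute a b ∨ (¬ Commute a b ∧ (a * b) ^ 3 = 1) := by
    intro a ha b hb
    by_cases hc : Commute a b
    · exact Or.inl hc
    · refine Or.inr ⟨hc, ?_⟩
      rcases h.prod a ha b hb with h2 | h3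
      · exact absurd (show Commute a b from comm_of_sq' (hsq a ha) (hsq b hb) h2) hc
      · exact h3
  have hkey : ∀ a ∈ D, ∀ a' ∈ D, Commute a a' → ∀ b ∈ D, ¬ Commute a b →
      Commute b ((a * a') * b * (a * a')) := by
    intro a ha a' ha' haa' b hb hnab
    have hna'b : ¬ Commute a' b := fun hc => hnab ((hcl a ha a' ha' haa' b hb).mp hc)
    have e1 : a * b * a = b * a * b :=
      braid_of_cube (hsq a ha) (hsq b hb) ((hcases a ha b hb).resolve_left (fun hc => hnab hc)).2
    have e2 : a' * b * a' = b * a' * b :=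
      braid_of_cube (hsq a' ha') (hsq b hb)
        ((hcases a' ha' b hb).resolve_left (fun hc => hna'b hc)).2
    have hc : a * a' = a' * a := haa'
    show b * ((a * a') * b * (a * a')) = ((a * a') * b * (a * a')) * b
    have hx : (a * a') * b * (a * a') = a * b * a' * b * a := by
      calc (a * a') * b * (a * a') = (a * a') * b * (a' * a) := by rw [hc]
        _ = a * (a' * b * a') * a := by group
        _ = a * (b * a' * b) * a := by rw [e2]
        _ = a * b * a' * b * a := by group
    rw [hx]
    calc b * (a * b * a' * b * a) = (b * a * b) * a' * b * a := by group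
      _ = (a * b * a) * a' * b * a := by rw [e1]
      _ = a * b * (a * a') * b * a := by group
      _ = a * b * (a' * a) * b * a := by rw [hc]
      _ = a * b * a' * (a * b * a) := by group
      _ = a * b * a' * (b * a * b) := by rw [e1]
      _ = (a * b * a' * b * a) * b := by group
  -- the Baer–Suzuki set
  let K : Set G := {w | ∃ a ∈ D, ∃ a' ∈ D, Commute a a' ∧ w = a * a'}
  have hKconj : ∀ g x, x ∈ K → g * x * g⁻¹ ∈ K := by
    rintro g _ ⟨a, ha, a', ha', hc, rfl⟩
    exact ⟨g * a * g⁻¹, h.conj g a ha, g * a' * g⁻¹, h.conj g a' ha',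
      (Commute.conj_iff g).mpr hc, by group⟩
  have hKsq : ∀ x ∈ K, x * x = 1 := by
    rintro _ ⟨a, ha, a', ha', hc, rfl⟩
    have hc' : a * a' = a' * a := hc
    have : a * a' * (a * a') = (a * a) * (a' * a') := by
      calc a * a' * (a * a') = a * (a' * a) * a' := by group
        _ = a * (a * a') * a' := by rw [hc']
        _ = (a * a) * (a' * a') := by group
    rw [this, hsq a ha, hsq a' ha', one_mul]
  have hKpair : ∀ x ∈ K, ∀ y ∈ K, IsPGroup 2 (Subgroup.closure ({x, y} : Set G)) := by
    intro x hx y hy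
    apply isPGroup_two_dihedral (hKsq x hx) (hKsq y hy)
    obtain ⟨a, ha, a', ha', hc, rfl⟩ := hx
    obtain ⟨b, hb, b', hb', hc2, rfl⟩ := hy
    by_cases hab : Commute a b
    · have h1 : Commute a' b := (hcl a ha a' ha' hc b hb).mpr hab
      have h2 : Commute a b' := ((hcl b hb b' hb' hc2 a ha).mpr hab.symm).symm
      have h3 : Commute a' b' := ((hcl b hb b' hb' hc2 a' ha').mpr h1.symm).symm
      have := sq_prod4 (hsq a ha) (hsq a' ha') (hsq b hb) (hsq b' hb') hc hab h2 h1 h3 hc2
      have e : a * a' * (b * b') = a * a' * b * b' := by group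
      rw [e, show 4 = 2 * 2 from rfl, pow_mul, this, one_pow]
    · have hxK : a * a' ∈ K := ⟨a, ha, a', ha', hc, rfl⟩
      have hxx : (a * a') * (a * a') = 1 := hKsq _ hxK
      have hxi : (a * a')⁻¹ = a * a' := inv_eq_of_mul_eq_one_left hxx
      have hab' : ¬ Commute a b' :=
        fun hc' => hab (((hcl b hb b' hb' hc2 a ha).mp hc'.symm).symm)
      have k1 : Commute b ((a * a') * b * (a * a')) := hkey a ha a' ha' hc b hb hab
      have k2 : Commute b' ((a * a') * b' * (a * a')) := hkey a ha a' ha' hc b' hb' hab'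
      have m1 : (a * a') * b * (a * a') ∈ D := by
        have := h.conj (a * a') b hb
        rwa [hxi] at this
      have m2 : (a * a') * b' * (a * a') ∈ D := by
        have := h.conj (a * a') b' hb'
        rwa [hxi] at this
      have c1 : Commute ((a * a') * b * (a * a')) b' := (hcl b hb _ m1 k1 b' hb').mpr hc2
      have c2 : Commute ((a * a') * b' * (a * a')) b := (hcl b' hb' _ m2 k2 b hb).mpr hc2.symm
      have c3 : Commute ((a * a') * b * (a * a')) ((a * a') * b' * (a * a')) := by
        have := (Commute.conj_iff (a * a') (a := b) (b := b')).mpr hc2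
        rwa [hxi] at this
      have hfour := sq_prod4 (hsq _ m1) (hsq _ m2) (hsq b hb) (hsq b' hb') c3 k1.symm c1 c2
        k2.symm hc2
      have e : ((a * a') * (b * b')) ^ 2 =
          ((a * a') * b * (a * a')) * ((a * a') * b' * (a * a')) * b * b' := by
        rw [pow_two]
        calc (a * a') * (b * b') * ((a * a') * (b * b'))
            = (a * a') * b * 1 * b' * (a * a') * b * b' := by group
          _ = (a * a') * b * ((a * a') * (a * a')) * b' * (a * a') * b * b' := by rw [hxx]
          _ = ((a * a') * b * (a * a')) * ((a * a') * b' * (a * a')) * b * b' := by group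
      rw [show 4 = 2 * 2 from rfl, pow_mul, e, hfour]
  obtain ⟨hNn, hNpg⟩ := Cfsg.Agent.Lib.Lead.baer_suzuki_closure (p := 2) K hKconj hKpair
  set N : Subgroup G := Subgroup.closure K with hNdef
  haveI : N.Normal := hNn
  have hNK : ∀ a ∈ D, ∀ b ∈ D, Commute a b → a * b ∈ N := fun a ha b hb hc =>
    Subgroup.subset_closure ⟨a, ha, b, hb, hc, rfl⟩
  have hdd := hsq d hd
  have hdinv := hinv d hd
  -- some element of D does not commute with d
  have hexc : ∃ c ∈ D, ¬ Commute d c := by
    by_contra hcon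
    push Not at hcon
    obtain ⟨a, ha, b, hb, hab⟩ := hD2
    have hdc : ∀ g : G, g * d = d * g := by
      intro g
      have hle : Subgroup.closure D ≤ Subgroup.centralizer ({d} : Set G) := by
        rw [Subgroup.closure_le]
        intro c hc
        rw [SetLike.mem_coe, Subgroup.mem_centralizer_singleton_iff]
        exact (hcon c hc).symm.eq
      have hg : g ∈ Subgroup.centralizer ({d} : Set G) := hle (by rw [h.gen]; trivial)
      exact Subgroup.mem_centralizer_singleton_iff.mp hg
    obtain ⟨g1, hg1⟩ := h.trans d hd a ha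
    obtain ⟨g2, hg2⟩ := h.trans d hd b hb
    apply hab
    rw [← hg1, ← hg2, hdc g1, hdc g2]; group
  have hdN : d ∉ N := by
    intro hdN
    obtain ⟨c, hc, hdc⟩ := hexc
    obtain ⟨g, hg⟩ := h.trans d hd c hc
    have hcN : c ∈ N := by rw [← hg]; exact hNn.conj_mem d hdN g
    have h3 := ((hcases d hd c hc).resolve_left (fun hc' => hdc hc')).2
    have h1 : d * c = 1 := eq_one_of_pow_of_isPGroup hNpg (N.mul_mem hdN hcN) h3 (by decide)
    apply hdc
    have hcd : c = d := by
      have := eq_inv_of_mul_eq_one_right h1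
      rw [this, hdinv]
    rw [hcd]
  -- the quotient
  let π : G →* G ⧸ N := QuotientGroup.mk' N
  have hπ1 : ∀ x, π x = 1 ↔ x ∈ N := fun x => QuotientGroup.eq_one_iff x
  have hdbar : orderOf (π d) = 2 := by
    apply orderOf_eq_prime
    · rw [← map_pow, pow_two, hdd, map_one]
    · intro h1; exact hdN ((hπ1 d).mp h1)
  have hconjD : ∀ aq ∈ conjugatesOf (π d), ∃ a ∈ D, π a = aq := by
    intro aq haq
    obtain ⟨cq, hcq⟩ := isConj_iff.mp (show IsConj (π d) aq from haq)
    obtain ⟨c, rfl⟩ := QuotientGroup.mk'_surjective N cq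
    refine ⟨c * d * c⁻¹, h.conj c d hd, ?_⟩
    rw [map_mul, map_mul, map_inv]
    exact hcq
  have hprod : ∀ aq ∈ conjugatesOf (π d), ∀ bq ∈ conjugatesOf (π d),
      ∃ k : ℕ, orderOf (aq * bq) = 3 ^ k := by
    intro aq haq bq hbq
    obtain ⟨a, ha, rfl⟩ := hconjD aq haq
    obtain ⟨b, hb, rfl⟩ := hconjD bq hbq
    rw [← map_mul]
    rcases hcases a ha b hb with hc | ⟨_, h3⟩
    · refine ⟨0, ?_⟩
      rw [(hπ1 _).mpr (hNK a ha b hb hc), orderOf_one, pow_zero]
    · have h3' : (π (a * b)) ^ 3 = 1 := by rw [← map_pow, h3, map_one]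
      have hdvd : orderOf (π (a * b)) ∣ 3 := orderOf_dvd_of_pow_eq_one h3'
      rcases (Nat.dvd_prime Nat.prime_three).mp hdvd with h1 | h1
      · exact ⟨0, by rw [h1, pow_zero]⟩
      · exact ⟨1, by rw [h1, pow_one]⟩
  have hS := Cfsg.Agent.S5561.result (π d) hdbar hprod
  let R : Subgroup (G ⧸ N) := pCore 3 (G ⧸ N)
  haveI hRn : R.Normal := Cfsg.pCore_normal 3 (G ⧸ N)
  have hRpg : IsPGroup 3 R := Cfsg.Agent.Lib.Helper20.pCore_isPGroup' 3
  let X : Subgroup G := R.comap π
  haveI hXn : X.Normal := Subgroup.Normal.comap hRn π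
  have hNX : N ≤ X := by
    intro n hn
    show π n ∈ R
    rw [(hπ1 n).mpr hn]; exact R.one_mem
  have hX3 : ∀ x ∈ X, ∃ k : ℕ, x ^ (3 ^ k) ∈ N := by
    intro x hx
    obtain ⟨k, hk⟩ := hRpg ⟨π x, hx⟩
    refine ⟨k, (hπ1 _).mp ?_⟩
    rw [map_pow]
    have := congrArg Subtype.val hk
    simpa using this
  have hπD : ∀ a ∈ D, π a ∈ conjugatesOf (π d) := by
    intro a ha
    obtain ⟨g, hg⟩ := h.trans d hd a ha
    show IsConj (π d) (π a)
    exact isConj_iff.mpr ⟨π g, by rw [← hg, map_mul, map_mul, map_inv]⟩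
  have hDD : ∀ a ∈ D, ∀ b ∈ D, a * b ∈ X := by
    intro a ha b hb
    show π (a * b) ∈ R
    rw [map_mul]
    exact hS _ (hπD a ha) _ (hπD b hb)
  have hcov : ∀ g : G, g ∈ X ∨ d * g ∈ X := by
    intro g
    have hg : g ∈ Subgroup.closure D := by rw [h.gen]; trivial
    induction hg using Subgroup.closure_induction with
    | mem a ha => exact Or.inr (hDD d hd a ha)
    | one => exact Or.inl X.one_mem
    | mul g1 g2 _ _ ih1 ih2 =>
      rcases ih1 with h1 | h1 <;> rcases ih2 with h2 | h2
      · exact Or.inl (X.mul_mem h1 h2)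
      · right
        have : d * (g1 * g2) = (d * g1 * d⁻¹) * (d * g2) := by group
        rw [this]; exact X.mul_mem (hXn.conj_mem _ h1 d) h2
      · right
        have : d * (g1 * g2) = (d * g1) * g2 := by group
        rw [this]; exact X.mul_mem h1 h2
      · left
        have : g1 * g2 = (d * (d * g1) * d⁻¹) * (d * g2) := by
          rw [hdinv]
          have : d * (d * g1) * d * (d * g2) = (d * d) * g1 * (d * d) * g2 := by group
          rw [this, hdd]; group
        rw [this]; exact X.mul_mem (hXn.conj_mem _ h1 d) h2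
    | inv g1 _ ih =>
      rcases ih with h1 | h1
      · exact Or.inl (X.inv_mem h1)
      · right
        have : d * g1⁻¹ = d * (d * g1)⁻¹ * d⁻¹ := by
          calc d * g1⁻¹ = d * g1⁻¹ * (d * d)⁻¹ := by rw [hdd]; group
            _ = d * (d * g1)⁻¹ * d⁻¹ := by group
        rw [this]; exact hXn.conj_mem _ (X.inv_mem h1) d
  have hF : ∀ g ∈ X, d * (g * d * g⁻¹) ∈ N → ∃ q ∈ N, g * d * g⁻¹ = q * d * q⁻¹ := by
    intro g _ hgN
    have ha : g * d * g⁻¹ ∈ D := h.conj g d hd
    generalize g * d * g⁻¹ = a at ha hgN ⊢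
    by_cases had : a = d
    · exact ⟨1, N.one_mem, by rw [had]; group⟩
    · have hcomm : Commute d a := by
        rcases hcases d hd a ha with hc | ⟨_, h3⟩
        · exact hc
        · exfalso
          have h1 : d * a = 1 := eq_one_of_pow_of_isPGroup hNpg hgN h3 (by decide)
          apply had
          have := eq_inv_of_mul_eq_one_right h1
          rw [this, hdinv]
      obtain ⟨c, hc, hdc⟩ := hexc
      have hac : ¬ Commute a c := fun hc' => hdc ((hcl d hd a ha hcomm c hc).mp hc')
      have e1 : d * c * d = c * d * c :=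
        braid_of_cube hdd (hsq c hc) ((hcases d hd c hc).resolve_left (fun hc' => hdc hc')).2
      have e2 : a * c * a = c * a * c :=
        braid_of_cube (hsq a ha) (hsq c hc)
          ((hcases a ha c hc).resolve_left (fun hc' => hac hc')).2
      have hda : d * a = a * d := hcomm
      have hcc := hsq c hc
      have haa := hsq a ha
      refine ⟨c * (d * a) * c⁻¹, hNn.conj_mem _ hgN c, ?_⟩
      rw [hinv c hc]
      have hdada : (d * a) * (d * a) = 1 := by
        calc (d * a) * (d * a) = d * (a * d) * a := by group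
          _ = d * (d * a) * a := by rw [← hda]
          _ = (d * d) * (a * a) := by group
          _ = 1 := by rw [hdd, haa, one_mul]
      have hninv : (c * (d * a) * c)⁻¹ = c * (d * a) * c := by
        apply inv_eq_of_mul_eq_one_left
        calc c * (d * a) * c * (c * (d * a) * c)
            = c * (d * a) * (c * c) * (d * a) * c := by group
          _ = c * ((d * a) * (d * a)) * c := by rw [hcc]; group
          _ = 1 := by rw [hdada, mul_one, hcc]
      rw [hninv]
      symm
      have hdad : d * a * d = a := by rw [hda, mul_assoc, hdd, mul_one]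
      calc c * (d * a) * c * d * (c * (d * a) * c)
          = c * d * a * (c * d * c) * d * a * c := by group
        _ = c * d * a * (d * c * d) * d * a * c := by rw [e1]
        _ = c * d * a * d * c * (d * d) * a * c := by group
        _ = c * (d * a * d) * (c * a * c) := by rw [hdd]; group
        _ = c * a * (a * c * a) := by rw [hdad, e2]
        _ = c * (a * a) * c * a := by group
        _ = a := by rw [haa, mul_one, hcc, one_mul]
  obtain ⟨P, hPd, hXP⟩ := Cfsg.Agent.Lib.Helper25.InvSylow.exists_invariant_sylow N X hNpg hNX hX3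
    d hdd hcov (fun g => hDD d hd _ (h.conj g d hd)) hF
  refine ⟨P, ?_, ?_⟩
  · rw [Subgroup.mem_normalizer_iff]
    intro x
    constructor
    · exact hPd x
    · intro hx
      have := hPd _ hx
      have e : d * (d * x * d⁻¹) * d⁻¹ = x := by
        rw [hdinv]
        calc d * (d * x * d) * d = (d * d) * x * (d * d) := by group
          _ = x := by rw [hdd]; group
      rwa [e] at this
  · rw [eq_top_iff, ← h.gen, Subgroup.closure_le]
    intro a ha
    have h1 : d * a ∈ (P : Subgroup G) ⊔ pCore 2 G :=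
      (sup_le_sup_left (Cfsg.Agent.Lib.Helper20.le_pCore' hNn hNpg) _) (hXP (hDD d hd a ha))
    have hmem : d⁻¹ * (d * a) ∈ Subgroup.zpowers d ⊔ (P : Subgroup G) ⊔ pCore 2 G := by
      refine Subgroup.mul_mem _ (Subgroup.inv_mem _ ?_) ?_
      · exact Subgroup.mem_sup_left (Subgroup.mem_sup_left (Subgroup.mem_zpowers d))
      · have hle : (P : Subgroup G) ⊔ pCore 2 G ≤
            Subgroup.zpowers d ⊔ (P : Subgroup G) ⊔ pCore 2 G := by
          rw [sup_assoc]; exact le_sup_right
        exact hle h1
    have e : d⁻¹ * (d * a) = a := by group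
    rw [e] at hmem
    exact hmem

end Cfsg.Agent.Lib.Helper25.ThreeTr
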