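import Cfsg.Agent.Lib.Helper25.ThreeTrC

/-!
S5351 from the Z*-property (helper25): `O_3` non-central forces a trivial layer; assembly.
-/

set_option autoImplicit false
open Cfsg
open scoped Pointwise commutatorElement

namespace Cfsg.Agent.Lib.Helper25.ThreeTr

open Cfsg.Agent.Lib.Helper18 Cfsg.Agent.Lib.Helper20 Cfsg.Agent.Lib.Helper25.ZStar

universe u

variable {G : Type u} [Group G] {D : Set G}

/-- `O_3` non-central forces a trivial layer (uses M. Hall's theorem, hence the Z*-property) -/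
theorem TT.not_three_layer (hZ : ∀ (X : Type u) [Group X] [Finite X], ZProp X) (h : TT D)
    [Finite G] (h3 : ¬ pCore 3 G ≤ Subgroup.center G) (hE : layer G ≠ ⊥) (hne : D.Nonempty) :
    False := by
  haveI : Fact (Nat.Prime 3) := ⟨Nat.prime_three⟩
  obtain ⟨d, hd⟩ := hne
  have hdd := h.sq hd
  have dinv := h.inv hd
  obtain ⟨w, hw, hwd⟩ := h.exists_noncomm (pCore 3 G) h3 hd
  have hP3 : IsPGroup 3 (pCore 3 G) := pCore_isPGroup' 3
  have hb : w * d * w⁻¹ ∈ D := h.conj w d hd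
  have hv := h.comm_mem (pCore 3 G) hd hw
  have hv1 := h.ne_one_of_noncomm hd hwd
  have hv3 : (d * (w * d * w⁻¹)) ^ 3 = 1 := by
    rcases h.prod d hd _ hb with h4 | h4
    · exact (hv1 (eq_one_of_pow_of_isPGroup hP3 hv h4 (by norm_num))).elim
    · exact h4
  have hwF : w ∈ fittingSubgroup G := pCore_le_fitting' 3 hw
  have hvF : d * (w * d * w⁻¹) ∈ fittingSubgroup G := pCore_le_fitting' 3 hv
  obtain ⟨v, hvdef⟩ : ∃ v : G, v = d * (w * d * w⁻¹) := ⟨_, rfl⟩
  rw [← hvdef] at hv hv1 hv3 hvF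
  have hv2 : v ^ 2 ≠ 1 := by
    intro h5
    apply hv1
    have h6 : v = v ^ 3 * (v ^ 2)⁻¹ := by group
    rw [h6, hv3, h5]; simp
  -- an involution e with e * (w e w⁻¹) = v inverts v
  have hinvert : ∀ e ∈ D, e * (w * e * w⁻¹) = v → e * v * e⁻¹ = v⁻¹ := by
    intro e he hev
    have heinv := h.inv he
    have hbinv := h.inv (h.conj w e he)
    rw [← hev, heinv, mul_inv_rev, hbinv, heinv]
    have := h.sq he
    calc e * (e * (w * e * w⁻¹)) * e = (e * e) * (w * e * w⁻¹) * e := by group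
      _ = w * e * w⁻¹ * e := by rw [this, one_mul]
  have hdv := hinvert d hd hvdef.symm
  -- facts on the conjugates of d under the layer
  have key : ∀ x ∈ layer G, (d * (x * d * x⁻¹)) ^ 3 = 1 ∧
      (d * (x * d * x⁻¹) = (x * d * x⁻¹) * d → x * d * x⁻¹ = d) := by
    intro x hx
    have he : x * d * x⁻¹ ∈ D := h.conj x d hd
    have hxw : x * w * x⁻¹ = w := conj_of_comm (layer_comm_fitting hx hwF)
    have hxv : x * v * x⁻¹ = v := conj_of_comm (layer_comm_fitting hx hvF)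
    have hev : (x * d * x⁻¹) * (w * (x * d * x⁻¹) * w⁻¹) = v := by
      have e1 : (x * d * x⁻¹) * ((x * w * x⁻¹) * (x * d * x⁻¹) * (x * w * x⁻¹)⁻¹) =
          x * (d * (w * d * w⁻¹)) * x⁻¹ := by group
      rw [hxw] at e1
      rw [e1, ← hvdef, hxv]
    have hevinv := hinvert _ he hev
    -- d * e commutes with v
    have hcomm : Commute (d * (x * d * x⁻¹)) v := by
      have e1 : (d * (x * d * x⁻¹)) * v * (d * (x * d * x⁻¹))⁻¹ = v := by
        calc (d * (x * d * x⁻¹)) * v * (d * (x * d * x⁻¹))⁻¹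
            = d * ((x * d * x⁻¹) * v * (x * d * x⁻¹)⁻¹) * d⁻¹ := by group
          _ = d * v⁻¹ * d⁻¹ := by rw [hevinv]
          _ = (d * v * d⁻¹)⁻¹ := by group
          _ = v := by rw [hdv, inv_inv]
      show (d * (x * d * x⁻¹)) * v = v * (d * (x * d * x⁻¹))
      calc (d * (x * d * x⁻¹)) * v = ((d * (x * d * x⁻¹)) * v * (d * (x * d * x⁻¹))⁻¹) *
            (d * (x * d * x⁻¹)) := by group
        _ = v * (d * (x * d * x⁻¹)) := by rw [e1]
    -- b * e = (d b)⁻¹ (d e)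
    have hprod : (w * d * w⁻¹) * (x * d * x⁻¹) = v⁻¹ * (d * (x * d * x⁻¹)) := by
      rw [hvdef, mul_inv_rev, h.inv hb, dinv]
      calc (w * d * w⁻¹) * (x * d * x⁻¹) = (w * d * w⁻¹) * (d * d) * (x * d * x⁻¹) := by
            rw [hdd, mul_one]
        _ = _ := by group
    have hcomm' : Commute v⁻¹ (d * (x * d * x⁻¹)) := hcomm.symm.inv_left
    have hsq_one : (d * (x * d * x⁻¹)) ^ 2 = 1 → d * (x * d * x⁻¹) = 1 := by
      intro hsq
      by_contra hne1
      rcases h.prod _ hb _ he with h5 | h5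
      · rw [hprod, hcomm'.mul_pow, hsq, mul_one, inv_pow, inv_eq_one] at h5
        exact hv2 h5
      · rw [hprod, hcomm'.mul_pow, inv_pow, hv3, inv_one, one_mul] at h5
        apply hne1
        have h6 : d * (x * d * x⁻¹) = (d * (x * d * x⁻¹)) ^ 3 * ((d * (x * d * x⁻¹)) ^ 2)⁻¹ := by
          group
        rw [h6, h5, hsq]; simp
    constructor
    · rcases h.prod d hd _ he with h5 | h5
      · rw [hsq_one h5, one_pow]
      · exact h5
    · intro hc
      have hsq : (d * (x * d * x⁻¹)) ^ 2 = 1 := by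
        rw [pow_two]
        calc d * (x * d * x⁻¹) * (d * (x * d * x⁻¹))
            = d * ((x * d * x⁻¹) * d) * (x * d * x⁻¹) := by group
          _ = d * (d * (x * d * x⁻¹)) * (x * d * x⁻¹) := by rw [hc]
          _ = (d * d) * ((x * d * x⁻¹) * (x * d * x⁻¹)) := by group
          _ = 1 := by rw [hdd, h.sq he, one_mul]
      have h5 := hsq_one hsq
      have : x * d * x⁻¹ = d⁻¹ := eq_inv_of_mul_eq_one_right h5
      rw [this, dinv]
  -- the subgroup generated by the conjugates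
  obtain ⟨T, hTdef⟩ : ∃ T : Set G, T = {y : G | ∃ x ∈ layer G, y = x * d * x⁻¹} := ⟨_, rfl⟩
  have hdT : d ∈ T := by rw [hTdef]; exact ⟨1, Subgroup.one_mem _, by group⟩
  have hmemT : ∀ z : G, z ∈ T → ∃ x ∈ layer G, z = x * d * x⁻¹ := by
    intro z hz; rw [hTdef] at hz; exact hz
  have hTmem : ∀ z : G, (∃ x ∈ layer G, z = x * d * x⁻¹) → z ∈ T := by
    intro z hz; rw [hTdef]; exact hz
  have hEn : (layer G).Normal := inferInstance
  have hHle : Subgroup.closure T ≤ layer G ⊔ Subgroup.zpowers d := by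
    rw [Subgroup.closure_le, hTdef]
    rintro y ⟨x, hx, rfl⟩
    have e1 : x * d * x⁻¹ = (x * (d * x⁻¹ * d⁻¹)) * d := by group
    rw [e1]
    exact Subgroup.mul_mem _
      (Subgroup.mem_sup_left ((layer G).mul_mem hx (hEn.conj_mem _ ((layer G).inv_mem hx) d)))
      (Subgroup.mem_sup_right (Subgroup.mem_zpowers d))
  have hW : W1 (((↑) : ↥(Subgroup.closure T) → G) ⁻¹' T) := by
    refine ⟨?_, ?_, Subgroup.closure_closure_coe_preimage, ?_, ?_⟩
    · intro y hy
      have hy' : (y : G) ∈ T := hy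
      obtain ⟨x, hx, hyx⟩ := hmemT _ hy'
      rw [← Subgroup.orderOf_coe, hyx]
      exact h.ord _ (h.conj x d hd)
    · intro g y hy
      have hy' : (y : G) ∈ T := hy
      obtain ⟨x, hx, hyx⟩ := hmemT _ hy'
      have hg : (g : G) ∈ ((layer G ⊔ Subgroup.zpowers d : Subgroup G) : Set G) := hHle g.2
      rw [Subgroup.normal_mul] at hg
      obtain ⟨y', hy'E, z, hz, hgz⟩ := Set.mem_mul.mp hg
      have hzd : z * d * z⁻¹ = d := by
        obtain ⟨k, rfl⟩ := Subgroup.mem_zpowers_iff.mp hz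
        have : Commute (d ^ k) d := (Commute.refl d).zpow_left k
        exact conj_of_comm this.eq
      show ((g * y * g⁻¹ : ↥(Subgroup.closure T)) : G) ∈ T
      apply hTmem
      refine ⟨y' * (z * x * z⁻¹), (layer G).mul_mem hy'E (hEn.conj_mem x hx z), ?_⟩
      simp only [Subgroup.coe_mul, Subgroup.coe_inv]
      rw [hyx, ← hgz]
      calc y' * z * (x * d * x⁻¹) * (y' * z)⁻¹
          = y' * (z * x * z⁻¹) * (z * d * z⁻¹) * (y' * (z * x * z⁻¹))⁻¹ := by group
        _ = _ := by rw [hzd]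
    · intro y₁ hy₁ y₂ hy₂
      have hy₁' : (y₁ : G) ∈ T := hy₁
      have hy₂' : (y₂ : G) ∈ T := hy₂
      obtain ⟨x₁, hx₁, hyx₁⟩ := hmemT _ hy₁'
      obtain ⟨x₂, hx₂, hyx₂⟩ := hmemT _ hy₂'
      apply Subtype.ext
      simp only [Subgroup.coe_pow, Subgroup.coe_mul, Subgroup.coe_one]
      rw [hyx₁, hyx₂]
      have hx12 : x₁⁻¹ * x₂ ∈ layer G := (layer G).mul_mem ((layer G).inv_mem hx₁) hx₂
      have e1 : x₁ * d * x₁⁻¹ * (x₂ * d * x₂⁻¹) =
          x₁ * (d * ((x₁⁻¹ * x₂) * d * (x₁⁻¹ * x₂)⁻¹)) * x₁⁻¹ := by group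
      rw [e1, conj_pow, (key _ hx12).1]
      group
    · intro y₁ hy₁ y₂ hy₂ hc
      have hy₁' : (y₁ : G) ∈ T := hy₁
      have hy₂' : (y₂ : G) ∈ T := hy₂
      obtain ⟨x₁, hx₁, hyx₁⟩ := hmemT _ hy₁'
      obtain ⟨x₂, hx₂, hyx₂⟩ := hmemT _ hy₂'
      apply Subtype.ext
      rw [hyx₁, hyx₂]
      have hx12 : x₁⁻¹ * x₂ ∈ layer G := (layer G).mul_mem ((layer G).inv_mem hx₁) hx₂
      have hc' : (y₁ : G) * (y₂ : G) = (y₂ : G) * (y₁ : G) := by
        have := congrArg Subtype.val hc.eq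
        simpa using this
      rw [hyx₁, hyx₂] at hc'
      have h5 : d * ((x₁⁻¹ * x₂) * d * (x₁⁻¹ * x₂)⁻¹) = ((x₁⁻¹ * x₂) * d * (x₁⁻¹ * x₂)⁻¹) * d := by
        calc d * ((x₁⁻¹ * x₂) * d * (x₁⁻¹ * x₂)⁻¹)
            = x₁⁻¹ * ((x₁ * d * x₁⁻¹) * (x₂ * d * x₂⁻¹)) * x₁ := by group
          _ = x₁⁻¹ * ((x₂ * d * x₂⁻¹) * (x₁ * d * x₁⁻¹)) * x₁ := by rw [hc']
          _ = _ := by group
      have h6 := (key _ hx12).2 h5
      calc x₁ * d * x₁⁻¹ = x₁ * ((x₁⁻¹ * x₂) * d * (x₁⁻¹ * x₂)⁻¹) * x₁⁻¹ := by rw [h6]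
        _ = x₂ * d * x₂⁻¹ := by group
  have hdH : d ∈ Subgroup.closure T := Subgroup.subset_closure hdT
  have hhall := hall_three (hZ ↥(Subgroup.closure T)) hW
    (show (⟨d, hdH⟩ : ↥(Subgroup.closure T)) ∈ ((↑) : ↥(Subgroup.closure T) → G) ⁻¹' T from hdT)
  -- the commutators lie in O_3 of this subgroup
  have hcR : ∀ x ∈ layer G, x * d * x⁻¹ * d⁻¹ ∈
      (pCore 3 ↥(Subgroup.closure T)).map (Subgroup.closure T).subtype := by
    intro x hx
    have hxT : x * d * x⁻¹ ∈ Subgroup.closure T := by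
      apply Subgroup.subset_closure; exact hTmem _ ⟨x, hx, rfl⟩
    have hcH : x * d * x⁻¹ * d⁻¹ ∈ Subgroup.closure T :=
      Subgroup.mul_mem _ hxT (Subgroup.inv_mem _ hdH)
    have hc3 : (x * d * x⁻¹ * d⁻¹) ^ 3 = 1 := by
      have e1 : x * d * x⁻¹ * d⁻¹ = d * (d * (x * d * x⁻¹)) * d⁻¹ := by
        calc x * d * x⁻¹ * d⁻¹ = (d * d) * (x * d * x⁻¹) * d⁻¹ := by rw [hdd, one_mul]
          _ = _ := by group
      rw [e1, conj_pow, (key x hx).1]; group
    refine ⟨⟨_, hcH⟩, ?_, rfl⟩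
    -- work in the quotient by O_3
    have hmem : (⟨x * d * x⁻¹ * d⁻¹, hcH⟩ : ↥(Subgroup.closure T)) ∈
        ((Subgroup.zpowers (⟨d, hdH⟩ : ↥(Subgroup.closure T)) ⊔
          pCore 3 ↥(Subgroup.closure T) : Subgroup ↥(Subgroup.closure T)) :
          Set ↥(Subgroup.closure T)) := by
      rw [hhall]; trivial
    rw [Subgroup.mul_normal] at hmem
    obtain ⟨z, hz, r, hr, hzr⟩ := Set.mem_mul.mp hmem
    have hz2 : z ^ 2 = 1 := by
      obtain ⟨k, rfl⟩ := Subgroup.mem_zpowers_iff.mp hz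
      have hd2 : (⟨d, hdH⟩ : ↥(Subgroup.closure T)) ^ 2 = 1 := by
        apply Subtype.ext
        simp only [Subgroup.coe_pow, Subgroup.coe_one]
        rw [pow_two, hdd]
      rw [← zpow_natCast, ← zpow_mul, mul_comm, zpow_mul, zpow_natCast, hd2, one_zpow]
    have hc3' : (⟨x * d * x⁻¹ * d⁻¹, hcH⟩ : ↥(Subgroup.closure T)) ^ 3 = 1 := by
      apply Subtype.ext
      simp only [Subgroup.coe_pow, Subgroup.coe_one]
      exact hc3
    have hπ : (QuotientGroup.mk' (pCore 3 ↥(Subgroup.closure T))) z = 1 := by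
      have h5 : (QuotientGroup.mk' (pCore 3 ↥(Subgroup.closure T))) r = 1 := by
        rw [QuotientGroup.mk'_apply, QuotientGroup.eq_one_iff]; exact hr
      have h6 : (QuotientGroup.mk' (pCore 3 ↥(Subgroup.closure T))) z =
          (QuotientGroup.mk' (pCore 3 ↥(Subgroup.closure T)))
            (⟨x * d * x⁻¹ * d⁻¹, hcH⟩ : ↥(Subgroup.closure T)) := by
        rw [← hzr, map_mul, h5, mul_one]
      have h7 : ((QuotientGroup.mk' (pCore 3 ↥(Subgroup.closure T))) z) ^ 3 = 1 := by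
        rw [h6, ← map_pow, hc3', map_one]
      have h8 : ((QuotientGroup.mk' (pCore 3 ↥(Subgroup.closure T))) z) ^ 2 = 1 := by
        rw [← map_pow, hz2, map_one]
      have h9 : ∀ q : ↥(Subgroup.closure T) ⧸ pCore 3 ↥(Subgroup.closure T),
          q = q ^ 3 * (q ^ 2)⁻¹ := fun q => by group
      rw [h9 ((QuotientGroup.mk' (pCore 3 ↥(Subgroup.closure T))) z), h7, h8]; simp
    have hzR : z ∈ pCore 3 ↥(Subgroup.closure T) := by
      rwa [QuotientGroup.mk'_apply, QuotientGroup.eq_one_iff] at hπ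
    rw [← hzr]
    exact Subgroup.mul_mem _ hzR hr
  have hR3 : IsPGroup 3 ((pCore 3 ↥(Subgroup.closure T)).map (Subgroup.closure T).subtype) :=
    (pCore_isPGroup' 3).map _
  have hQle : Subgroup.closure {y : G | ∃ x ∈ layer G, y = x * d * x⁻¹ * d⁻¹} ≤
      (pCore 3 ↥(Subgroup.closure T)).map (Subgroup.closure T).subtype := by
    rw [Subgroup.closure_le]
    rintro y ⟨x, hx, rfl⟩
    exact hcR x hx
  have hQ := hR3.to_le hQle
  exact hE (h.layer_eq_bot hd (layer_centralized d 3 hQ))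

/-- at least one of `O_2`, `O_3`, the layer is non-central / non-trivial -/
theorem TT.some_noncentral (h : TT D) [Finite G] (h2 : pCore 2 G ≤ Subgroup.center G)
    (h3 : pCore 3 G ≤ Subgroup.center G) (hE : layer G = ⊥) (hD2 : ∃ a ∈ D, ∃ b ∈ D, a ≠ b) :
    False := by
  have hall : ∀ p : Nat.Primes, pCore (p : ℕ) G ≤ Subgroup.center G := by
    intro p
    by_cases hp2 : (p : ℕ) = 2
    · rw [hp2]; exact h2
    by_cases hp3 : (p : ℕ) = 3
    · rw [hp3]; exact h3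
    have hp : (p : ℕ).Prime := p.2
    have hgt : 3 < (p : ℕ) := by
      have := hp.two_le
      by_contra hle
      have : (p : ℕ) = 2 ∨ (p : ℕ) = 3 := by omega
      rcases this with h5 | h5
      · exact hp2 h5
      · exact hp3 h5
    exact h.pCore_central p hp hgt
  have hF : fittingSubgroup G ≤ Subgroup.center G := by
    rw [fittingSubgroup_eq_iSup_pCore']
    exact iSup_le hall
  have hC := (centralizer_fitting_le_iff_layer_eq_bot (X := G)).mpr hE
  have htop : (⊤ : Subgroup G) ≤ Subgroup.center G := by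
    intro g _
    apply hF
    apply hC
    rw [Subgroup.mem_centralizer_iff]
    intro f hf
    exact (Subgroup.mem_center_iff.mp (hF hf) g).symm
  obtain ⟨a, ha, b, hb, hab⟩ := hD2
  obtain ⟨g, hg⟩ := h.trans a ha b hb
  apply hab
  rw [← hg]
  have := Subgroup.mem_center_iff.mp (htop (Subgroup.mem_top a)) g
  rw [this]; group

theorem s5351_of_zprop (hZ : ∀ (X : Type u) [Group X] [Finite X], ZProp X) [Finite G]
    (hD : IsThreeTranspositionClass D) (hD2 : ∃ a ∈ D, ∃ b ∈ D, a ≠ b) :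
    (∀ p : ℕ, p.Prime → 3 < p → pCore p G ≤ Subgroup.center G) ∧
    ((¬ pCore 2 G ≤ Subgroup.center G ∧ pCore 3 G ≤ Subgroup.center G ∧ layer G = ⊥) ∨
     (pCore 2 G ≤ Subgroup.center G ∧ ¬ pCore 3 G ≤ Subgroup.center G ∧ layer G = ⊥) ∨
     (pCore 2 G ≤ Subgroup.center G ∧ pCore 3 G ≤ Subgroup.center G ∧ layer G ≠ ⊥)) := by
  have h := tt_of_class hD
  have hne : D.Nonempty := by
    obtain ⟨a, ha, -⟩ := hD2
    exact ⟨a, ha⟩
  refine ⟨fun p hp hp3 => h.pCore_central p hp hp3, ?_⟩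
  by_cases h2 : pCore 2 G ≤ Subgroup.center G
  · by_cases h3 : pCore 3 G ≤ Subgroup.center G
    · by_cases hE : layer G = ⊥
      · exact (h.some_noncentral h2 h3 hE hD2).elim
      · exact Or.inr (Or.inr ⟨h2, h3, hE⟩)
    · refine Or.inr (Or.inl ⟨h2, h3, ?_⟩)
      by_contra hE
      exact h.not_three_layer hZ h3 hE hne
  · refine Or.inl ⟨h2, ?_, ?_⟩
    · by_contra h3
      exact h.not_two_three h2 h3 hne
    · by_contra hE
      exact h.not_two_layer h2 hE hne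

end Cfsg.Agent.Lib.Helper25.ThreeTr
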