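import Cfsg.Agent.Lib.Helper25.ThreeTrD

/-!
No non-abelian finite simple group has all element orders at most three (helper25); used for the
components of 3-transposition groups.
-/

set_option autoImplicit false
open Cfsg
open scoped Pointwise commutatorElement

namespace Cfsg.Agent.Lib.Helper25.ThreeTr

universe u

theorem braid_of_cube {X : Type u} [Group X] {x y : X} (hx : x * x = 1) (hy : y * y = 1)
    (h : (x * y) ^ 3 = 1) : x * y * x = y * x * y := by
  have xi : x⁻¹ = x := inv_eq_of_mul_eq_one_left hx
  have yi : y⁻¹ = y := inv_eq_of_mul_eq_one_left hy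
  have h1 : x * y * x * (y * x * y) = 1 := by
    calc x * y * x * (y * x * y) = (x * y) ^ 3 := by rw [pow_succ, pow_two]; group
      _ = 1 := h
  have h2 := eq_inv_of_mul_eq_one_left h1
  rw [h2, mul_inv_rev, mul_inv_rev, xi, yi]
  group

theorem klein_step {X : Type u} [Group X] {a b c : X} (haa : a * a = 1) (hcc : c * c = 1)
    (hcomm : b * c = c * b) (e1 : a * b * a = b * a * b) (e2 : a * c * a = c * a * c)
    (e3 : a * (b * c) * a = (b * c) * a * (b * c)) : a * (b * c) * a = c * a * b := by
  have h1 : a * (b * c) * a = (b * a * b) * (c * a * c) := by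
    calc a * (b * c) * a = a * b * (a * a) * c * a := by rw [haa]; group
      _ = (a * b * a) * (a * c * a) := by group
      _ = _ := by rw [e1, e2]
  have h2 : (b * c) * a * (b * c) = (b * a * b) * (c * a * c) := by rw [← e3, h1]
  have h3 : c * a * (b * c) = a * b * (c * a * c) := by
    have h4 : b * (c * a * (b * c)) = b * (a * b * (c * a * c)) := by
      calc b * (c * a * (b * c)) = (b * c) * a * (b * c) := by group
        _ = (b * a * b) * (c * a * c) := h2
        _ = b * (a * b * (c * a * c)) := by group
    exact mul_left_cancel h4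
  have h4 : c * a * b = a * b * (c * a) := by
    have h5 : c * a * b = c * a * (b * c) * c := by
      calc c * a * b = c * a * (b * (c * c)) := by rw [hcc, mul_one]
        _ = c * a * (b * c) * c := by group
    rw [h5, h3]
    calc a * b * (c * a * c) * c = a * b * (c * a * (c * c)) := by group
      _ = a * b * (c * a) := by rw [hcc, mul_one]
  calc a * (b * c) * a = a * b * (c * a) := by group
    _ = c * a * b := h4.symm

/-- an involution `a` such that `ab`, `ac`, `a(bc)` all have order three, for commuting involutions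
`b`, `c`, commutes with `bc` -/
theorem klein_comm {X : Type u} [Group X] {a b c : X} (haa : a * a = 1) (hbb : b * b = 1)
    (hcc : c * c = 1) (hcomm : b * c = c * b) (e1 : (a * b) ^ 3 = 1) (e2 : (a * c) ^ 3 = 1)
    (e3 : (a * (b * c)) ^ 3 = 1) : a * (b * c) = (b * c) * a := by
  have hbc : (b * c) * (b * c) = 1 := by
    calc b * c * (b * c) = b * (c * b) * c := by group
      _ = b * (b * c) * c := by rw [hcomm]
      _ = (b * b) * (c * c) := by group
      _ = 1 := by rw [hbb, hcc, one_mul]
  have f1 := braid_of_cube haa hbb e1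
  have f2 := braid_of_cube haa hcc e2
  have f3 := braid_of_cube haa hbc e3
  have s1 := klein_step haa hcc hcomm f1 f2 f3
  have f3' : a * (c * b) * a = (c * b) * a * (c * b) := by rw [← hcomm]; exact f3
  have s2 := klein_step haa hbb hcomm.symm f2 f1 f3'
  have h1 : c * a * b = b * a * c := by rw [← s1, hcomm, s2]
  calc a * (b * c) = a * (c * b) := by rw [hcomm]
    _ = (b * b) * (a * c * b) := by rw [hbb]; group
    _ = b * (b * a * c) * b := by group
    _ = b * (c * a * b) * b := by rw [h1]
    _ = (b * c) * a * (b * b) := by group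
    _ = (b * c) * a := by rw [hbb, mul_one]

theorem no_simple_two_three {X : Type u} [Group X] [Finite X] [IsSimpleGroup X]
    (hX : ∀ g : X, g ^ 2 = 1 ∨ g ^ 3 = 1) (hna : ∃ a b : X, a * b ≠ b * a) : False := by
  classical
  haveI : Fact (Nat.Prime 2) := ⟨Nat.prime_two⟩
  haveI : Fact (Nat.Prime 3) := ⟨Nat.prime_three⟩
  have hcen : ∀ z : X, (∀ g, g * z = z * g) → z = 1 := by
    intro z hz
    have hz' : z ∈ Subgroup.center X := Subgroup.mem_center_iff.mpr hz
    rcases (inferInstance : (Subgroup.center X).Normal).eq_bot_or_eq_top with h | h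
    · rw [h, Subgroup.mem_bot] at hz'; exact hz'
    · exfalso
      obtain ⟨a, b, hab⟩ := hna
      apply hab
      have h1 : b ∈ Subgroup.center X := by rw [h]; trivial
      exact Subgroup.mem_center_iff.mp h1 a
  have hsq : ∀ g : X, g ^ 2 = 1 → g * g = 1 := fun g h => by rw [← pow_two]; exact h
  have h23 : ∀ g : X, g ^ 2 = 1 → g ^ 3 = 1 → g = 1 := by
    intro g h2 h3
    calc g = g ^ 3 * (g ^ 2)⁻¹ := by group
      _ = 1 := by rw [h2, h3]; simp
  -- there is an involution
  have hinv : ∃ a : X, a ≠ 1 ∧ a ^ 2 = 1 := by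
    by_contra hno
    push Not at hno
    have h3 : ∀ g : X, g ^ 3 = 1 := by
      intro g
      rcases hX g with h | h
      · by_cases hg : g = 1
        · rw [hg, one_pow]
        · exact (hno g hg h).elim
      · exact h
    have hp : IsPGroup 3 X := fun g => ⟨1, by rw [pow_one]; exact h3 g⟩
    haveI : Nontrivial X := IsSimpleGroup.toNontrivial
    haveI := hp.center_nontrivial
    obtain ⟨z, hz⟩ := exists_ne (1 : Subgroup.center X)
    apply hz
    apply Subtype.ext
    exact hcen z.1 (Subgroup.mem_center_iff.mp z.2)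
  obtain ⟨a, ha1, ha2⟩ := hinv
  -- centralizers of involutions have exponent two
  have hC : ∀ v : X, v ≠ 1 → v ^ 2 = 1 → ∀ g : X, g * v = v * g → g ^ 2 = 1 := by
    intro v hv1 hv2 g hgv
    rcases hX g with h | h
    · exact h
    · by_cases hg : g = 1
      · rw [hg, one_pow]
      · exfalso
        have hcomm : Commute v g := hgv.symm
        rcases hX (v * g) with h' | h'
        · rw [hcomm.mul_pow, hv2, one_mul] at h'
          exact hg (h23 g h' h)
        · rw [hcomm.mul_pow, h, mul_one] at h'
          exact hv1 (h23 v hv2 h')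
  have hCab : ∀ v : X, v ≠ 1 → v ^ 2 = 1 → ∀ g h : X, g * v = v * g → h * v = v * h →
      g * h = h * g := by
    intro v hv1 hv2 g h hg hh
    have h1 := hC v hv1 hv2 g hg
    have h2 := hC v hv1 hv2 h hh
    have h3 : (g * h) ^ 2 = 1 := by
      apply hC v hv1 hv2
      calc g * h * v = g * (h * v) := by group
        _ = g * (v * h) := by rw [hh]
        _ = (g * v) * h := by group
        _ = v * g * h := by rw [hg]
        _ = v * (g * h) := by group
    exact comm_of_sq' (hsq g h1) (hsq h h2) h3
  -- an involution commutes with every four-group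
  have hK : ∀ a b c : X, a ^ 2 = 1 → b ≠ 1 → b ^ 2 = 1 → c ≠ 1 → c ^ 2 = 1 → b ≠ c →
      b * c = c * b → a * b = b * a := by
    intro a b c ha hb1 hb2 hc1 hc2 hbc hcomm
    have haa := hsq a ha
    have hbb := hsq b hb2
    have hcc := hsq c hc2
    have hbc1 : b * c ≠ 1 := by
      intro h
      apply hbc
      calc b = b * (c * c) := by rw [hcc, mul_one]
        _ = (b * c) * c := by group
        _ = c := by rw [h, one_mul]
    have hbc2 : (b * c) ^ 2 = 1 := by
      rw [pow_two]
      calc b * c * (b * c) = b * (c * b) * c := by group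
        _ = b * (b * c) * c := by rw [hcomm]
        _ = (b * b) * (c * c) := by group
        _ = 1 := by rw [hbb, hcc, one_mul]
    have hsome : a * b = b * a ∨ a * c = c * a ∨ a * (b * c) = (b * c) * a := by
      by_contra hnone
      push Not at hnone
      obtain ⟨n1, n2, n3⟩ := hnone
      have cube : ∀ v : X, v * v = 1 → a * v ≠ v * a → (a * v) ^ 3 = 1 := by
        intro v hv hne
        rcases hX (a * v) with h | h
        · exact (hne (comm_of_sq' haa hv h)).elim
        · exact h
      exact n3 (klein_comm haa hbb hcc hcomm (cube b hbb n1) (cube c hcc n2)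
        (cube (b * c) (hsq _ hbc2) n3))
    rcases hsome with h | h | h
    · exact h
    · -- a, b ∈ C(c)
      exact hCab c hc1 hc2 a b h hcomm
    · -- a, b ∈ C(bc)
      have hb' : b * (b * c) = (b * c) * b := by
        calc b * (b * c) = b * (c * b) := by rw [hcomm]
          _ = (b * c) * b := by group
      exact hCab (b * c) hbc1 hbc2 a b h hb'
  -- no two different commuting involutions
  have hno2 : ∀ b c : X, b ≠ 1 → b ^ 2 = 1 → c ≠ 1 → c ^ 2 = 1 → b * c = c * b → b = c := by
    intro b c hb1 hb2 hc1 hc2 hcomm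
    by_contra hbc
    obtain ⟨I, hI⟩ : ∃ I : Set X, I = {g : X | g ^ 2 = 1} := ⟨_, rfl⟩
    have hNn : (Subgroup.centralizer I).Normal := by
      constructor
      intro n hn g
      rw [Subgroup.mem_centralizer_iff] at hn ⊢
      intro x hx
      have hx' : g⁻¹ * x * g ∈ I := by
        rw [hI] at hx ⊢
        show (g⁻¹ * x * g) ^ 2 = 1
        have h1 : x ^ 2 = 1 := hx
        have h2 := conj_pow (a := g⁻¹) (b := x) (i := 2)
        rw [inv_inv] at h2
        rw [h2, h1]; group
      have h1 := hn _ hx'
      calc x * (g * n * g⁻¹) = g * ((g⁻¹ * x * g) * n) * g⁻¹ := by group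
        _ = g * (n * (g⁻¹ * x * g)) * g⁻¹ := by rw [h1]
        _ = g * n * g⁻¹ * x := by group
    have hbN : b ∈ Subgroup.centralizer I := by
      rw [Subgroup.mem_centralizer_iff]
      intro x hx
      have hx2 : x ^ 2 = 1 := by rw [hI] at hx; exact hx
      exact hK x b c hx2 hb1 hb2 hc1 hc2 hbc hcomm
    rcases hNn.eq_bot_or_eq_top with h | h
    · rw [h, Subgroup.mem_bot] at hbN; exact hb1 hbN
    · apply hb1
      apply hcen
      intro g
      have hg : g ∈ Subgroup.centralizer I := by rw [h]; trivial
      rw [Subgroup.mem_centralizer_iff] at hg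
      have hbI : b ∈ I := by rw [hI]; exact hb2
      exact (hg b hbI).symm
  -- a Sylow 2-subgroup has order two
  obtain ⟨S, hS⟩ : ∃ S : Sylow 2 X, a ∈ S := by
    have hp : IsPGroup 2 (Subgroup.zpowers a) := by
      rw [IsPGroup.iff_orderOf]
      intro g
      obtain ⟨k, hk⟩ := Subgroup.mem_zpowers_iff.mp g.2
      have h1 : (g : X) ^ 2 = 1 := by
        rw [← hk, ← zpow_natCast, ← zpow_mul, mul_comm, zpow_mul, zpow_natCast, ha2, one_zpow]
      have h2 : g ^ 2 = 1 := Subtype.ext (by simpa using h1)
      have h3 := orderOf_dvd_of_pow_eq_one h2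
      rcases (Nat.dvd_prime Nat.prime_two).mp h3 with h4 | h4
      · exact ⟨0, by rw [h4, pow_zero]⟩
      · exact ⟨1, by rw [h4, pow_one]⟩
    obtain ⟨S, hS⟩ := hp.exists_le_sylow
    exact ⟨S, hS (Subgroup.mem_zpowers a)⟩
  have hS2 : ∀ g ∈ S, g ^ 2 = 1 := by
    intro g hg
    rcases hX g with h | h
    · exact h
    · have h1 := eq_one_of_pow_of_isPGroup S.isPGroup' hg h (by norm_num)
      rw [h1, one_pow]
  have hSel : ∀ g ∈ S, g = 1 ∨ g = a := by
    intro g hg
    by_cases hg1 : g = 1
    · left; exact hg1
    · right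
      have hga : (g * a) ^ 2 = 1 := hS2 _ (S.mul_mem hg hS)
      exact hno2 g a hg1 (hS2 g hg) ha1 ha2 (comm_of_sq' (hsq g (hS2 g hg)) (hsq a ha2) hga)
  have hNC : Subgroup.normalizer (S : Set X) ≤ Subgroup.centralizer (S : Set X) := by
    intro n hn
    rw [Subgroup.mem_centralizer_iff]
    intro g hg
    have hN := Subgroup.mem_normalizer_iff.mp hn
    have hna' : n * a * n⁻¹ = a := by
      rcases hSel _ ((hN a).mp hS) with h | h
      · exfalso; apply ha1
        calc a = n⁻¹ * (n * a * n⁻¹) * n := by group
          _ = 1 := by rw [h]; group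
      · exact h
    rcases hSel g hg with h | h
    · rw [h]; simp
    · rw [h]
      calc a * n = (n * a * n⁻¹)⁻¹⁻¹ * n := by rw [hna', inv_inv]
        _ = n * a := by group
  have hcompl := MonoidHom.ker_transferSylow_isComplement' S hNC
  rcases (inferInstance : (MonoidHom.transferSylow S hNC).ker.Normal).eq_bot_or_eq_top with h | h
  · rw [h, Subgroup.isComplement'_bot_left] at hcompl
    obtain ⟨x, y, hxy⟩ := hna
    apply hxy
    have hx : x ∈ (S : Subgroup X) := by rw [hcompl]; trivial
    have hy : y ∈ (S : Subgroup X) := by rw [hcompl]; trivial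
    exact comm_of_sq' (hsq x (hS2 x hx)) (hsq y (hS2 y hy)) (hS2 _ (S.mul_mem hx hy))
  · rw [h, Subgroup.isComplement'_top_left] at hcompl
    have : a ∈ (S : Subgroup X) := hS
    rw [hcompl, Subgroup.mem_bot] at this
    exact ha1 this

end Cfsg.Agent.Lib.Helper25.ThreeTr
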