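import Cfsg.Agent.Lib.Helper25.ThreeTrE

/-!
Centralization criteria for perfect normal subgroups of the layer in 3-transposition groups
(helper25).
-/

set_option autoImplicit false
open Cfsg
open scoped Pointwise commutatorElement

namespace Cfsg.Agent.Lib.Helper25.ThreeTr

open Cfsg.Agent.Lib.Helper18 Cfsg.Agent.Lib.Helper20 Cfsg.Agent.Lib.Helper25.ZStar

universe u

/-- if the commutators `[x, d]`, `x` in a perfect normal subgroup `E` of the layer, generate a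
`p`-group, then `d` centralizes `E` -/
theorem sub_centralized {G : Type u} [Group G] [Finite G] (E : Subgroup G) (hEn : E.Normal)
    (hEle : E ≤ layer G) (hperf : ⁅E, E⁆ = E) (d : G) (p : ℕ) [Fact p.Prime]
    (hQ : IsPGroup p (Subgroup.closure {y : G | ∃ x ∈ E, y = x * d * x⁻¹ * d⁻¹})) :
    ∀ x ∈ E, x * d = d * x := by
  obtain ⟨Q, hQdef⟩ : ∃ Q : Subgroup G,
    Q = Subgroup.closure {y : G | ∃ x ∈ E, y = x * d * x⁻¹ * d⁻¹} := ⟨_, rfl⟩
  rw [← hQdef] at hQ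
  have hcE : ∀ x ∈ E, x * d * x⁻¹ * d⁻¹ ∈ E := by
    intro x hx
    have h1 : d * x⁻¹ * d⁻¹ ∈ E := hEn.conj_mem _ (E.inv_mem hx) d
    have h2 : x * d * x⁻¹ * d⁻¹ = x * (d * x⁻¹ * d⁻¹) := by group
    rw [h2]; exact E.mul_mem hx h1
  have hcQ : ∀ x ∈ E, x * d * x⁻¹ * d⁻¹ ∈ Q := by
    intro x hx
    rw [hQdef]; exact Subgroup.subset_closure ⟨x, hx, rfl⟩
  have hQE : Q ≤ E := by
    rw [hQdef, Subgroup.closure_le]
    rintro y ⟨x, hx, rfl⟩
    exact hcE x hx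
  -- Q is normalized by E
  have hnorm : ∀ y ∈ E, ∀ q ∈ Q, y * q * y⁻¹ ∈ Q := by
    intro y hy q hq
    rw [hQdef] at hq
    induction hq using Subgroup.closure_induction with
    | mem q hq =>
      obtain ⟨x, hx, rfl⟩ := hq
      have e1 : y * (x * d * x⁻¹ * d⁻¹) * y⁻¹ =
          ((y * x) * d * (y * x)⁻¹ * d⁻¹) * (y * d * y⁻¹ * d⁻¹)⁻¹ := by group
      rw [e1]
      exact Q.mul_mem (hcQ _ (E.mul_mem hy hx)) (Q.inv_mem (hcQ y hy))
    | one => simp [Q.one_mem]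
    | mul a b _ _ iha ihb =>
      have e1 : y * (a * b) * y⁻¹ = (y * a * y⁻¹) * (y * b * y⁻¹) := by group
      rw [e1]; exact Q.mul_mem iha ihb
    | inv a _ iha =>
      have e1 : y * a⁻¹ * y⁻¹ = (y * a * y⁻¹)⁻¹ := by group
      rw [e1]; exact Q.inv_mem iha
  have hQn : (Q.subgroupOf E).Normal := by
    rw [Subgroup.normal_subgroupOf_iff_le_normalizer hQE]
    intro y hy
    rw [Subgroup.mem_normalizer_iff]
    intro q
    constructor
    · exact hnorm y hy q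
    · intro hq
      have := hnorm y⁻¹ (E.inv_mem hy) _ hq
      have e1 : y⁻¹ * (y * q * y⁻¹) * y⁻¹⁻¹ = q := by group
      rwa [e1] at this
  have hQsub : Q.IsSubnormal :=
    Subgroup.IsSubnormal.trans hQE hQn.isSubnormal hEn.isSubnormal
  have hQF : Q ≤ fittingSubgroup G :=
    (Cfsg.Agent.Lib.Helper16.le_pCore_of_isSubnormal_of_isPGroup p hQsub hQ).trans
      (pCore_le_fitting' p)
  -- E centralizes Q
  have hEQ : ∀ y ∈ E, ∀ q ∈ Q, y * q = q * y := by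
    intro y hy q hq
    have h1 : y ∈ Subgroup.centralizer (fittingSubgroup G : Set G) :=
      layer_le_centralizer_fitting (hEle hy)
    rw [Subgroup.mem_centralizer_iff] at h1
    exact (h1 q (hQF hq)).symm
  -- anti-multiplicativity of c
  have hmul : ∀ x ∈ E, ∀ y ∈ E,
      (x * y) * d * (x * y)⁻¹ * d⁻¹ = (y * d * y⁻¹ * d⁻¹) * (x * d * x⁻¹ * d⁻¹) := by
    intro x hx y hy
    have h1 := hEQ x hx _ (hcQ y hy)
    calc (x * y) * d * (x * y)⁻¹ * d⁻¹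
        = (x * (y * d * y⁻¹ * d⁻¹)) * x⁻¹ * (x * d * x⁻¹ * d⁻¹) := by group
      _ = ((y * d * y⁻¹ * d⁻¹) * x) * x⁻¹ * (x * d * x⁻¹ * d⁻¹) := by rw [h1]
      _ = _ := by group
  -- c of a commutator is trivial
  have hcomm : ∀ x ∈ E, ∀ y ∈ E, ⁅x, y⁆ ∈ Subgroup.centralizer ({d} : Set G) := by
    intro x hx y hy
    rw [Subgroup.mem_centralizer_singleton_iff]
    have hxi := E.inv_mem hx
    have hyi := E.inv_mem hy
    have e0 : ⁅x, y⁆ = ((x * y) * x⁻¹) * y⁻¹ := by rw [commutatorElement_def]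
    have e1 := hmul (x * y * x⁻¹) (E.mul_mem (E.mul_mem hx hy) hxi) y⁻¹ hyi
    have e2 := hmul (x * y) (E.mul_mem hx hy) x⁻¹ hxi
    have e3 := hmul x hx y hy
    have e4 := hmul x hx x⁻¹ hxi
    have e5 := hmul y hy y⁻¹ hyi
    -- c(x⁻¹) = c(x)⁻¹
    have e6 : x⁻¹ * d * x⁻¹⁻¹ * d⁻¹ = (x * d * x⁻¹ * d⁻¹)⁻¹ := by
      have : (x * x⁻¹) * d * (x * x⁻¹)⁻¹ * d⁻¹ = 1 := by group
      rw [this] at e4
      exact eq_inv_of_mul_eq_one_left e4.symm
    have e7 : y⁻¹ * d * y⁻¹⁻¹ * d⁻¹ = (y * d * y⁻¹ * d⁻¹)⁻¹ := by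
      have : (y * y⁻¹) * d * (y * y⁻¹)⁻¹ * d⁻¹ = 1 := by group
      rw [this] at e5
      exact eq_inv_of_mul_eq_one_left e5.symm
    have hc : (x * d * x⁻¹ * d⁻¹) * (y * d * y⁻¹ * d⁻¹) =
        (y * d * y⁻¹ * d⁻¹) * (x * d * x⁻¹ * d⁻¹) :=
      hEQ _ (hcE x hx) _ (hcQ y hy)
    have e8 : (x * y * x⁻¹ * y⁻¹) * d * (x * y * x⁻¹ * y⁻¹)⁻¹ * d⁻¹ = 1 := by
      rw [e1, e2, e3, e6, e7]
      calc (y * d * y⁻¹ * d⁻¹)⁻¹ * ((x * d * x⁻¹ * d⁻¹)⁻¹ *
            ((y * d * y⁻¹ * d⁻¹) * (x * d * x⁻¹ * d⁻¹)))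
          = (y * d * y⁻¹ * d⁻¹)⁻¹ * ((x * d * x⁻¹ * d⁻¹)⁻¹ *
            ((x * d * x⁻¹ * d⁻¹) * (y * d * y⁻¹ * d⁻¹))) := by rw [hc]
        _ = 1 := by group
    rw [e0]
    have e9 : (x * y * x⁻¹ * y⁻¹) * d = ((x * y * x⁻¹ * y⁻¹) * d * (x * y * x⁻¹ * y⁻¹)⁻¹ * d⁻¹) *
        (d * (x * y * x⁻¹ * y⁻¹)) := by group
    rw [e9, e8, one_mul]
  have hle : ⁅E, E⁆ ≤ Subgroup.centralizer ({d} : Set G) := Subgroup.commutator_le.mpr hcomm
  rw [hperf] at hle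
  intro x hx
  exact Subgroup.mem_centralizer_singleton_iff.mp (hle hx)


variable {G : Type u} [Group G] {D : Set G}

/-- if all `E`-conjugates of `d` have product of order three with `d`, and commute with `d` only when
equal, then `d` centralizes `E` (M. Hall's theorem through the Z*-property) -/
theorem TT.key_to_centralized (hZ : ∀ (X : Type u) [Group X] [Finite X], ZProp X) (h : TT D)
    [Finite G] (E : Subgroup G) (hEn : E.Normal) (hEle : E ≤ layer G) (hperf : ⁅E, E⁆ = E)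
    {d : G} (hd : d ∈ D)
    (key : ∀ x ∈ E, (d * (x * d * x⁻¹)) ^ 3 = 1 ∧
      (d * (x * d * x⁻¹) = (x * d * x⁻¹) * d → x * d * x⁻¹ = d)) :
    ∀ x ∈ E, x * d = d * x := by
  haveI : Fact (Nat.Prime 3) := ⟨Nat.prime_three⟩
  have hdd := h.sq hd
  have dinv := h.inv hd
  -- the subgroup generated by the conjugates
  obtain ⟨T, hTdef⟩ : ∃ T : Set G, T = {y : G | ∃ x ∈ E, y = x * d * x⁻¹} := ⟨_, rfl⟩
  have hdT : d ∈ T := by rw [hTdef]; exact ⟨1, Subgroup.one_mem _, by group⟩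
  have hmemT : ∀ z : G, z ∈ T → ∃ x ∈ E, z = x * d * x⁻¹ := by
    intro z hz; rw [hTdef] at hz; exact hz
  have hTmem : ∀ z : G, (∃ x ∈ E, z = x * d * x⁻¹) → z ∈ T := by
    intro z hz; rw [hTdef]; exact hz
  haveI : E.Normal := hEn
  have hHle : Subgroup.closure T ≤ E ⊔ Subgroup.zpowers d := by
    rw [Subgroup.closure_le, hTdef]
    rintro y ⟨x, hx, rfl⟩
    have e1 : x * d * x⁻¹ = (x * (d * x⁻¹ * d⁻¹)) * d := by group
    rw [e1]
    exact Subgroup.mul_mem _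
      (Subgroup.mem_sup_left ((E).mul_mem hx (hEn.conj_mem _ ((E).inv_mem hx) d)))
      (Subgroup.mem_sup_right (Subgroup.mem_zpowers d))
  have hW : W1 (((↑) : ↥(Subgroup.closure T) → G) ⁻¹' T) := by
    refine ⟨?_, ?_, Subgroup.closure_closure_coe_preimage, ?_, ?_⟩
    · intro y hy
      have hy' : (y : G) ∈ T := hy
      obtain ⟨x, hx, hyx⟩ := hmemT _ hy'
      rw [← Subgroup.orderOf_coe, hyx]
      exact h.ord _ (h.conj x d hd)
    · intro g y hy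
      have hy' : (y : G) ∈ T := hy
      obtain ⟨x, hx, hyx⟩ := hmemT _ hy'
      have hg : (g : G) ∈ ((E ⊔ Subgroup.zpowers d : Subgroup G) : Set G) := hHle g.2
      rw [Subgroup.normal_mul] at hg
      obtain ⟨y', hy'E, z, hz, hgz⟩ := Set.mem_mul.mp hg
      have hzd : z * d * z⁻¹ = d := by
        obtain ⟨k, rfl⟩ := Subgroup.mem_zpowers_iff.mp hz
        have : Commute (d ^ k) d := (Commute.refl d).zpow_left k
        exact conj_of_comm this.eq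
      show ((g * y * g⁻¹ : ↥(Subgroup.closure T)) : G) ∈ T
      apply hTmem
      refine ⟨y' * (z * x * z⁻¹), (E).mul_mem hy'E (hEn.conj_mem x hx z), ?_⟩
      simp only [Subgroup.coe_mul, Subgroup.coe_inv]
      rw [hyx, ← hgz]
      calc y' * z * (x * d * x⁻¹) * (y' * z)⁻¹
          = y' * (z * x * z⁻¹) * (z * d * z⁻¹) * (y' * (z * x * z⁻¹))⁻¹ := by group
        _ = _ := by rw [hzd]
    · intro y₁ hy₁ y₂ hy₂
      have hy₁' : (y₁ : G) ∈ T := hy₁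
      have hy₂' : (y₂ : G) ∈ T := hy₂
      obtain ⟨x₁, hx₁, hyx₁⟩ := hmemT _ hy₁'
      obtain ⟨x₂, hx₂, hyx₂⟩ := hmemT _ hy₂'
      apply Subtype.ext
      simp only [Subgroup.coe_pow, Subgroup.coe_mul, Subgroup.coe_one]
      rw [hyx₁, hyx₂]
      have hx12 : x₁⁻¹ * x₂ ∈ E := (E).mul_mem ((E).inv_mem hx₁) hx₂
      have e1 : x₁ * d * x₁⁻¹ * (x₂ * d * x₂⁻¹) =
          x₁ * (d * ((x₁⁻¹ * x₂) * d * (x₁⁻¹ * x₂)⁻¹)) * x₁⁻¹ := by group
      rw [e1, conj_pow, (key _ hx12).1]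
      group
    · intro y₁ hy₁ y₂ hy₂ hc
      have hy₁' : (y₁ : G) ∈ T := hy₁
      have hy₂' : (y₂ : G) ∈ T := hy₂
      obtain ⟨x₁, hx₁, hyx₁⟩ := hmemT _ hy₁'
      obtain ⟨x₂, hx₂, hyx₂⟩ := hmemT _ hy₂'
      apply Subtype.ext
      rw [hyx₁, hyx₂]
      have hx12 : x₁⁻¹ * x₂ ∈ E := (E).mul_mem ((E).inv_mem hx₁) hx₂
      have hc' : (y₁ : G) * (y₂ : G) = (y₂ : G) * (y₁ : G) := by
        have := congrArg Subtype.val hc.eq
        simpa using this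
      rw [hyx₁, hyx₂] at hc'
      have h5 : d * ((x₁⁻¹ * x₂) * d * (x₁⁻¹ * x₂)⁻¹) = ((x₁⁻¹ * x₂) * d * (x₁⁻¹ * x₂)⁻¹) * d := by
        calc d * ((x₁⁻¹ * x₂) * d * (x₁⁻¹ * x₂)⁻¹)
            = x₁⁻¹ * ((x₁ * d * x₁⁻¹) * (x₂ * d * x₂⁻¹)) * x₁ := by group
          _ = x₁⁻¹ * ((x₂ * d * x₂⁻¹) * (x₁ * d * x₁⁻¹)) * x₁ := by rw [hc']
          _ = _ := by group
      have h6 := (key _ hx12).2 h5
      calc x₁ * d * x₁⁻¹ = x₁ * ((x₁⁻¹ * x₂) * d * (x₁⁻¹ * x₂)⁻¹) * x₁⁻¹ := by rw [h6]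
        _ = x₂ * d * x₂⁻¹ := by group
  have hdH : d ∈ Subgroup.closure T := Subgroup.subset_closure hdT
  have hhall := hall_three (hZ ↥(Subgroup.closure T)) hW
    (show (⟨d, hdH⟩ : ↥(Subgroup.closure T)) ∈ ((↑) : ↥(Subgroup.closure T) → G) ⁻¹' T from hdT)
  -- the commutators lie in O_3 of this subgroup
  have hcR : ∀ x ∈ E, x * d * x⁻¹ * d⁻¹ ∈
      (pCore 3 ↥(Subgroup.closure T)).map (Subgroup.closure T).subtype := by
    intro x hx
    have hxT : x * d * x⁻¹ ∈ Subgroup.closure T := by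
      apply Subgroup.subset_closure; exact hTmem _ ⟨x, hx, rfl⟩
    have hcH : x * d * x⁻¹ * d⁻¹ ∈ Subgroup.closure T :=
      Subgroup.mul_mem _ hxT (Subgroup.inv_mem _ hdH)
    have hc3 : (x * d * x⁻¹ * d⁻¹) ^ 3 = 1 := by
      have e1 : x * d * x⁻¹ * d⁻¹ = d * (d * (x * d * x⁻¹)) * d⁻¹ := by
        calc x * d * x⁻¹ * d⁻¹ = (d * d) * (x * d * x⁻¹) * d⁻¹ := by rw [hdd, one_mul]
          _ = _ := by group
      rw [e1, conj_pow, (key x hx).1]; group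
    refine ⟨⟨_, hcH⟩, ?_, rfl⟩
    -- work in the quotient by O_3
    have hmem : (⟨x * d * x⁻¹ * d⁻¹, hcH⟩ : ↥(Subgroup.closure T)) ∈
        ((Subgroup.zpowers (⟨d, hdH⟩ : ↥(Subgroup.closure T)) ⊔
          pCore 3 ↥(Subgroup.closure T) : Subgroup ↥(Subgroup.closure T)) :
          Set ↥(Subgroup.closure T)) := by
      rw [hhall]; trivial
    rw [Subgroup.mul_normal] at hmem
    obtain ⟨z, hz, r, hr, hzr⟩ := Set.mem_mul.mp hmem
    have hz2 : z ^ 2 = 1 := by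
      obtain ⟨k, rfl⟩ := Subgroup.mem_zpowers_iff.mp hz
      have hd2 : (⟨d, hdH⟩ : ↥(Subgroup.closure T)) ^ 2 = 1 := by
        apply Subtype.ext
        simp only [Subgroup.coe_pow, Subgroup.coe_one]
        rw [pow_two, hdd]
      rw [← zpow_natCast, ← zpow_mul, mul_comm, zpow_mul, zpow_natCast, hd2, one_zpow]
    have hc3' : (⟨x * d * x⁻¹ * d⁻¹, hcH⟩ : ↥(Subgroup.closure T)) ^ 3 = 1 := by
      apply Subtype.ext
      simp only [Subgroup.coe_pow, Subgroup.coe_one]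
      exact hc3
    have hπ : (QuotientGroup.mk' (pCore 3 ↥(Subgroup.closure T))) z = 1 := by
      have h5 : (QuotientGroup.mk' (pCore 3 ↥(Subgroup.closure T))) r = 1 := by
        rw [QuotientGroup.mk'_apply, QuotientGroup.eq_one_iff]; exact hr
      have h6 : (QuotientGroup.mk' (pCore 3 ↥(Subgroup.closure T))) z =
          (QuotientGroup.mk' (pCore 3 ↥(Subgroup.closure T)))
            (⟨x * d * x⁻¹ * d⁻¹, hcH⟩ : ↥(Subgroup.closure T)) := by
        rw [← hzr, map_mul, h5, mul_one]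
      have h7 : ((QuotientGroup.mk' (pCore 3 ↥(Subgroup.closure T))) z) ^ 3 = 1 := by
        rw [h6, ← map_pow, hc3', map_one]
      have h8 : ((QuotientGroup.mk' (pCore 3 ↥(Subgroup.closure T))) z) ^ 2 = 1 := by
        rw [← map_pow, hz2, map_one]
      have h9 : ∀ q : ↥(Subgroup.closure T) ⧸ pCore 3 ↥(Subgroup.closure T),
          q = q ^ 3 * (q ^ 2)⁻¹ := fun q => by group
      rw [h9 ((QuotientGroup.mk' (pCore 3 ↥(Subgroup.closure T))) z), h7, h8]; simp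
    have hzR : z ∈ pCore 3 ↥(Subgroup.closure T) := by
      rwa [QuotientGroup.mk'_apply, QuotientGroup.eq_one_iff] at hπ
    rw [← hzr]
    exact Subgroup.mul_mem _ hzR hr
  have hR3 : IsPGroup 3 ((pCore 3 ↥(Subgroup.closure T)).map (Subgroup.closure T).subtype) :=
    (pCore_isPGroup' 3).map _
  have hQle : Subgroup.closure {y : G | ∃ x ∈ E, y = x * d * x⁻¹ * d⁻¹} ≤
      (pCore 3 ↥(Subgroup.closure T)).map (Subgroup.closure T).subtype := by
    rw [Subgroup.closure_le]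
    rintro y ⟨x, hx, rfl⟩
    exact hcR x hx
  have hQ := hR3.to_le hQle
  exact sub_centralized E hEn hEle hperf d 3 hQ

end Cfsg.Agent.Lib.Helper25.ThreeTr
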