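import Cfsg.Agent.Lib.Helper25.ThreeTrF

/-!
Fischer's theorem on the generalized Fitting subgroup of a 3-transposition group with central
`O_2` and `O_3` (S5352), from the Z*-property (helper25).
-/

set_option autoImplicit false
open Cfsg
open scoped Pointwise commutatorElement

namespace Cfsg.Agent.Lib.Helper25.ThreeTr

open Cfsg.Agent.Lib.Helper18 Cfsg.Agent.Lib.Helper20 Cfsg.Agent.Lib.Helper25.ZStar

universe u

/-- the subgroup generated by the commutators `[x, d]`, `x ∈ E`, is normalized by `E` -/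
theorem comm_closure_conj {G : Type u} [Group G] (E : Subgroup G) (d : G) :
    ∀ y ∈ E, ∀ q ∈ Subgroup.closure {y : G | ∃ x ∈ E, y = x * d * x⁻¹ * d⁻¹},
      y * q * y⁻¹ ∈ Subgroup.closure {y : G | ∃ x ∈ E, y = x * d * x⁻¹ * d⁻¹} := by
  obtain ⟨Q, hQdef⟩ : ∃ Q : Subgroup G,
    Q = Subgroup.closure {y : G | ∃ x ∈ E, y = x * d * x⁻¹ * d⁻¹} := ⟨_, rfl⟩
  rw [← hQdef]
  have hcQ : ∀ x ∈ E, x * d * x⁻¹ * d⁻¹ ∈ Q := by
    intro x hx
    rw [hQdef]; exact Subgroup.subset_closure ⟨x, hx, rfl⟩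
  have hnorm : ∀ y ∈ E, ∀ q ∈ Q, y * q * y⁻¹ ∈ Q := by
    intro y hy q hq
    rw [hQdef] at hq
    induction hq using Subgroup.closure_induction with
    | mem q hq =>
      obtain ⟨x, hx, rfl⟩ := hq
      have e1 : y * (x * d * x⁻¹ * d⁻¹) * y⁻¹ =
          ((y * x) * d * (y * x)⁻¹ * d⁻¹) * (y * d * y⁻¹ * d⁻¹)⁻¹ := by group
      rw [e1]
      exact Q.mul_mem (hcQ _ (E.mul_mem hy hx)) (Q.inv_mem (hcQ y hy))
    | one => simp [Q.one_mem]
    | mul a b _ _ iha ihb =>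
      have e1 : y * (a * b) * y⁻¹ = (y * a * y⁻¹) * (y * b * y⁻¹) := by group
      rw [e1]; exact Q.mul_mem iha ihb
    | inv a _ iha =>
      have e1 : y * a⁻¹ * y⁻¹ = (y * a * y⁻¹)⁻¹ := by group
      rw [e1]; exact Q.inv_mem iha
  exact hnorm

/-- if `E` (normal, perfect) centralizes all commutators `[x, d]`, `x ∈ E`, then `d` centralizes
`E` -/
theorem centralized_of_comm {G : Type u} [Group G] (E : Subgroup G) (hEn : E.Normal)
    (hperf : ⁅E, E⁆ = E) (d : G)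
    (hEQ' : ∀ y ∈ E, ∀ x ∈ E, y * (x * d * x⁻¹ * d⁻¹) = (x * d * x⁻¹ * d⁻¹) * y) :
    ∀ x ∈ E, x * d = d * x := by
  have hcE : ∀ x ∈ E, x * d * x⁻¹ * d⁻¹ ∈ E := by
    intro x hx
    have h1 : d * x⁻¹ * d⁻¹ ∈ E := hEn.conj_mem _ (E.inv_mem hx) d
    have h2 : x * d * x⁻¹ * d⁻¹ = x * (d * x⁻¹ * d⁻¹) := by group
    rw [h2]; exact E.mul_mem hx h1
  -- anti-multiplicativity of c
  have hmul : ∀ x ∈ E, ∀ y ∈ E,
      (x * y) * d * (x * y)⁻¹ * d⁻¹ = (y * d * y⁻¹ * d⁻¹) * (x * d * x⁻¹ * d⁻¹) := by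
    intro x hx y hy
    have h1 := hEQ' x hx y hy
    calc (x * y) * d * (x * y)⁻¹ * d⁻¹
        = (x * (y * d * y⁻¹ * d⁻¹)) * x⁻¹ * (x * d * x⁻¹ * d⁻¹) := by group
      _ = ((y * d * y⁻¹ * d⁻¹) * x) * x⁻¹ * (x * d * x⁻¹ * d⁻¹) := by rw [h1]
      _ = _ := by group
  -- c of a commutator is trivial
  have hcomm : ∀ x ∈ E, ∀ y ∈ E, ⁅x, y⁆ ∈ Subgroup.centralizer ({d} : Set G) := by
    intro x hx y hy
    rw [Subgroup.mem_centralizer_singleton_iff]
    have hxi := E.inv_mem hx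
    have hyi := E.inv_mem hy
    have e0 : ⁅x, y⁆ = ((x * y) * x⁻¹) * y⁻¹ := by rw [commutatorElement_def]
    have e1 := hmul (x * y * x⁻¹) (E.mul_mem (E.mul_mem hx hy) hxi) y⁻¹ hyi
    have e2 := hmul (x * y) (E.mul_mem hx hy) x⁻¹ hxi
    have e3 := hmul x hx y hy
    have e4 := hmul x hx x⁻¹ hxi
    have e5 := hmul y hy y⁻¹ hyi
    -- c(x⁻¹) = c(x)⁻¹
    have e6 : x⁻¹ * d * x⁻¹⁻¹ * d⁻¹ = (x * d * x⁻¹ * d⁻¹)⁻¹ := by
      have : (x * x⁻¹) * d * (x * x⁻¹)⁻¹ * d⁻¹ = 1 := by group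
      rw [this] at e4
      exact eq_inv_of_mul_eq_one_left e4.symm
    have e7 : y⁻¹ * d * y⁻¹⁻¹ * d⁻¹ = (y * d * y⁻¹ * d⁻¹)⁻¹ := by
      have : (y * y⁻¹) * d * (y * y⁻¹)⁻¹ * d⁻¹ = 1 := by group
      rw [this] at e5
      exact eq_inv_of_mul_eq_one_left e5.symm
    have hc : (x * d * x⁻¹ * d⁻¹) * (y * d * y⁻¹ * d⁻¹) =
        (y * d * y⁻¹ * d⁻¹) * (x * d * x⁻¹ * d⁻¹) :=
      hEQ' _ (hcE x hx) y hy
    have e8 : (x * y * x⁻¹ * y⁻¹) * d * (x * y * x⁻¹ * y⁻¹)⁻¹ * d⁻¹ = 1 := by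
      rw [e1, e2, e3, e6, e7]
      calc (y * d * y⁻¹ * d⁻¹)⁻¹ * ((x * d * x⁻¹ * d⁻¹)⁻¹ *
            ((y * d * y⁻¹ * d⁻¹) * (x * d * x⁻¹ * d⁻¹)))
          = (y * d * y⁻¹ * d⁻¹)⁻¹ * ((x * d * x⁻¹ * d⁻¹)⁻¹ *
            ((x * d * x⁻¹ * d⁻¹) * (y * d * y⁻¹ * d⁻¹))) := by rw [hc]
        _ = 1 := by group
    rw [e0]
    have e9 : (x * y * x⁻¹ * y⁻¹) * d = ((x * y * x⁻¹ * y⁻¹) * d * (x * y * x⁻¹ * y⁻¹)⁻¹ * d⁻¹) *
        (d * (x * y * x⁻¹ * y⁻¹)) := by group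
    rw [e9, e8, one_mul]
  have hle : ⁅E, E⁆ ≤ Subgroup.centralizer ({d} : Set G) := Subgroup.commutator_le.mpr hcomm
  rw [hperf] at hle
  intro x hx
  exact Subgroup.mem_centralizer_singleton_iff.mp (hle hx)

variable {G : Type u} [Group G] {D : Set G}

/-- every member of `D` normalizes every component -/
theorem TT.conj_component_eq (h : TT D) [Finite G] {d : G} (hd : d ∈ D) (K : Subgroup G)
    (hK : IsComponent K) : K.map (MulAut.conj d).toMonoidHom = K := by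
  by_contra hne
  obtain ⟨K', hK'def⟩ : ∃ K' : Subgroup G, K' = K.map (MulAut.conj d).toMonoidHom := ⟨_, rfl⟩
  rw [← hK'def] at hne
  have hK' : IsComponent K' := by
    rw [hK'def]; exact isComponent_map_mulEquiv (MulAut.conj d) K hK
  have hcomm : ⁅K, K'⁆ = ⊥ := by
    rcases component_le_or_commutes K K' hK hK'.1 with hle | hc
    · exfalso; apply hne
      have hcard : Nat.card K' = Nat.card K := by
        rw [hK'def]
        exact Nat.card_congr ((MulAut.conj d).subgroupMap K).symm.toEquiv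
      exact (Subgroup.eq_of_le_of_card_ge hle (le_of_eq hcard)).symm
    · exact hc
  rw [Subgroup.commutator_eq_bot_iff_le_centralizer] at hcomm
  have hcm : ∀ k ∈ K, ∀ k' ∈ K', k' * k = k * k' := by
    intro k hk k' hk'
    exact (Subgroup.mem_centralizer_iff.mp (hcomm hk)) k' hk'
  have hmemK' : ∀ k ∈ K, d * k * d⁻¹ ∈ K' := by
    intro k hk
    rw [hK'def]
    exact ⟨k, hk, rfl⟩
  have dinv := h.inv hd
  have hpow : ∀ k : ↥K, (QuotientGroup.mk k : ↥K ⧸ Subgroup.center ↥K) ^ 2 = 1 ∨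
      (QuotientGroup.mk k : ↥K ⧸ Subgroup.center ↥K) ^ 3 = 1 := by
    intro k
    have hk' := hmemK' k.1 k.2
    have hc : Commute (d * (k : G) * d⁻¹) ((k : G)⁻¹) := hcm _ (K.inv_mem k.2) _ hk'
    have e0 : d * ((k : G) * d * (k : G)⁻¹) = (d * (k : G) * d⁻¹) * (k : G)⁻¹ := by
      rw [dinv]; group
    have aux : ∀ n : ℕ, (d * ((k : G) * d * (k : G)⁻¹)) ^ n = 1 →
        (QuotientGroup.mk k : ↥K ⧸ Subgroup.center ↥K) ^ n = 1 := by
      intro n hn
      rw [e0, hc.mul_pow, inv_pow] at hn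
      have h1 : (d * (k : G) * d⁻¹) ^ n = (k : G) ^ n := eq_of_mul_inv_eq_one hn
      have h2 : (k : G) ^ n ∈ K' := by rw [← h1]; exact K'.pow_mem hk' n
      rw [← QuotientGroup.mk_pow, QuotientGroup.eq_one_iff, Subgroup.mem_center_iff]
      intro g
      apply Subtype.ext
      simp only [Subgroup.coe_mul, Subgroup.coe_pow]
      exact (hcm g.1 g.2 _ h2).symm
    rcases h.prod d hd _ (h.conj k.1 d hd) with h2 | h3
    · left; exact aux 2 h2
    · right; exact aux 3 h3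
  haveI : IsSimpleGroup (↥K ⧸ Subgroup.center ↥K) := hK.2.2
  apply no_simple_two_three (X := ↥K ⧸ Subgroup.center ↥K)
  · intro q
    obtain ⟨k, rfl⟩ := QuotientGroup.mk_surjective q
    exact hpow k
  · by_contra hab
    push Not at hab
    apply isQuasisimple_not_isSolvable hK.2
    have hle : ∀ x y : ↥K, ⁅x, y⁆ ∈ Subgroup.center ↥K := by
      intro x y
      rw [← QuotientGroup.eq_one_iff, commutatorElement_def]
      simp only [QuotientGroup.mk_mul, QuotientGroup.mk_inv]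
      rw [hab (QuotientGroup.mk x) (QuotientGroup.mk y)]
      group
    have hperf : commutator ↥K = ⊤ := hK.2.1.commutator_eq_top
    have hcen : Subgroup.center ↥K = ⊤ := by
      rw [eq_top_iff, ← hperf, commutator_def, Subgroup.commutator_le]
      intro x _ y _
      exact hle x y
    have hc : ∀ a b : ↥K, a * b = b * a := by
      intro a b
      have hb : b ∈ Subgroup.center ↥K := by rw [hcen]; trivial
      exact Subgroup.mem_center_iff.mp hb a
    exact isSolvable_of_comm hc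

theorem TT.component_normal (h : TT D) [Finite G] (K : Subgroup G) (hK : IsComponent K) :
    K.Normal := by
  have hle : Subgroup.closure D ≤ Subgroup.normalizer (K : Set G) := by
    rw [Subgroup.closure_le]
    intro d hd
    have hmap := h.conj_component_eq hd K hK
    rw [SetLike.mem_coe, Subgroup.mem_normalizer_iff]
    intro k
    constructor
    · intro hk
      have h1 : d * k * d⁻¹ ∈ K.map (MulAut.conj d).toMonoidHom := ⟨k, hk, rfl⟩
      rw [hmap] at h1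
      exact h1
    · intro hk
      have h1 : d * k * d⁻¹ ∈ K.map (MulAut.conj d).toMonoidHom := by rw [hmap]; exact hk
      obtain ⟨k', hk', hkk⟩ := h1
      have h2 : d * k' * d⁻¹ = d * k * d⁻¹ := hkk
      have h3 : k' = k := by
        have h4 : k' = d⁻¹ * (d * k' * d⁻¹) * d := by group
        rw [h4, h2]; group
      rw [← h3]; exact hk'
  rw [h.gen, top_le_iff] at hle
  exact Subgroup.normalizer_eq_top_iff.mp hle

/-- `d` has an `E`-conjugate, different from `d`, commuting with `d` -/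
theorem TT.exists_comm_conj (hZ : ∀ (X : Type u) [Group X] [Finite X], ZProp X) (h : TT D)
    [Finite G] (E : Subgroup G) (hEn : E.Normal) (hEle : E ≤ layer G) (hperf : ⁅E, E⁆ = E)
    {d : G} (hd : d ∈ D) (hnc : ¬ ∀ x ∈ E, x * d = d * x) :
    ∃ x ∈ E, (d * (x * d * x⁻¹)) ^ 2 = 1 ∧ d * (x * d * x⁻¹) ≠ 1 := by
  by_contra hno
  push Not at hno
  apply hnc
  apply h.key_to_centralized hZ E hEn hEle hperf hd
  intro x hx
  have he := h.conj x d hd
  constructor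
  · rcases h.prod d hd _ he with h2 | h3
    · rw [hno x hx h2, one_pow]
    · exact h3
  · intro hc
    have hsq : (d * (x * d * x⁻¹)) ^ 2 = 1 := by
      rw [pow_two]
      calc d * (x * d * x⁻¹) * (d * (x * d * x⁻¹))
          = d * ((x * d * x⁻¹) * d) * (x * d * x⁻¹) := by group
        _ = d * (d * (x * d * x⁻¹)) * (x * d * x⁻¹) := by rw [hc]
        _ = (d * d) * ((x * d * x⁻¹) * (x * d * x⁻¹)) := by group
        _ = 1 := by rw [h.sq hd, h.sq he, one_mul]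
    have h5 := hno x hx hsq
    have h6 : x * d * x⁻¹ = d⁻¹ := eq_inv_of_mul_eq_one_right h5
    rw [h6, h.inv hd]

/-- `d` has an `E`-conjugate whose product with `d` has order three -/
theorem TT.exists_cube_conj (h : TT D) [Finite G] (E : Subgroup G) (hEn : E.Normal)
    (hEle : E ≤ layer G) (hperf : ⁅E, E⁆ = E) {d : G} (hd : d ∈ D)
    (hnc : ¬ ∀ x ∈ E, x * d = d * x) :
    ∃ x ∈ E, (d * (x * d * x⁻¹)) ^ 3 = 1 ∧ d * (x * d * x⁻¹) ≠ 1 := by
  by_contra hno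
  push Not at hno
  haveI : Fact (Nat.Prime 2) := ⟨Nat.prime_two⟩
  apply hnc
  have hdd := h.sq hd
  have key : ∀ x ∈ E, (d * (x * d * x⁻¹)) ^ 2 = 1 := by
    intro x hx
    rcases h.prod d hd _ (h.conj x d hd) with h2 | h3
    · exact h2
    · rw [hno x hx h3, one_pow]
  obtain ⟨T, hTdef⟩ : ∃ T : Set G, T = {y : G | ∃ x ∈ E, y = x * d * x⁻¹} := ⟨_, rfl⟩
  have hT2 : IsPGroup 2 (Subgroup.closure T) := by
    apply isPGroup_two_closure
    · intro s hs t ht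
      rw [hTdef] at hs ht
      obtain ⟨x₁, hx₁, rfl⟩ := hs
      obtain ⟨x₂, hx₂, rfl⟩ := ht
      have hx12 : x₁⁻¹ * x₂ ∈ E := E.mul_mem (E.inv_mem hx₁) hx₂
      have h1 := comm_of_sq' hdd (h.sq (h.conj (x₁⁻¹ * x₂) d hd)) (key _ hx12)
      calc x₁ * d * x₁⁻¹ * (x₂ * d * x₂⁻¹)
          = x₁ * (d * ((x₁⁻¹ * x₂) * d * (x₁⁻¹ * x₂)⁻¹)) * x₁⁻¹ := by group
        _ = x₁ * (((x₁⁻¹ * x₂) * d * (x₁⁻¹ * x₂)⁻¹) * d) * x₁⁻¹ := by rw [h1]
        _ = _ := by group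
    · intro s hs
      rw [hTdef] at hs
      obtain ⟨x, hx, rfl⟩ := hs
      exact h.sq (h.conj x d hd)
  have hQle : Subgroup.closure {y : G | ∃ x ∈ E, y = x * d * x⁻¹ * d⁻¹} ≤ Subgroup.closure T := by
    rw [Subgroup.closure_le]
    rintro y ⟨x, hx, rfl⟩
    have h1 : x * d * x⁻¹ ∈ Subgroup.closure T :=
      Subgroup.subset_closure (by rw [hTdef]; exact ⟨x, hx, rfl⟩)
    have h2 : d ∈ Subgroup.closure T :=
      Subgroup.subset_closure (by rw [hTdef]; exact ⟨1, E.one_mem, by group⟩)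
    exact Subgroup.mul_mem _ h1 (Subgroup.inv_mem _ h2)
  exact sub_centralized E hEn hEle hperf d 2 (hT2.to_le hQle)

end Cfsg.Agent.Lib.Helper25.ThreeTr
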