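import Cfsg.Agent.Lib.Helper25.ThreeTrG

/-!
Assembly of S5352 (helper25): with `O_2` and `O_3` central, the layer of a 3-transposition group is
quasisimple, `F*(G) = E(G) Z(G)`, and `D` has width one modulo the layer.
-/

set_option autoImplicit false
open Cfsg
open scoped Pointwise commutatorElement

namespace Cfsg.Agent.Lib.Helper25.ThreeTr

open Cfsg.Agent.Lib.Helper18 Cfsg.Agent.Lib.Helper20 Cfsg.Agent.Lib.Helper25.ZStar

universe u

variable {G : Type u} [Group G] {D : Set G}

/-- no member of `D` centralizes a component -/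
theorem TT.not_centralizes_component (h : TT D) [Finite G] {d : G} (hd : d ∈ D) (K : Subgroup G)
    (hK : IsComponent K) : ¬ ∀ x ∈ K, x * d = d * x := by
  intro hc
  have hKn := h.component_normal K hK
  have hle : K ≤ Subgroup.center G := by
    apply h.le_center
    intro d' hd' x hx
    obtain ⟨g, rfl⟩ := h.trans d hd d' hd'
    have hx' : g⁻¹ * x * g ∈ K := by
      have h1 := hKn.conj_mem x hx g⁻¹
      simpa using h1
    have h1 := hc _ hx'
    calc g * d * g⁻¹ * x = g * (d * (g⁻¹ * x * g)) * g⁻¹ := by group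
      _ = g * ((g⁻¹ * x * g) * d) * g⁻¹ := by rw [h1]
      _ = x * (g * d * g⁻¹) := by group
  apply isQuasisimple_not_isSolvable hK.2
  have hcm : ∀ a b : ↥K, a * b = b * a := by
    intro a b
    apply Subtype.ext
    have hb := hle b.2
    exact Subgroup.mem_center_iff.mp hb a.1
  exact isSolvable_of_comm hcm

theorem s5352_of_zprop (hZ : ∀ (X : Type u) [Group X] [Finite X], ZProp X) [Finite G]
    (hD : IsThreeTranspositionClass D) (hD2 : ∃ a ∈ D, ∃ b ∈ D, a ≠ b)
    (h2 : pCore 2 G ≤ Subgroup.center G) (h3 : pCore 3 G ≤ Subgroup.center G) :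
    ∃ L : Subgroup G, L.Normal ∧ IsQuasisimple L ∧
      generalizedFittingSubgroup G = L ⊔ Subgroup.center G ∧
      (L = ⊤ ∨ ∀ a ∈ D, ∀ b ∈ D, a * b * a⁻¹ * b⁻¹ ∈ L → a⁻¹ * b ∈ L) := by
  have h := tt_of_class hD
  obtain ⟨d, hd⟩ : ∃ d, d ∈ D := by
    obtain ⟨a, ha, -⟩ := hD2
    exact ⟨a, ha⟩
  have hE : layer G ≠ ⊥ := fun hE => h.some_noncentral h2 h3 hE hD2
  obtain ⟨K, hK⟩ : ∃ K : Subgroup G, IsComponent K := by
    by_contra hno
    push Not at hno
    apply hE
    unfold layer
    have h1 : {K : Subgroup G | IsComponent K} = ∅ := by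
      ext K
      simp [hno K]
    rw [h1, sSup_empty]
  have hKn : K.Normal := h.component_normal K hK
  have hKle : K ≤ layer G := le_sSup hK
  have hKperf : ⁅K, K⁆ = K := isComponent_perfect hK
  -- uniqueness of the component
  have huniq : ∀ K' : Subgroup G, IsComponent K' → K' = K := by
    intro K' hK'
    by_contra hne
    have hK'n := h.component_normal K' hK'
    have hcomm : ⁅K, K'⁆ = ⊥ := by
      rcases component_le_or_commutes K K' hK hK'.1 with hle | hc
      · rcases component_le_or_commutes K' K hK' hK.1 with hle' | hc'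
        · exact (hne (le_antisymm hle' hle)).elim
        · rw [Subgroup.commutator_comm]; exact hc'
      · exact hc
    rw [Subgroup.commutator_eq_bot_iff_le_centralizer] at hcomm
    have hcm : ∀ k ∈ K, ∀ k' ∈ K', k' * k = k * k' := fun k hk k' hk' =>
      (Subgroup.mem_centralizer_iff.mp (hcomm hk)) k' hk'
    have hK'le : K' ≤ layer G := le_sSup hK'
    obtain ⟨x₁, hx₁, h12, h11⟩ :=
      h.exists_comm_conj hZ K hKn hKle hKperf hd (h.not_centralizes_component hd K hK)
    obtain ⟨x₂, hx₂, h23, h21⟩ :=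
      h.exists_cube_conj K' hK'n hK'le (isComponent_perfect hK') hd
        (h.not_centralizes_component hd K' hK')
    have hc1K : d * (x₁ * d * x₁⁻¹) ∈ K := by
      haveI := hKn
      exact h.comm_mem K hd hx₁
    have hc2K : d * (x₂ * d * x₂⁻¹) ∈ K' := by
      haveI := hK'n
      exact h.comm_mem K' hd hx₂
    have hprod : d * ((x₁ * x₂) * d * (x₁ * x₂)⁻¹) =
        (d * (x₁ * d * x₁⁻¹)) * (d * (x₂ * d * x₂⁻¹)) := by
      have hcx : (d * (x₂ * d * x₂⁻¹)) * x₁⁻¹ = x₁⁻¹ * (d * (x₂ * d * x₂⁻¹)) :=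
        hcm _ (K.inv_mem hx₁) _ hc2K
      calc d * ((x₁ * x₂) * d * (x₁ * x₂)⁻¹)
          = d * x₁ * (d * d) * (x₂ * d * x₂⁻¹) * x₁⁻¹ := by rw [h.sq hd]; group
        _ = d * x₁ * d * ((d * (x₂ * d * x₂⁻¹)) * x₁⁻¹) := by group
        _ = d * x₁ * d * (x₁⁻¹ * (d * (x₂ * d * x₂⁻¹))) := by rw [hcx]
        _ = _ := by group
    have hcc : Commute (d * (x₁ * d * x₁⁻¹)) (d * (x₂ * d * x₂⁻¹)) := (hcm _ hc1K _ hc2K).symm
    rcases h.prod d hd _ (h.conj (x₁ * x₂) d hd) with e2 | e3
    · rw [hprod, hcc.mul_pow, h12, one_mul] at e2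
      apply h21
      calc d * (x₂ * d * x₂⁻¹)
          = (d * (x₂ * d * x₂⁻¹)) ^ 3 * ((d * (x₂ * d * x₂⁻¹)) ^ 2)⁻¹ := by group
        _ = 1 := by rw [h23, e2]; simp
    · rw [hprod, hcc.mul_pow, h23, mul_one] at e3
      apply h11
      calc d * (x₁ * d * x₁⁻¹)
          = (d * (x₁ * d * x₁⁻¹)) ^ 3 * ((d * (x₁ * d * x₁⁻¹)) ^ 2)⁻¹ := by group
        _ = 1 := by rw [e3, h12]; simp
  have hlayer : layer G = K := by
    unfold layer
    apply le_antisymm
    · apply sSup_le
      intro K' hK'
      rw [huniq K' hK']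
    · exact le_sSup hK
  have hF : fittingSubgroup G = Subgroup.center G := by
    apply le_antisymm
    · have hall : ∀ p : Nat.Primes, pCore (p : ℕ) G ≤ Subgroup.center G := by
        intro p
        by_cases hp2 : (p : ℕ) = 2
        · rw [hp2]; exact h2
        by_cases hp3 : (p : ℕ) = 3
        · rw [hp3]; exact h3
        have hp : (p : ℕ).Prime := p.2
        have hgt : 3 < (p : ℕ) := by
          have h5 := hp.two_le
          by_contra hle
          have h6 : (p : ℕ) = 2 ∨ (p : ℕ) = 3 := by omega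
          rcases h6 with h7 | h7
          · exact hp2 h7
          · exact hp3 h7
        exact h.pCore_central p hp hgt
      rw [fittingSubgroup_eq_iSup_pCore']
      exact iSup_le hall
    · exact le_fittingSubgroup' inferInstance (center_isNilpotent G)
  refine ⟨K, hKn, hK.2, ?_, ?_⟩
  · unfold generalizedFittingSubgroup
    rw [hlayer, hF]
  · right
    intro a ha b hb hab
    by_contra hnot
    have ainv := h.inv ha
    have binv := h.inv hb
    rw [ainv] at hnot
    rw [ainv, binv] at hab
    have hab2 : (a * b) ^ 2 ∈ K := by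
      have e : (a * b) ^ 2 = a * b * a * b := by rw [pow_two]; group
      rw [e]; exact hab
    -- a and b commute
    have hsq : (a * b) ^ 2 = 1 := by
      rcases h.prod a ha b hb with h5 | h5
      · exact h5
      · exfalso; apply hnot
        have e : a * b = (a * b) ^ 3 * ((a * b) ^ 2)⁻¹ := by group
        rw [e, h5, one_mul]
        exact K.inv_mem hab2
    -- a commutes with all K-conjugates of b
    have hcomm : ∀ x ∈ K, a * (x * b * x⁻¹) = (x * b * x⁻¹) * a := by
      intro x hx
      have hb' : x * b * x⁻¹ ∈ D := h.conj x b hb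
      obtain ⟨l, hl⟩ : ∃ l : G, l = b⁻¹ * x * b * x⁻¹ := ⟨_, rfl⟩
      have hlK : l ∈ K := by
        rw [hl]
        have h1 : b⁻¹ * x * b ∈ K := by
          have h2 := hKn.conj_mem x hx b⁻¹
          simpa using h2
        exact K.mul_mem h1 (K.inv_mem hx)
      have e1 : a * (x * b * x⁻¹) = (a * b) * l := by rw [hl]; group
      have hnot' : a * (x * b * x⁻¹) ∉ K := by
        intro h5
        apply hnot
        have e2 : a * b = (a * (x * b * x⁻¹)) * l⁻¹ := by rw [e1]; group
        rw [e2]; exact K.mul_mem h5 (K.inv_mem hlK)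
      have hsq' : (a * (x * b * x⁻¹)) ^ 2 ∈ K := by
        have e2 : (a * (x * b * x⁻¹)) ^ 2 = (a * b) ^ 2 * ((a * b)⁻¹ * l * (a * b)) * l := by
          rw [e1, pow_two, pow_two]; group
        rw [e2, hsq, one_mul]
        have h6 : (a * b)⁻¹ * l * (a * b) ∈ K := by
          have h7 := hKn.conj_mem l hlK (a * b)⁻¹
          simpa using h7
        exact K.mul_mem h6 hlK
      rcases h.prod a ha _ hb' with h5 | h5
      · exact comm_of_sq' (h.sq ha) (h.sq hb') h5
      · exfalso; apply hnot'
        have e : a * (x * b * x⁻¹) =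
            (a * (x * b * x⁻¹)) ^ 3 * ((a * (x * b * x⁻¹)) ^ 2)⁻¹ := by group
        rw [e, h5, one_mul]
        exact K.inv_mem hsq'
    have hab_comm : a * b = b * a := comm_of_sq' (h.sq ha) (h.sq hb) hsq
    -- a centralizes the commutators [x, b]
    have hcQ : ∀ x ∈ K, a * (x * b * x⁻¹ * b⁻¹) = (x * b * x⁻¹ * b⁻¹) * a := by
      intro x hx
      have h5 := hcomm x hx
      rw [binv]
      calc a * (x * b * x⁻¹ * b) = (a * (x * b * x⁻¹)) * b := by group
        _ = ((x * b * x⁻¹) * a) * b := by rw [h5]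
        _ = (x * b * x⁻¹) * (a * b) := by group
        _ = (x * b * x⁻¹) * (b * a) := by rw [hab_comm]
        _ = _ := by group
    obtain ⟨Q, hQdef⟩ : ∃ Q : Subgroup G,
      Q = Subgroup.closure {y : G | ∃ x ∈ K, y = x * b * x⁻¹ * b⁻¹} := ⟨_, rfl⟩
    have hQK : Q ≤ K := by
      rw [hQdef, Subgroup.closure_le]
      rintro y ⟨x, hx, rfl⟩
      have h5 : b * x⁻¹ * b⁻¹ ∈ K := hKn.conj_mem _ (K.inv_mem hx) b
      have e : x * b * x⁻¹ * b⁻¹ = x * (b * x⁻¹ * b⁻¹) := by group
      rw [e]; exact K.mul_mem hx h5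
    have hQa : Q ≤ Subgroup.centralizer ({a} : Set G) := by
      rw [hQdef, Subgroup.closure_le]
      rintro y ⟨x, hx, rfl⟩
      rw [SetLike.mem_coe, Subgroup.mem_centralizer_singleton_iff]
      exact (hcQ x hx).symm
    have hQn : (Q.subgroupOf K).Normal := by
      rw [Subgroup.normal_subgroupOf_iff_le_normalizer hQK]
      intro y hy
      rw [Subgroup.mem_normalizer_iff]
      intro q
      constructor
      · intro hq
        rw [hQdef] at hq ⊢
        exact comm_closure_conj K b y hy q hq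
      · intro hq
        rw [hQdef] at hq ⊢
        have h5 := comm_closure_conj K b y⁻¹ (K.inv_mem hy) _ hq
        have e1 : y⁻¹ * (y * q * y⁻¹) * y⁻¹⁻¹ = q := by group
        rwa [e1] at h5
    rcases quasisimple_normal_top_or_le_center hK.2 (Q.subgroupOf K) hQn with htop | hcen
    · -- K ≤ Q, so a centralizes K
      have hKQ : K ≤ Q := by
        intro k hk
        have h5 : (⟨k, hk⟩ : ↥K) ∈ Q.subgroupOf K := by rw [htop]; trivial
        exact Subgroup.mem_subgroupOf.mp h5
      apply h.not_centralizes_component ha K hK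
      intro x hx
      have h5 := hQa (hKQ hx)
      rw [Subgroup.mem_centralizer_singleton_iff] at h5
      exact h5
    · -- Q central in K, so b centralizes K
      apply h.not_centralizes_component hb K hK
      apply centralized_of_comm K hKn hKperf b
      intro y hy x hx
      have hxQ : x * b * x⁻¹ * b⁻¹ ∈ Q := by
        rw [hQdef]; exact Subgroup.subset_closure ⟨x, hx, rfl⟩
      have h5 : (⟨x * b * x⁻¹ * b⁻¹, hQK hxQ⟩ : ↥K) ∈ Q.subgroupOf K :=
        Subgroup.mem_subgroupOf.mpr hxQ
      have h6 := Subgroup.mem_center_iff.mp (hcen h5) ⟨y, hy⟩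
      have h7 := congrArg Subtype.val h6
      simpa using h7

end Cfsg.Agent.Lib.Helper25.ThreeTr
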