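import Cfsg.Agent.Lib.Helper25.ThreeTrPrimB

/-!
Maximality of the subgroup generated by the commuting members (S5354, part 3), helper25.

Let `M_d` be generated by the members of `D` commuting with `d`.  Take a `D`-subgroup `H₁` minimal
among those strictly between `M_d` and `G`.  If the centralizer of `d` normalizes `H₁`, the orbit
of `d` under `H₁` is a block, which is impossible.  Otherwise there is a second such subgroup `H₂`,
with `H₁ ∩ H₂ ∩ D` inside the centralizer of `d`; then the commuting members of the orbit of `d`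
under `H₁` have the same commuting partners as `d`, against primitivity.
-/

set_option autoImplicit false
open Cfsg

namespace Cfsg.Agent.Lib.Helper25.ThreeTrPrim

open Cfsg.Agent.Lib.Helper25.ThreeTr

universe u
variable {G : Type u} [Group G] {D : Set G}

/-- generated by the members commuting with `d` -/
def Md (D : Set G) (d : G) : Subgroup G := Subgroup.closure {y : G | y ∈ D ∧ Commute d y}

/-- the orbit of `d` under `H` -/
def Orb (H : Subgroup G) (d : G) : Set G := {x | ∃ k ∈ H, x = k * d * k⁻¹}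

theorem tt_of_group_prim (hD : IsThreeTranspositionGroup D) (hprim : IsPrimitiveUnderConj D) :
    TT D := by
  obtain ⟨⟨hord, hprod⟩, hconj, hgen⟩ := hD
  exact ⟨hord, hprod, hconj, hprim.1, hgen⟩

theorem class_of_group_prim (hD : IsThreeTranspositionGroup D) (hprim : IsPrimitiveUnderConj D) :
    IsThreeTranspositionClass D := by
  obtain ⟨hset, hconj, hgen⟩ := hD
  obtain ⟨htr, ⟨a, ha, -⟩, -⟩ := hprim
  refine ⟨hset, ⟨a, ha, ?_⟩, hgen⟩
  ext x
  show x ∈ D ↔ IsConj a x
  rw [isConj_iff]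
  constructor
  · intro hx; exact htr a ha x hx
  · rintro ⟨c, rfl⟩; exact hconj c a ha

theorem commute_conj_left {k a y : G} :
    Commute (k * a * k⁻¹) y ↔ Commute a (k⁻¹ * y * k) := by
  have e : k * (k⁻¹ * y * k) * k⁻¹ = y := by group
  rw [← Commute.conj_iff k (a := a) (b := k⁻¹ * y * k), e]

theorem conj_inv_mem (h : TT D) {k y : G} (hy : y ∈ D) : k⁻¹ * y * k ∈ D := by
  have := h.conj k⁻¹ y hy
  simpa using this

/-- a conjugation-invariant equivalence relation has trivial or universal classes -/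
theorem rel_block (h : TT D) (hprim : IsPrimitiveUnderConj D) (R : G → G → Prop)
    (hsymm : ∀ x y, R x y → R y x) (htrans : ∀ x y z, R x y → R y z → R x z)
    (hconj : ∀ g x y, R x y → R (g * x * g⁻¹) (g * y * g⁻¹)) {d : G} (hd : d ∈ D) :
    (∀ x ∈ D, R d x → x = d) ∨ (∀ x ∈ D, R d x) := by
  obtain ⟨-, -, hblk⟩ := hprim
  let B : Set G := {x | x ∈ D ∧ R d x}
  have hBD : B ⊆ D := fun x hx => hx.1
  have hblock : ∀ g : G, (fun x => g * x * g⁻¹) '' B = B ∨
      Disjoint ((fun x => g * x * g⁻¹) '' B) B := by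
    intro g
    by_cases hmeet : ∃ z, z ∈ (fun x => g * x * g⁻¹) '' B ∧ z ∈ B
    · left
      obtain ⟨z, ⟨x, ⟨hxD, hdx⟩, rfl⟩, ⟨-, hdz⟩⟩ := hmeet
      have hdz' : R d (g * x * g⁻¹) := hdz
      have h1 : R (g * d * g⁻¹) (g * x * g⁻¹) := hconj g d x hdx
      have h2 : R d (g * d * g⁻¹) := htrans _ _ _ hdz' (hsymm _ _ h1)
      ext y
      constructor
      · rintro ⟨w, ⟨hwD, hdw⟩, rfl⟩
        exact ⟨h.conj g w hwD, htrans _ _ _ h2 (hconj g d w hdw)⟩
      · rintro ⟨hyD, hdy⟩
        refine ⟨g⁻¹ * y * g, ⟨conj_inv_mem h hyD, ?_⟩, by group⟩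
        have h3 : R (g * d * g⁻¹) y := htrans _ _ _ (hsymm _ _ h2) hdy
        have h4 := hconj g⁻¹ _ _ h3
        have e : g⁻¹ * (g * d * g⁻¹) * g⁻¹⁻¹ = d := by group
        rw [e, inv_inv] at h4
        exact h4
    · right
      rw [Set.disjoint_left]
      intro z hz1 hz2
      exact hmeet ⟨z, hz1, hz2⟩
  rcases hblk B hBD hblock with hsub | hBeq
  · left
    intro x hx hdx
    have hrefl : R d d := htrans _ _ _ hdx (hsymm _ _ hdx)
    exact hsub ⟨hx, hdx⟩ ⟨hd, hrefl⟩
  · right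
    intro x hx
    have : x ∈ B := by rw [hBeq]; exact hx
    exact this.2

/-- same commuting members -/
def RV (D : Set G) (c d : G) : Prop := ∀ y ∈ D, Commute c y ↔ Commute d y

theorem vclass_trivial (h : TT D) (hprim : IsPrimitiveUnderConj D) {c d : G} (hc : c ∈ D)
    (hd : d ∈ D) (hcd : ∀ y ∈ D, Commute c y ↔ Commute d y) : c = d := by
  have hconj : ∀ g x y, RV D x y → RV D (g * x * g⁻¹) (g * y * g⁻¹) := by
    intro g x y hxy w hw
    rw [commute_conj_left, commute_conj_left]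
    exact hxy _ (conj_inv_mem h hw)
  rcases rel_block h hprim (RV D) (fun x y hxy w hw => (hxy w hw).symm)
    (fun x y z h1 h2 w hw => (h1 w hw).trans (h2 w hw)) hconj hd with h1 | h2
  · exact h1 c hc (fun y hy => (hcd y hy).symm)
  · exfalso
    have hall : ∀ x ∈ D, Commute d x := fun x hx => ((h2 x hx) x hx).mpr (Commute.refl x)
    obtain ⟨htr, ⟨a, ha, b, hb, hab⟩, -⟩ := hprim
    have hcent : ∀ g : G, Commute g d := by
      intro g
      have hg : g ∈ Subgroup.closure D := by rw [h.gen]; trivial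
      induction hg using Subgroup.closure_induction with
      | mem x hx => exact (hall x hx).symm
      | one => exact Commute.one_left d
      | mul x y _ _ ihx ihy => exact ihx.mul_left ihy
      | inv x _ ihx => exact ihx.inv_left
    have hone : ∀ x ∈ D, x = d := by
      intro x hx
      obtain ⟨g, hg⟩ := htr d hd x hx
      rw [← hg, (hcent g).eq, mul_inv_cancel_right]
    exact hab ((hone a ha).trans (hone b hb).symm)

theorem wclass_trivial (h : TT D) (hprim : IsPrimitiveUnderConj D)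
    (hw : ∃ a ∈ D, ∃ b ∈ D, a ≠ b ∧ Commute a b) {a d : G} (ha : a ∈ D) (hd : d ∈ D)
    (hs : ThreeTrW.SameW D d a) : a = d := by
  rcases rel_block h hprim (ThreeTrW.SameW D) (fun x y hxy => hxy.symm)
    (fun x y z h1 h2 => h1.trans h2) (fun g x y hxy => ThreeTrW.sameW_conj h.conj hxy g) hd
    with h1 | h2
  · exact h1 a ha hs
  · exfalso
    obtain ⟨x, hx, y, hy, hxy, hc⟩ := hw
    have hsame : ThreeTrW.SameW D x y := (h2 x hx).symm.trans (h2 y hy)
    exact hsame.not_commute hy hxy hc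

theorem orb_subset (h : TT D) {d : G} (hd : d ∈ D) (H : Subgroup G) : Orb H d ⊆ D := by
  rintro x ⟨k, -, rfl⟩
  exact h.conj k d hd

theorem self_mem_orb (H : Subgroup G) (d : G) : d ∈ Orb H d := ⟨1, H.one_mem, by group⟩

theorem orb_mem {d : G} (hd : d ∈ D) (H : Subgroup G) (hM : Md D d ≤ H) {x : G}
    (hx : x ∈ Orb H d) : x ∈ H := by
  obtain ⟨k, hk, rfl⟩ := hx
  have hdH : d ∈ H := hM (Subgroup.subset_closure ⟨hd, Commute.refl d⟩)
  exact H.mul_mem (H.mul_mem hk hdH) (H.inv_mem hk)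

/-- members commuting with a member of the orbit lie in `H` -/
theorem mem_of_commute_orb (h : TT D) {d : G} (H : Subgroup G) (hM : Md D d ≤ H) {e y : G}
    (he : e ∈ Orb H d) (hy : y ∈ D) (hc : Commute e y) : y ∈ H := by
  obtain ⟨k, hk, rfl⟩ := he
  have hc' : Commute d (k⁻¹ * y * k) := commute_conj_left.mp hc
  have hm : k⁻¹ * y * k ∈ H := hM (Subgroup.subset_closure ⟨conj_inv_mem h hy, hc'⟩)
  have e : k * (k⁻¹ * y * k) * k⁻¹ = y := by group
  rw [← e]
  exact H.mul_mem (H.mul_mem hk hm) (H.inv_mem hk)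

/-- members of `H` outside the orbit commute with the orbit -/
theorem commute_of_not_orb (h : TT D) {d : G} (hd : d ∈ D) (H : Subgroup G) (hM : Md D d ≤ H)
    {x e : G} (hx : x ∈ D) (hxH : x ∈ H) (hxO : x ∉ Orb H d) (he : e ∈ Orb H d) :
    Commute x e := by
  by_contra hn
  apply hxO
  have heD := orb_subset h hd H he
  have heH := orb_mem hd H hM he
  have hb := braid_conj h hx heD hn
  obtain ⟨k, hk, hek⟩ := he
  refine ⟨e * x * k, H.mul_mem (H.mul_mem heH hxH) hk, ?_⟩
  have e1 : e * x * k * d * (e * x * k)⁻¹ = e * (x * (k * d * k⁻¹) * x⁻¹) * e⁻¹ := by group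
  have hee : e * e = 1 := h.sq heD
  rw [e1, ← hek, hb, h.inv heD]
  calc x = (e * e) * x * (e * e) := by rw [hee, one_mul, mul_one]
    _ = e * (e * x * e) * e := by simp only [mul_assoc]

/-- the two-subgroup step -/
theorem two_min (h : TT D) {d : G} (hd : d ∈ D) (H₁ H₂ : Subgroup G) (hM1 : Md D d ≤ H₁)
    (hM2 : Md D d ≤ H₂) (hint : ∀ y ∈ D, y ∈ H₁ → y ∈ H₂ → Commute d y)
    (hy2 : ∃ y ∈ D, y ∈ H₂ ∧ ¬ Commute d y) :
    ∀ c ∈ Orb H₁ d, Commute c d → ∀ x ∈ Orb H₁ d, ¬ Commute x d → ¬ Commute x c := by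
  intro c hc hcd x hx hxd hxc
  have hcD := orb_subset h hd H₁ hc
  have hxD := orb_subset h hd H₁ hx
  have hcH2 : c ∈ H₂ := hM2 (Subgroup.subset_closure ⟨hcD, hcd.symm⟩)
  have hcO2 : c ∈ Orb H₂ d := by
    by_contra hno
    obtain ⟨y, hyD, hyH2, hny⟩ := hy2
    have hyO2 : y ∈ Orb H₂ d := by
      by_contra hno'
      exact hny (commute_of_not_orb h hd H₂ hM2 hyD hyH2 hno' (self_mem_orb H₂ d)).symm
    have hcy : Commute c y := commute_of_not_orb h hd H₂ hM2 hcD hcH2 hno hyO2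
    have hyH1 : y ∈ H₁ := mem_of_commute_orb h H₁ hM1 hc hyD hcy
    exact hny (hint y hyD hyH1 hyH2)
  have hxH2 : x ∈ H₂ := mem_of_commute_orb h H₂ hM2 hcO2 hxD hxc.symm
  have hxH1 : x ∈ H₁ := orb_mem hd H₁ hM1 hx
  exact hxd (hint x hxD hxH1 hxH2).symm

theorem cj_eq_of_subset [Finite G] (k : G) (S : Set G) (hs : cj k S ⊆ S) : cj k S = S := by
  apply Set.eq_of_subset_of_ncard_le hs _ (Set.toFinite S)
  unfold cj
  rw [Set.ncard_image_of_injective]
  intro a b hab
  have hab' : k * a * k⁻¹ = k * b * k⁻¹ := hab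
  exact mul_left_cancel (mul_right_cancel hab')

theorem cj_commuting (h : TT D) (k d : G) :
    {y : G | y ∈ D ∧ Commute (k * d * k⁻¹) y} = cj k {y : G | y ∈ D ∧ Commute d y} := by
  ext y
  rw [mem_cj]
  constructor
  · rintro ⟨hy, hc⟩
    exact ⟨conj_inv_mem h hy, commute_conj_left.mp hc⟩
  · rintro ⟨hy, hc⟩
    have e : k * (k⁻¹ * y * k) * k⁻¹ = y := by group
    refine ⟨?_, commute_conj_left.mpr hc⟩
    rw [← e]
    exact h.conj k _ hy

theorem cj_partners (h : TT D) (k d : G) :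
    {y : G | y ∈ D ∧ y ≠ k * d * k⁻¹ ∧ Commute (k * d * k⁻¹) y} =
      cj k {y : G | y ∈ D ∧ y ≠ d ∧ Commute d y} := by
  ext y
  rw [mem_cj]
  have e : k * (k⁻¹ * y * k) * k⁻¹ = y := by group
  constructor
  · rintro ⟨hy, hne, hc⟩
    refine ⟨conj_inv_mem h hy, ?_, commute_conj_left.mp hc⟩
    intro h'
    apply hne
    rw [← e, h']
  · rintro ⟨hy, hne, hc⟩
    refine ⟨?_, ?_, commute_conj_left.mpr hc⟩
    · rw [← e]
      exact h.conj k _ hy
    · intro h'
      apply hne
      rw [h']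
      group

/-- the contradiction from the separation property -/
theorem contra_of_sep [Finite G] (h : TT D) (hprim : IsPrimitiveUnderConj D)
    (hw : ∃ a ∈ D, ∃ b ∈ D, a ≠ b ∧ Commute a b) {d : G} (hd : d ∈ D) (H : Subgroup G)
    (hM : Md D d ≤ H) (ha : ∃ a ∈ D, a ∈ H ∧ ¬ Commute d a)
    (hP : ∀ c ∈ Orb H d, Commute c d → ∀ x ∈ Orb H d, ¬ Commute x d → ¬ Commute x c) :
    False := by
  have hdO : d ∈ Orb H d := self_mem_orb H d
  have hV : ∀ c ∈ Orb H d, Commute c d → c = d := by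
    intro c hc hcd
    have hcD := orb_subset h hd H hc
    have hsub : ∀ y ∈ D, Commute c y → Commute d y := by
      intro y hy hcy
      have hyH := mem_of_commute_orb h H hM hc hy hcy
      by_cases hyO : y ∈ Orb H d
      · by_contra hn
        exact hP c hc hcd y hyO (fun h' => hn h'.symm) hcy.symm
      · exact (commute_of_not_orb h hd H hM hy hyH hyO hdO).symm
    obtain ⟨k, hk, rfl⟩ := hc
    apply vclass_trivial h hprim hcD hd
    have hset : cj k {y : G | y ∈ D ∧ Commute d y} ⊆ {y : G | y ∈ D ∧ Commute d y} := by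
      rw [← cj_commuting h k d]
      rintro y ⟨hy, hc⟩
      exact ⟨hy, hsub y hy hc⟩
    have heq := cj_eq_of_subset k _ hset
    rw [← cj_commuting h k d] at heq
    intro y hy
    constructor
    · exact hsub y hy
    · intro hdy
      have hmem : y ∈ {y : G | y ∈ D ∧ Commute d y} := ⟨hy, hdy⟩
      rw [← heq] at hmem
      exact hmem.2
  obtain ⟨a, haD, haH, hna⟩ := ha
  have haO : a ∈ Orb H d := by
    by_contra hno
    exact hna (commute_of_not_orb h hd H hM haD haH hno hdO).symm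
  have hsub : {y : G | y ∈ D ∧ y ≠ d ∧ Commute d y} ⊆ {y : G | y ∈ D ∧ y ≠ a ∧ Commute a y} := by
    rintro y ⟨hyD, hyd, hdy⟩
    have hyH : y ∈ H := hM (Subgroup.subset_closure ⟨hyD, hdy⟩)
    have hyO : y ∉ Orb H d := fun hyO => hyd (hV y hyO hdy.symm)
    refine ⟨hyD, ?_, (commute_of_not_orb h hd H hM hyD hyH hyO haO).symm⟩
    intro e
    apply hyO
    rw [e]
    exact haO
  obtain ⟨k, hk, rfl⟩ := haO
  have hsame : ThreeTrW.SameW D d (k * d * k⁻¹) := by
    unfold ThreeTrW.SameW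
    apply Set.eq_of_subset_of_ncard_le hsub _ (Set.toFinite _)
    rw [cj_partners h k d]
    unfold cj
    rw [Set.ncard_image_of_injective]
    intro a b hab
    have hab' : k * a * k⁻¹ = k * b * k⁻¹ := hab
    exact mul_left_cancel (mul_right_cancel hab')
  have hkd := wclass_trivial h hprim hw haD hd hsame
  apply hna
  rw [hkd]

/-- the invariant case: the orbit is a block -/
theorem orb_block (h : TT D) (hprim : IsPrimitiveUnderConj D) {d : G} (hd : d ∈ D)
    (H : Subgroup G) (hinv : ∀ k : G, Commute k d → ∀ x ∈ H, k * x * k⁻¹ ∈ H) :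
    (Orb H d).Subsingleton ∨ Orb H d = D := by
  obtain ⟨-, -, hblk⟩ := hprim
  apply hblk (Orb H d) (orb_subset h hd H)
  intro g
  by_cases hmeet : ∃ z, z ∈ (fun x => g * x * g⁻¹) '' (Orb H d) ∧ z ∈ Orb H d
  · left
    obtain ⟨z, ⟨x, ⟨h1, hh1, rfl⟩, rfl⟩, ⟨h2, hh2, hz⟩⟩ := hmeet
    have hz' : g * (h1 * d * h1⁻¹) * g⁻¹ = h2 * d * h2⁻¹ := hz
    obtain ⟨k, hkdef⟩ : ∃ k, k = h2⁻¹ * g * h1 := ⟨_, rfl⟩
    have hkdk : k * d * k⁻¹ = d := by
      have e : k * d * k⁻¹ = h2⁻¹ * (g * (h1 * d * h1⁻¹) * g⁻¹) * h2 := by rw [hkdef]; group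
      rw [e, hz']; group
    have hkd : Commute k d := by
      have e : k * d = (k * d * k⁻¹) * k := by group
      show k * d = d * k
      rw [e, hkdk]
    have hkinv : Commute k⁻¹ d := hkd.inv_left
    have hkdk' : k⁻¹ * d * k⁻¹⁻¹ = d := by
      rw [hkinv.eq, mul_inv_cancel_right]
    have hg : g = h2 * k * h1⁻¹ := by rw [hkdef]; group
    have hfwd : ∀ w ∈ Orb H d, g * w * g⁻¹ ∈ Orb H d := by
      rintro w ⟨h0, hh0, rfl⟩
      refine ⟨h2 * (k * (h1⁻¹ * h0) * k⁻¹),
        H.mul_mem hh2 (hinv k hkd _ (H.mul_mem (H.inv_mem hh1) hh0)), ?_⟩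
      have e1 : g * (h0 * d * h0⁻¹) * g⁻¹ = (h2 * (k * (h1⁻¹ * h0) * k⁻¹)) * (k * d * k⁻¹) *
          (h2 * (k * (h1⁻¹ * h0) * k⁻¹))⁻¹ := by rw [hg]; group
      rw [e1, hkdk]
    have hbwd : ∀ w ∈ Orb H d, g⁻¹ * w * g ∈ Orb H d := by
      rintro w ⟨h0, hh0, rfl⟩
      refine ⟨h1 * (k⁻¹ * (h2⁻¹ * h0) * k⁻¹⁻¹),
        H.mul_mem hh1 (hinv k⁻¹ hkinv _ (H.mul_mem (H.inv_mem hh2) hh0)), ?_⟩
      have e1 : g⁻¹ * (h0 * d * h0⁻¹) * g = (h1 * (k⁻¹ * (h2⁻¹ * h0) * k⁻¹⁻¹)) *
          (k⁻¹ * d * k⁻¹⁻¹) * (h1 * (k⁻¹ * (h2⁻¹ * h0) * k⁻¹⁻¹))⁻¹ := by rw [hg]; group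
      rw [e1, hkdk']
    ext y
    constructor
    · rintro ⟨w, hw, rfl⟩
      exact hfwd w hw
    · intro hy
      exact ⟨g⁻¹ * y * g, hbwd y hy, by group⟩
  · right
    rw [Set.disjoint_left]
    intro z hz1 hz2
    exact hmeet ⟨z, hz1, hz2⟩


theorem md_commute {d : G} : ∀ y ∈ Md D d, Commute d y := by
  intro y hy
  unfold Md at hy
  induction hy using Subgroup.closure_induction with
  | mem x hx => exact hx.2
  | one => exact Commute.one_right d
  | mul x y _ _ ihx ihy => exact ihx.mul_right ihy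
  | inv x _ ihx => exact ihx.inv_right

theorem exists_noncommuting {d : G} (H : Subgroup G) (hDS : IsDSubgroup D H)
    (hM : Md D d ≤ H) (hne : H ≠ Md D d) : ∃ a ∈ D, a ∈ H ∧ ¬ Commute d a := by
  by_contra hno
  push Not at hno
  apply hne
  apply le_antisymm _ hM
  have h1 : Subgroup.closure {y : G | y ∈ D ∧ y ∈ H} ≤ Md D d :=
    (Subgroup.closure_le _).mpr (fun y hy => Subgroup.subset_closure ⟨hy.1, hno y hy.1 hy.2⟩)
  exact le_of_eq_of_le hDS.symm h1

theorem md_ne_top (hprim : IsPrimitiveUnderConj D) {d : G} (hd : d ∈ D) :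
    Md D d ≠ ⊤ := by
  intro htop
  obtain ⟨htr, ⟨a, ha, b, hb, hab⟩, -⟩ := hprim
  have hcent : ∀ g : G, Commute d g := fun g => md_commute g (by rw [htop]; trivial)
  have hone : ∀ x ∈ D, x = d := by
    intro x hx
    obtain ⟨g, hg⟩ := htr d hd x hx
    rw [← hg, ← (hcent g).eq, mul_inv_cancel_right]
  exact hab ((hone a ha).trans (hone b hb).symm)

theorem maximal_Md [Finite G] (h : TT D) (hprim : IsPrimitiveUnderConj D)
    (hw : ∃ a ∈ D, ∃ b ∈ D, a ≠ b ∧ Commute a b) {d : G} (hd : d ∈ D)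
    (H : Subgroup G) (hDS : IsDSubgroup D H) (hM : Md D d ≤ H) : H = Md D d ∨ H = ⊤ := by
  by_contra hcon
  push Not at hcon
  obtain ⟨hne1, hne2⟩ := hcon
  let S : Set (Subgroup G) := {K | IsDSubgroup D K ∧ Md D d ≤ K ∧ K ≠ Md D d ∧ K ≠ ⊤}
  have hSne : S.Nonempty := ⟨H, hDS, hM, hne1, hne2⟩
  obtain ⟨H₁, hH₁, hmin⟩ :=
    Set.exists_min_image S (fun K => Nat.card K) (Set.toFinite S) hSne
  obtain ⟨hDS1, hM1, hne11, hne12⟩ := hH₁
  have ha1 := exists_noncommuting H₁ hDS1 hM1 hne11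
  by_cases hinv : ∀ k : G, Commute k d → ∀ x ∈ H₁, k * x * k⁻¹ ∈ H₁
  · rcases orb_block h hprim hd H₁ hinv with hsub | hall
    · obtain ⟨a, haD, haH, hna⟩ := ha1
      have haO : a ∈ Orb H₁ d := by
        by_contra hno
        exact hna (commute_of_not_orb h hd H₁ hM1 haD haH hno (self_mem_orb H₁ d)).symm
      have had : a = d := hsub haO (self_mem_orb H₁ d)
      apply hna
      rw [had]
    · apply hne12
      rw [eq_top_iff, ← h.gen, Subgroup.closure_le]
      intro y hy
      rw [← hall] at hy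
      exact orb_mem hd H₁ hM1 hy
  · push Not at hinv
    obtain ⟨k, hkd, x, hxH, hxn⟩ := hinv
    have hkdk : k * d * k⁻¹ = d := by rw [hkd.eq, mul_inv_cancel_right]
    obtain ⟨H₂, hH₂def⟩ : ∃ H₂ : Subgroup G, H₂ = H₁.map (MulAut.conj k).toMonoidHom :=
      ⟨_, rfl⟩
    have hmem2 : ∀ y, y ∈ H₂ ↔ k⁻¹ * y * k ∈ H₁ := by
      intro y
      rw [hH₂def]
      constructor
      · rintro ⟨z, hz, rfl⟩
        have e : k⁻¹ * ((MulAut.conj k).toMonoidHom z) * k = z := by
          simp only [MulEquiv.coe_toMonoidHom, MulAut.conj_apply]; group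
        rw [e]; exact hz
      · intro hy
        refine ⟨k⁻¹ * y * k, hy, ?_⟩
        simp only [MulEquiv.coe_toMonoidHom, MulAut.conj_apply]; group
    have hcard2 : Nat.card H₂ = Nat.card H₁ := by
      rw [hH₂def]
      exact Subgroup.card_map_of_injective (f := (MulAut.conj k).toMonoidHom)
        (MulEquiv.injective (MulAut.conj k))
    have hM2 : Md D d ≤ H₂ := by
      unfold Md
      rw [Subgroup.closure_le]
      rintro y ⟨hyD, hdy⟩
      show y ∈ H₂
      rw [hmem2]
      apply hM1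
      refine Subgroup.subset_closure ⟨conj_inv_mem h hyD, commute_conj_left.mp ?_⟩
      rw [hkdk]; exact hdy
    have hDS2 : IsDSubgroup D H₂ := by
      unfold IsDSubgroup
      apply le_antisymm
      · rw [Subgroup.closure_le]
        intro y hy
        exact hy.2
      · intro y hy
        rw [hmem2] at hy
        have key : ∀ z ∈ Subgroup.closure {z : G | z ∈ D ∧ z ∈ H₁},
            k * z * k⁻¹ ∈ Subgroup.closure {y : G | y ∈ D ∧ y ∈ H₂} := by
          intro z hz
          induction hz using Subgroup.closure_induction with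
          | mem w hw =>
            apply Subgroup.subset_closure
            refine ⟨h.conj k w hw.1, ?_⟩
            rw [hmem2]
            have e : k⁻¹ * (k * w * k⁻¹) * k = w := by group
            rw [e]; exact hw.2
          | one =>
            have e : k * (1 : G) * k⁻¹ = 1 := by group
            rw [e]; exact Subgroup.one_mem _
          | mul a b _ _ iha ihb =>
            have e : k * (a * b) * k⁻¹ = (k * a * k⁻¹) * (k * b * k⁻¹) := by group
            rw [e]; exact Subgroup.mul_mem _ iha ihb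
          | inv a _ iha =>
            have e : k * a⁻¹ * k⁻¹ = (k * a * k⁻¹)⁻¹ := by group
            rw [e]; exact Subgroup.inv_mem _ iha
        have hy' : k⁻¹ * y * k ∈ Subgroup.closure {z : G | z ∈ D ∧ z ∈ H₁} := by
          rw [hDS1]; exact hy
        have e : k * (k⁻¹ * y * k) * k⁻¹ = y := by group
        rw [← e]
        exact key _ hy'
    have hne22 : H₂ ≠ ⊤ := by
      intro htop
      apply hne12
      rw [eq_top_iff]
      intro y _
      have h1 : k * y * k⁻¹ ∈ H₂ := by rw [htop]; trivial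
      rw [hmem2] at h1
      have e : k⁻¹ * (k * y * k⁻¹) * k = y := by group
      rw [e] at h1
      exact h1
    have hne21 : H₂ ≠ Md D d := by
      intro heq
      apply hne11
      symm
      apply Subgroup.eq_of_le_of_card_ge hM1
      rw [← hcard2, heq]
    have hne12' : H₂ ≠ H₁ := by
      intro heq
      apply hxn
      rw [← heq, hmem2]
      have e : k⁻¹ * (k * x * k⁻¹) * k = x := by group
      rw [e]; exact hxH
    have hH₂S : H₂ ∈ S := ⟨hDS2, hM2, hne21, hne22⟩
    obtain ⟨H₃, hH₃def⟩ : ∃ H₃ : Subgroup G,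
        H₃ = Subgroup.closure {y : G | y ∈ D ∧ y ∈ H₁ ∧ y ∈ H₂} := ⟨_, rfl⟩
    have h31 : H₃ ≤ H₁ := by
      rw [hH₃def, Subgroup.closure_le]
      intro y hy
      exact hy.2.1
    have h32 : H₃ ≤ H₂ := by
      rw [hH₃def, Subgroup.closure_le]
      intro y hy
      exact hy.2.2
    have hM3 : Md D d ≤ H₃ := by
      rw [hH₃def]
      unfold Md
      apply Subgroup.closure_mono
      rintro y ⟨hyD, hdy⟩
      have hyM : y ∈ Md D d := Subgroup.subset_closure ⟨hyD, hdy⟩
      exact ⟨hyD, hM1 hyM, hM2 hyM⟩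
    have hDS3 : IsDSubgroup D H₃ := by
      unfold IsDSubgroup
      apply le_antisymm
      · rw [Subgroup.closure_le]
        intro y hy
        exact hy.2
      · conv_lhs => rw [hH₃def]
        apply Subgroup.closure_mono
        rintro y ⟨hyD, hy1, hy2⟩
        refine ⟨hyD, ?_⟩
        rw [hH₃def]
        exact Subgroup.subset_closure ⟨hyD, hy1, hy2⟩
    have hH₃M : H₃ = Md D d := by
      by_contra hne31
      have hne32 : H₃ ≠ ⊤ := by
        intro htop
        apply hne12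
        rw [eq_top_iff, ← htop]
        exact h31
      have hH₃S : H₃ ∈ S := ⟨hDS3, hM3, hne31, hne32⟩
      have hc1 : Nat.card H₁ ≤ Nat.card H₃ := hmin H₃ hH₃S
      have e1 : H₃ = H₁ := Subgroup.eq_of_le_of_card_ge h31 hc1
      have e2 : H₃ = H₂ := Subgroup.eq_of_le_of_card_ge h32 (by rw [hcard2]; exact hc1)
      exact hne12' (e2.symm.trans e1)
    have hint : ∀ y ∈ D, y ∈ H₁ → y ∈ H₂ → Commute d y := by
      intro y hyD hy1 hy2
      apply md_commute (D := D)
      rw [← hH₃M, hH₃def]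
      exact Subgroup.subset_closure ⟨hyD, hy1, hy2⟩
    have hy2 := exists_noncommuting H₂ hDS2 hM2 hne21
    have hP := two_min h hd H₁ H₂ hM1 hM2 hint hy2
    exact contra_of_sep h hprim hw hd H₁ hM1 ha1 hP

theorem s5354_main [Finite G] (hD : IsThreeTranspositionGroup D)
    (hprim : IsPrimitiveUnderConj D) (hw : ∃ a ∈ D, ∃ b ∈ D, a ≠ b ∧ Commute a b) :
    (∃ L : Subgroup G, L.Normal ∧ IsQuasisimple L ∧ L.index ≤ 2 ∧
        generalizedFittingSubgroup G = L ⊔ Subgroup.center G) ∧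
      (commutingGraph D).Connected ∧
      ∀ d ∈ D, Subgroup.closure {y : G | y ∈ D ∧ Commute d y} ≠ ⊤ ∧
        ∀ H : Subgroup G, IsDSubgroup D H →
          Subgroup.closure {y : G | y ∈ D ∧ Commute d y} ≤ H →
          H = Subgroup.closure {y : G | y ∈ D ∧ Commute d y} ∨ H = ⊤ := by
  have h := tt_of_group_prim hD hprim
  have hcl := class_of_group_prim hD hprim
  have h2 := pCore_two_central h hprim
  have h3 := pCore_three_central h hprim hw
  have hD2 : ∃ a ∈ D, ∃ b ∈ D, a ≠ b := hprim.2.1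
  refine ⟨?_, connected_of_primitive h hprim hw, ?_⟩
  · obtain ⟨L, hLn, hLq, hF, -⟩ := s5352_of_zprop (fun X _ _ => zprop X) hcl hD2 h2 h3
    haveI := hLn
    exact ⟨L, hLn, hLq, index_le_of_primitive h hprim L hLq, hF⟩
  · intro d hd
    exact ⟨md_ne_top hprim hd, fun H hDS hM => maximal_Md h hprim hw hd H hDS hM⟩

end Cfsg.Agent.Lib.Helper25.ThreeTrPrim
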