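import Mathlib
import Cfsg.Agent.S0201
import Cfsg.Agent.S5349
import Cfsg.Agent.Lib.Helper25.ZStarD
import Cfsg.Agent.Lib.Helper25.ThreeTrH
import Cfsg.Agent.Lib.Helper20.Quasisimple
import Cfsg.Agent.Lib.Helper20.Fitting
import Cfsg.Agent.Lib.Helper20.PComponents

/-!
Primitivity of 3-transposition groups with a quasisimple normal subgroup of index at most two
(helper25).
-/

set_option autoImplicit false
open Cfsg
open scoped commutatorElement

namespace Cfsg.Agent.Lib.Helper25.ThreeTrPrim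

open Cfsg.Agent.Lib.Helper20 Cfsg.Agent.Lib.Helper25.ThreeTr Cfsg.Agent.Lib.Helper25.ZStar

universe u

section conj
variable {G : Type u} [Group G]

/-- conjugate of a set -/
def cj (g : G) (S : Set G) : Set G := (fun y => g * y * g⁻¹) '' S

theorem mem_cj {g y : G} {S : Set G} : y ∈ cj g S ↔ g⁻¹ * y * g ∈ S := by
  constructor
  · rintro ⟨z, hz, rfl⟩
    have : g⁻¹ * (g * z * g⁻¹) * g = z := by group
    rw [this]; exact hz
  · intro h
    exact ⟨g⁻¹ * y * g, h, by group⟩

theorem cj_mul (g h : G) (S : Set G) : cj (g * h) S = cj g (cj h S) := by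
  ext y
  rw [mem_cj, mem_cj, mem_cj]
  have : (g * h)⁻¹ * y * (g * h) = h⁻¹ * (g⁻¹ * y * g) * h := by group
  rw [this]

theorem cj_one (S : Set G) : cj 1 S = S := by
  ext y; rw [mem_cj]; simp

theorem cj_inv_cj (g : G) (S : Set G) : cj g⁻¹ (cj g S) = S := by
  rw [← cj_mul, inv_mul_cancel, cj_one]

theorem conj_mem_cj {g y : G} {S : Set G} (hy : y ∈ S) : g * y * g⁻¹ ∈ cj g S := ⟨y, hy, rfl⟩

/-- a block -/
structure Blk (B : Set G) : Prop where
  blk : ∀ g : G, cj g B = B ∨ Disjoint (cj g B) B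

theorem Blk.fix {B : Set G} (hB : Blk B) {g y : G} (hy : y ∈ B) (hgy : g * y * g⁻¹ ∈ B) :
    cj g B = B := by
  rcases hB.blk g with h | h
  · exact h
  · exact ((Set.disjoint_left.mp h) (conj_mem_cj hy) hgy).elim

theorem Blk.eq_of_meet {B : Set G} (hB : Blk B) {g₁ g₂ z : G} (h1 : z ∈ cj g₁ B)
    (h2 : z ∈ cj g₂ B) : cj g₁ B = cj g₂ B := by
  rw [mem_cj] at h1 h2
  have e : (g₁⁻¹ * g₂) * (g₂⁻¹ * z * g₂) * (g₁⁻¹ * g₂)⁻¹ = g₁⁻¹ * z * g₁ := by group
  have h3 : cj (g₁⁻¹ * g₂) B = B := hB.fix h2 (by rw [e]; exact h1)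
  calc cj g₁ B = cj g₁ (cj (g₁⁻¹ * g₂) B) := by rw [h3]
    _ = cj (g₁ * (g₁⁻¹ * g₂)) B := (cj_mul _ _ _).symm
    _ = cj g₂ B := by rw [mul_inv_cancel_left]

theorem Blk.fix_of_commute {B : Set G} (hB : Blk B) {c y h' : G} (hy : y ∈ cj h' B)
    (hc : Commute c y) : cj c (cj h' B) = cj h' B := by
  rw [← cj_mul]
  apply hB.eq_of_meet (z := y)
  · rw [cj_mul]
    have : c * y * c⁻¹ = y := by rw [hc.eq, mul_inv_cancel_right]
    rw [← this]; exact conj_mem_cj hy
  · exact hy

/-- the kernel of the action on the conjugates of `B` -/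
def blockKer (B : Set G) : Subgroup G where
  carrier := {g | ∀ h' : G, cj g (cj h' B) = cj h' B}
  mul_mem' := by
    intro x y hx hy h'
    rw [cj_mul, hy h', hx h']
  one_mem' := fun h' => cj_one _
  inv_mem' := by
    intro x hx h'
    have := congrArg (cj x⁻¹) (hx h')
    rw [cj_inv_cj] at this
    exact this.symm

theorem mem_blockKer {B : Set G} {g : G} :
    g ∈ blockKer B ↔ ∀ h' : G, cj g (cj h' B) = cj h' B := Iff.rfl

instance blockKer_normal (B : Set G) : (blockKer B).Normal := by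
  constructor
  intro n hn g
  rw [mem_blockKer] at hn ⊢
  intro h'
  rw [cj_mul, cj_mul, ← cj_mul g⁻¹ h', hn (g⁻¹ * h'), ← cj_mul, mul_inv_cancel_left]

theorem commute_mul_center_iff {a e z : G} (hz : z ∈ Subgroup.center G) :
    Commute (a * z) e ↔ Commute a e := by
  have hze : Commute z e := (Subgroup.mem_center_iff.mp hz e).symm
  constructor
  · intro h
    have h1 : Commute ((a * z) * z⁻¹) e := h.mul_left hze.inv_left
    rwa [mul_inv_cancel_right] at h1
  · intro h
    exact h.mul_left hze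

end conj

section main
variable {G : Type u} [Group G] {D : Set G}

theorem cube_of_nc (h : TT D) {d e : G} (hd : d ∈ D) (he : e ∈ D)
    (hn : ¬ Commute d e) : (d * e) ^ 3 = 1 := by
  rcases h.prod d hd e he with h2 | h3
  · exfalso
    apply hn
    rw [pow_two] at h2
    have h1 : d * e = (d * e)⁻¹ := eq_inv_of_mul_eq_one_left h2
    rw [mul_inv_rev, h.inv hd, h.inv he] at h1
    exact h1
  · exact h3

/-- `d e d⁻¹ = e d e⁻¹` for noncommuting members -/
theorem braid_conj (h : TT D) {d e : G} (hd : d ∈ D) (he : e ∈ D) (hn : ¬ Commute d e) :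
    d * e * d⁻¹ = e * d * e⁻¹ := by
  have h3 := cube_of_nc h hd he hn
  rw [h.inv hd, h.inv he]
  have hh : d * e * d * (e * d * e) = 1 := by
    rw [pow_succ, pow_two] at h3
    simp only [mul_assoc] at h3 ⊢
    exact h3
  have h1 : d * e * d = (e * d * e)⁻¹ := eq_inv_of_mul_eq_one_left hh
  rw [h1, mul_inv_rev, mul_inv_rev, h.inv hd, h.inv he, mul_assoc]

variable {B : Set G}

theorem lemX (h : TT D) (hBD : B ⊆ D) (hB : Blk B) {a b c h' : G} (ha : a ∈ B) (hb : b ∈ B)
    (hc : c ∈ cj h' B) (hac : Commute a c) :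
    cj a (cj h' B) = cj h' B ∧ cj b (cj h' B) = cj h' B := by
  have hcD : c ∈ D := by
    obtain ⟨y, hy, rfl⟩ := hc
    exact h.conj h' y (hBD hy)
  refine ⟨hB.fix_of_commute hc hac, ?_⟩
  by_cases hbc : Commute b c
  · exact hB.fix_of_commute hc hbc
  · have hbr : c * b * c⁻¹ = b * c * b⁻¹ :=
      braid_conj h hcD (hBD hb) (fun hh => hbc hh.symm)
    have hcB : cj c B = B := by
      apply hB.fix ha
      rw [← hac.eq, mul_inv_cancel_right]
      exact ha
    have h1 : c * b * c⁻¹ ∈ B := by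
      have : c * b * c⁻¹ ∈ cj c B := conj_mem_cj hb
      rwa [hcB] at this
    have h2 : b * c * b⁻¹ ∈ cj b (cj h' B) := conj_mem_cj hc
    rw [← hbr] at h2
    have h4 : cj (b * h') B = cj 1 B :=
      hB.eq_of_meet (z := c * b * c⁻¹) (by rw [cj_mul]; exact h2) (by rw [cj_one]; exact h1)
    rw [cj_one, cj_mul] at h4
    have hbB : cj b B = B := by
      apply hB.fix hb
      rw [mul_inv_cancel_right]
      exact hb
    have h5 : cj h' B = B := by
      have e1 := congrArg (cj b⁻¹) h4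
      rw [cj_inv_cj] at e1
      have e2 := congrArg (cj b⁻¹) hbB
      rw [cj_inv_cj] at e2
      rw [e1, ← e2]
    rw [h5]
    exact hbB

theorem cj_eq (h : TT D) (hBD : B ⊆ D) (hB : Blk B) {a b : G} (ha : a ∈ B) (hb : b ∈ B)
    (h' : G) : cj a (cj h' B) = cj b (cj h' B) := by
  by_cases hex : ∃ c ∈ cj h' B, Commute a c ∨ Commute b c
  · obtain ⟨c, hc, hcc | hcc⟩ := hex
    · obtain ⟨h1, h2⟩ := lemX h hBD hB ha hb hc hcc
      rw [h1, h2]
    · obtain ⟨h1, h2⟩ := lemX h hBD hB hb ha hc hcc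
      rw [h1, h2]
  · push Not at hex
    have hc : h' * a * h'⁻¹ ∈ cj h' B := conj_mem_cj ha
    obtain ⟨hnac, hnbc⟩ := hex _ hc
    have hcD : h' * a * h'⁻¹ ∈ D := h.conj h' a (hBD ha)
    have e1 := braid_conj h (hBD ha) hcD hnac
    have e2 := braid_conj h (hBD hb) hcD hnbc
    have h1 : cj (a * h') B = cj (h' * a * h'⁻¹) B :=
      hB.eq_of_meet (z := a * (h' * a * h'⁻¹) * a⁻¹) (by rw [cj_mul]; exact conj_mem_cj hc)
        (by rw [e1]; exact conj_mem_cj ha)
    have h2 : cj (b * h') B = cj (h' * a * h'⁻¹) B :=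
      hB.eq_of_meet (z := b * (h' * a * h'⁻¹) * b⁻¹) (by rw [cj_mul]; exact conj_mem_cj hc)
        (by rw [e2]; exact conj_mem_cj hb)
    rw [← cj_mul, ← cj_mul, h1, h2]

theorem mul_mem_blockKer (h : TT D) (hBD : B ⊆ D) (hB : Blk B) {a b : G} (ha : a ∈ B)
    (hb : b ∈ B) : a * b ∈ blockKer B := by
  rw [mem_blockKer]
  intro h'
  rw [cj_mul a b, ← cj_mul b h', cj_eq h hBD hB ha hb (b * h'), ← cj_mul, ← mul_assoc,
    h.sq (hBD hb), one_mul]

theorem zprop (X : Type u) [Group X] [Finite X] : ZProp X :=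
  zstar_of_bsStmt (fun H _ _ S n e hO => Cfsg.Agent.S0201.result S n e hO) X

theorem not_mem_of_ne_top (h : TT D) (L : Subgroup G) [hLn : L.Normal] (hL : L ≠ ⊤) {d : G}
    (hd : d ∈ D) : d ∉ L := by
  intro hdL
  apply hL
  rw [eq_top_iff, ← h.gen, Subgroup.closure_le]
  intro e he
  obtain ⟨g, rfl⟩ := h.trans d hd e he
  exact hLn.conj_mem d hdL g

/-- contradiction from a product of two different members of `D` centralizing `L` -/
theorem central_contra [Finite G] (hD : IsThreeTranspositionClass D)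
    (hD2 : ∃ a ∈ D, ∃ b ∈ D, a ≠ b) (h2 : pCore 2 G ≤ Subgroup.center G)
    (h3 : pCore 3 G ≤ Subgroup.center G) (L : Subgroup G) {a b : G} (haD : a ∈ D) (hbD : b ∈ D)
    (hab : a ≠ b) (hcoset : ∀ g : G, g ∈ L ∨ g * a ∈ L)
    (hxc : ∀ l ∈ L, l * (a * b) = (a * b) * l) : False := by
  have h := tt_of_class hD
  haveI : Fact (Nat.Prime 3) := ⟨Nat.prime_three⟩
  have ha2 := h.sq haD
  have hb2 := h.sq hbD
  have hai := h.inv haD
  have hbi := h.inv hbD
  -- a inverts x
  have hinv : a * (a * b) * a⁻¹ = (a * b)⁻¹ := by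
    rw [mul_inv_rev, hai, hbi, ← mul_assoc, ha2, one_mul]
  have hxci : ∀ l ∈ L, l * (a * b)⁻¹ = (a * b)⁻¹ * l := by
    intro l hl
    have := hxc l hl
    have e : l * (a * b)⁻¹ = (a * b)⁻¹ * ((a * b) * l) * (a * b)⁻¹ := by group
    rw [e, ← this]
    group
  -- x is central
  have hcent : a * b ∈ Subgroup.center G := by
    by_cases hc : Commute a b
    · have hax : a * (a * b) = (a * b) * a := by
        rw [hc.eq, ← mul_assoc, hc.eq]
      rw [Subgroup.mem_center_iff]
      intro g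
      rcases hcoset g with hg | hg
      · exact hxc g hg
      · have hgl : g = (g * a) * a := by rw [mul_assoc, ha2, mul_one]
        obtain ⟨l, hl, rfl⟩ : ∃ l ∈ L, g = l * a := ⟨g * a, hg, hgl⟩
        rw [mul_assoc, hax, ← mul_assoc, hxc _ hl, mul_assoc]
    · have hx3 : (a * b) ^ (3 ^ 1) = 1 := by
        rw [pow_one]; exact cube_of_nc h haD hbD hc
      have hXp : IsPGroup 3 (Subgroup.zpowers (a * b)) := by
        rintro ⟨y, hy⟩
        obtain ⟨i, rfl⟩ := Subgroup.mem_zpowers_iff.mp hy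
        refine ⟨1, Subtype.ext ?_⟩
        show ((a * b) ^ i) ^ (3 ^ 1) = 1
        rw [← zpow_natCast, ← zpow_mul, mul_comm, zpow_mul, zpow_natCast, hx3, one_zpow]
      have hconjx : ∀ g : G, g * (a * b) * g⁻¹ ∈ Subgroup.zpowers (a * b) := by
        intro g
        rcases hcoset g with hg | hg
        · rw [hxc g hg, mul_inv_cancel_right]
          exact Subgroup.mem_zpowers _
        · have hgl : g = (g * a) * a := by rw [mul_assoc, ha2, mul_one]
          obtain ⟨l, hl, rfl⟩ : ∃ l ∈ L, g = l * a := ⟨g * a, hg, hgl⟩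
          have e : l * a * (a * b) * (l * a)⁻¹ = l * (a * (a * b) * a⁻¹) * l⁻¹ := by group
          rw [e, hinv, hxci _ hl, mul_inv_cancel_right]
          exact Subgroup.inv_mem _ (Subgroup.mem_zpowers _)
      have hXn : (Subgroup.zpowers (a * b)).Normal := by
        constructor
        intro n hn g
        obtain ⟨i, rfl⟩ := Subgroup.mem_zpowers_iff.mp hn
        have e : g * (a * b) ^ i * g⁻¹ = (g * (a * b) * g⁻¹) ^ i := by
          rw [conj_zpow]
        rw [e]
        exact Subgroup.zpow_mem _ (hconjx g) i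
      exact h3 (le_pCore' hXn hXp (Subgroup.mem_zpowers _))
  -- hence a and b commute
  have hcomm : Commute a b := by
    have h1 := Subgroup.mem_center_iff.mp hcent a
    -- a * (a * b) = (a * b) * a
    have h4 : b = a * b * a := by
      rw [← h1, ← mul_assoc, ha2, one_mul]
    show a * b = b * a
    conv_rhs => rw [h4]
    rw [mul_assoc, mul_assoc, ha2, mul_one]
  -- b is in the V-class of a
  have hset := (Cfsg.Agent.S5349.result hD hD2 haD).2
  have hbx : b = a * (a * b) := by rw [← mul_assoc, ha2, one_mul]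
  have hbV : b ∈ {v : G | v ∈ D ∧ ∀ e ∈ D, Commute v e ↔ Commute a e} := by
    refine ⟨hbD, ?_⟩
    intro e _
    rw [hbx]
    exact commute_mul_center_iff hcent
  rw [hset] at hbV
  obtain ⟨g, hg, hbg⟩ := hbV
  apply hab
  rw [hbg, ← Subgroup.mem_center_iff.mp (h2 hg) a, mul_inv_cancel_right]

theorem primitive_of_index [Finite G] (hD : IsThreeTranspositionClass D)
    (hD2 : ∃ a ∈ D, ∃ b ∈ D, a ≠ b) (h2 : pCore 2 G ≤ Subgroup.center G)
    (h3 : pCore 3 G ≤ Subgroup.center G) (L : Subgroup G) [hLn : L.Normal]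
    (hL : IsQuasisimple L) (hidx : L.index ≤ 2) : IsPrimitiveUnderConj D := by
  have h := tt_of_class hD
  refine ⟨h.trans, hD2, ?_⟩
  intro B hBD hblk
  by_contra hcon
  push Not at hcon
  obtain ⟨hns, hne⟩ := hcon
  obtain ⟨a, ha, b, hb, hab⟩ := hns
  have hB : Blk B := ⟨hblk⟩
  have haD := hBD ha
  have hbD := hBD hb
  have ha2 := h.sq haD
  -- coset facts
  have hfacts : (∀ g : G, g ∈ L ∨ g * a ∈ L) ∧ a * b ∈ L := by
    by_cases hLtop : L = ⊤
    · rw [hLtop]
      exact ⟨fun g => Or.inl trivial, trivial⟩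
    · have hidx2 : L.index = 2 := by
        have h1 : L.index ≠ 0 := Subgroup.index_ne_zero_of_finite
        have h2' : L.index ≠ 1 := fun h1' => hLtop (Subgroup.index_eq_one.mp h1')
        omega
      have haL : a ∉ L := not_mem_of_ne_top h L hLtop haD
      have hbL : b ∉ L := not_mem_of_ne_top h L hLtop hbD
      refine ⟨?_, ?_⟩
      · intro g
        by_cases hg : g ∈ L
        · left; exact hg
        · right
          rw [Subgroup.mul_mem_iff_of_index_two hidx2]
          exact ⟨fun h' => absurd h' hg, fun h' => absurd h' haL⟩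
      · rw [Subgroup.mul_mem_iff_of_index_two hidx2]
        exact ⟨fun h' => absurd h' haL, fun h' => absurd h' hbL⟩
  obtain ⟨hcoset, hxL⟩ := hfacts
  have hxK : a * b ∈ blockKer B := mul_mem_blockKer h hBD hB ha hb
  have hLK : L ≤ blockKer B := by
    rcases quasisimple_normal_top_or_le_center hL ((blockKer B).subgroupOf L) inferInstance
      with ht | hc
    · exact Subgroup.subgroupOf_eq_top.mp ht
    · exfalso
      have hxc : ∀ l ∈ L, l * (a * b) = (a * b) * l := by
        intro l hl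
        have hmem : (⟨a * b, hxL⟩ : ↥L) ∈ (blockKer B).subgroupOf L :=
          Subgroup.mem_subgroupOf.mpr hxK
        have := Subgroup.mem_center_iff.mp (hc hmem) ⟨l, hl⟩
        exact congrArg Subtype.val this
      exact central_contra hD hD2 h2 h3 L haD hbD hab hcoset hxc
  -- every element fixes B
  have haB : cj a B = B := by
    apply hB.fix ha
    rw [mul_inv_cancel_right]
    exact ha
  have hfix : ∀ g : G, cj g B = B := by
    intro g
    rcases hcoset g with hg | hg
    · have := (mem_blockKer.mp (hLK hg)) 1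
      rwa [cj_one] at this
    · have h1 := (mem_blockKer.mp (hLK hg)) 1
      rw [cj_one] at h1
      have hgl : g = (g * a) * a := by rw [mul_assoc, ha2, mul_one]
      rw [hgl, cj_mul, haB, h1]
  apply hne
  apply Set.Subset.antisymm hBD
  intro d hd
  obtain ⟨g, rfl⟩ := h.trans a haD d hd
  rw [← hfix g]
  exact conj_mem_cj ha

theorem le_of_sup_center {L L' : Subgroup G} [L'.Normal] (hperf : ⁅L, L⁆ = L)
    (hsup : L ⊔ Subgroup.center G = L' ⊔ Subgroup.center G) : L ≤ L' := by
  have h1 : L ≤ L' ⊔ Subgroup.center G := hsup ▸ le_sup_left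
  rw [← hperf, Subgroup.commutator_le]
  intro p hp q hq
  obtain ⟨l1, hl1, z1, hz1, rfl⟩ := Subgroup.mem_sup_of_normal_left.mp (h1 hp)
  obtain ⟨l2, hl2, z2, hz2, rfl⟩ := Subgroup.mem_sup_of_normal_left.mp (h1 hq)
  rw [commutatorElement_mul_center l1 l2 z1 z2 hz1 hz2, commutatorElement_def]
  exact L'.mul_mem (L'.mul_mem (L'.mul_mem hl1 hl2) (L'.inv_mem hl1)) (L'.inv_mem hl2)

theorem index_le_of_connected [Finite G] (hD : IsThreeTranspositionClass D)
    (hD2 : ∃ a ∈ D, ∃ b ∈ D, a ≠ b) (h2 : pCore 2 G ≤ Subgroup.center G)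
    (h3 : pCore 3 G ≤ Subgroup.center G) (L : Subgroup G) [hLn : L.Normal]
    (hL : IsQuasisimple L)
    (hF : generalizedFittingSubgroup G = L ⊔ Subgroup.center G)
    (hconn : (commutingGraph D).Connected) : L.index ≤ 2 := by
  have h := tt_of_class hD
  obtain ⟨L', hL'n, hL'q, hF', hw⟩ :=
    s5352_of_zprop (fun X _ _ => zprop X) hD hD2 h2 h3
  haveI := hL'n
  have hp : ⁅L, L⁆ = L := isComponent_perfect ⟨hLn.isSubnormal, hL⟩
  have hp' : ⁅L', L'⁆ = L' := isComponent_perfect ⟨hL'n.isSubnormal, hL'q⟩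
  have hsup : L ⊔ Subgroup.center G = L' ⊔ Subgroup.center G := by rw [← hF, hF']
  have hLL' : L' = L :=
    le_antisymm (le_of_sup_center hp' hsup.symm) (le_of_sup_center hp hsup)
  rw [hLL'] at hw
  rcases hw with htop | hw
  · rw [htop, Subgroup.index_top]; norm_num
  · obtain ⟨a, haD, -⟩ := hD2
    have key : ∀ (u v : D), (commutingGraph D).Walk u v → (u : G)⁻¹ * (v : G) ∈ L := by
      intro u v p
      induction p with
      | nil => rw [inv_mul_cancel]; exact L.one_mem
      | @cons u w v hadj p ih =>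
        have hadj' : u ≠ w ∧ (Commute (u : G) (w : G) ∨ Commute (w : G) (u : G)) := by
          unfold commutingGraph at hadj
          exact (SimpleGraph.fromRel_adj _ _ _).mp hadj
        have hc : Commute (u : G) (w : G) := by
          rcases hadj'.2 with hc | hc
          · exact hc
          · exact hc.symm
        have h1 : (u : G) * (w : G) * (u : G)⁻¹ * (w : G)⁻¹ ∈ L := by
          rw [hc.eq, mul_inv_cancel_right, mul_inv_cancel]
          exact L.one_mem
        have h4 := hw _ u.2 _ w.2 h1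
        have e : (u : G)⁻¹ * (v : G) = ((u : G)⁻¹ * (w : G)) * ((w : G)⁻¹ * (v : G)) := by group
        rw [e]
        exact L.mul_mem h4 ih
    have hall : ∀ d ∈ D, a⁻¹ * d ∈ L := by
      intro d hd
      obtain ⟨p⟩ := hconn.preconnected ⟨a, haD⟩ ⟨d, hd⟩
      exact key _ _ p
    have hsup2 : L ⊔ Subgroup.zpowers a = ⊤ := by
      rw [eq_top_iff, ← h.gen, Subgroup.closure_le]
      intro d hd
      have e : d = a * (a⁻¹ * d) := by group
      rw [e]
      exact Subgroup.mul_mem _ (Subgroup.mem_sup_right (Subgroup.mem_zpowers a))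
        (Subgroup.mem_sup_left (hall d hd))
    have hdvd : L.index ∣ 2 := by
      have h1 : L.relIndex (L ⊔ Subgroup.zpowers a) = L.relIndex (Subgroup.zpowers a) :=
        Subgroup.relIndex_sup_left (Subgroup.zpowers a) L
      rw [hsup2, Subgroup.relIndex_top_right] at h1
      rw [h1]
      have h2' : L.relIndex (Subgroup.zpowers a) ∣ Nat.card (Subgroup.zpowers a) :=
        Subgroup.relIndex_dvd_card _ _
      rwa [Nat.card_zpowers, h.ord a haD] at h2'
    exact Nat.le_of_dvd (by norm_num) hdvd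

end main

end Cfsg.Agent.Lib.Helper25.ThreeTrPrim
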