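import Cfsg.Agent.Lib.Helper25.ThreeTrMax

/-!
Fischer's rank three property for primitive 3-transposition groups (helper25).

Part I: the members commuting with `d` (other than `d`) are connected under the noncommuting
relation, hence form one class of the subgroup they generate.
-/

set_option autoImplicit false
open Cfsg

namespace Cfsg.Agent.Lib.Helper25.ThreeTrPrim

open Cfsg.Agent.Lib.Helper25.ThreeTr

universe u
variable {G : Type u} [Group G] {D : Set G}

/-- commuting partners -/
def Dd (D : Set G) (d : G) : Set G := {y | y ∈ D ∧ y ≠ d ∧ Commute d y}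

/-- the noncommuting relation inside the commuting partners of `d` -/
def NRel (D : Set G) (d a b : G) : Prop := a ∈ Dd D d ∧ b ∈ Dd D d ∧ ¬ Commute a b

theorem NRel.symm' {d a b : G} (h : NRel D d a b) : NRel D d b a :=
  ⟨h.2.1, h.1, fun hc => h.2.2 hc.symm⟩

theorem nreach_symm {d a b : G} (h : Relation.ReflTransGen (NRel D d) a b) :
    Relation.ReflTransGen (NRel D d) b a := by
  induction h with
  | refl => exact Relation.ReflTransGen.refl
  | tail _ hbc ih => exact Relation.ReflTransGen.head hbc.symm' ih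

theorem nreach_mem {d a b : G} (ha : a ∈ Dd D d) (h : Relation.ReflTransGen (NRel D d) a b) :
    b ∈ Dd D d := by
  induction h with
  | refl => exact ha
  | tail _ hbc _ => exact hbc.2.1

theorem mem_Dd_conj (h : TT D) {d y : G} (g : G) (hy : y ∈ Dd D d) :
    g * y * g⁻¹ ∈ Dd D (g * d * g⁻¹) :=
  ⟨h.conj g y hy.1, fun e => hy.2.1 (mul_left_cancel (mul_right_cancel e)),
    (Commute.conj_iff g).mpr hy.2.2⟩

theorem mem_Dd_conj_inv (h : TT D) {p y : G} (g : G) (hy : y ∈ Dd D (g * p * g⁻¹)) :
    g⁻¹ * y * g ∈ Dd D p := by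
  refine ⟨conj_inv_mem h hy.1, ?_, commute_conj_left.mp hy.2.2⟩
  intro e
  apply hy.2.1
  rw [← e]; group

theorem NRel.conj' (h : TT D) {d a b : G} (g : G) (hr : NRel D d a b) :
    NRel D (g * d * g⁻¹) (g * a * g⁻¹) (g * b * g⁻¹) :=
  ⟨mem_Dd_conj h g hr.1, mem_Dd_conj h g hr.2.1, fun hc => hr.2.2 ((Commute.conj_iff g).mp hc)⟩

theorem nreach_conj (h : TT D) {d a b : G} (g : G)
    (hr : Relation.ReflTransGen (NRel D d) a b) :
    Relation.ReflTransGen (NRel D (g * d * g⁻¹)) (g * a * g⁻¹) (g * b * g⁻¹) := by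
  induction hr with
  | refl => exact Relation.ReflTransGen.refl
  | tail _ hbc ih => exact ih.tail (hbc.conj' h g)

/-- connectedness at a point -/
def DdConn (D : Set G) (d : G) : Prop :=
  ∀ y ∈ Dd D d, ∀ y' ∈ Dd D d, Relation.ReflTransGen (NRel D d) y y'

theorem ddConn_conj (h : TT D) {p : G} (hp : DdConn D p) (g : G) : DdConn D (g * p * g⁻¹) := by
  intro y hy y' hy'
  have r := hp _ (mem_Dd_conj_inv h g hy) _ (mem_Dd_conj_inv h g hy')
  have r' := nreach_conj h g r
  have e1 : g * (g⁻¹ * y * g) * g⁻¹ = y := by group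
  have e2 : g * (g⁻¹ * y' * g) * g⁻¹ = y' := by group
  rw [e1, e2] at r'
  exact r'

theorem conj_injective (k : G) : Function.Injective (fun y : G => k * y * k⁻¹) := by
  intro a b hab
  have hab' : k * a * k⁻¹ = k * b * k⁻¹ := hab
  exact mul_left_cancel (mul_right_cancel hab')

/-- every commuting partner has a noncommuting partner among the commuting partners -/
theorem exists_nc_partner [Finite G] (h : TT D) (hprim : IsPrimitiveUnderConj D) {d x : G}
    (hd : d ∈ D) (hx : x ∈ Dd D d) : ∃ x' ∈ Dd D d, ¬ Commute x x' := by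
  by_contra hno
  push Not at hno
  obtain ⟨g, hg⟩ := h.trans d hd x hx.1
  have hsub : {y : G | y ∈ D ∧ Commute d y} ⊆ {y : G | y ∈ D ∧ Commute x y} := by
    rintro y ⟨hyD, hdy⟩
    by_cases hyd : y = d
    · rw [hyd]; exact ⟨hd, hx.2.2.symm⟩
    · exact ⟨hyD, hno y ⟨hyD, hyd, hdy⟩⟩
  have hcj := cj_commuting h g d
  rw [hg] at hcj
  have heq : {y : G | y ∈ D ∧ Commute d y} = {y : G | y ∈ D ∧ Commute x y} := by
    apply Set.eq_of_subset_of_ncard_le hsub _ (Set.toFinite _)
    rw [hcj]
    unfold cj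
    rw [Set.ncard_image_of_injective _ (conj_injective g)]
  have hxd : x = d := by
    apply vclass_trivial h hprim hx.1 hd
    intro y hy
    constructor
    · intro hc
      have hm : y ∈ {y : G | y ∈ D ∧ Commute x y} := ⟨hy, hc⟩
      rw [← heq] at hm
      exact hm.2
    · intro hc
      have hm : y ∈ {y : G | y ∈ D ∧ Commute d y} := ⟨hy, hc⟩
      rw [heq] at hm
      exact hm.2
  exact hx.2.1 hxd

/-- a member commuting with a whole component commutes with `d` -/
theorem commute_of_centralizes_comp [Finite G] (h : TT D) (hprim : IsPrimitiveUnderConj D)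
    (hw : ∃ a ∈ D, ∃ b ∈ D, a ≠ b ∧ Commute a b) {d y0 z : G} (hd : d ∈ D)
    (hy0 : y0 ∈ Dd D d) (hz : z ∈ D)
    (hzY : ∀ y, Relation.ReflTransGen (NRel D d) y0 y → Commute z y) : Commute d z := by
  by_contra hnz
  obtain ⟨HY, hHY⟩ : ∃ HY : Subgroup G,
      HY = Subgroup.closure {y : G | Relation.ReflTransGen (NRel D d) y0 y} := ⟨_, rfl⟩
  obtain ⟨H, hH⟩ : ∃ H : Subgroup G,
      H = Subgroup.closure ({y : G | y ∈ D ∧ Commute d y} ∪ {z}) := ⟨_, rfl⟩
  have hHtop : H = ⊤ := by
    have hDS : IsDSubgroup D H := by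
      unfold IsDSubgroup
      apply le_antisymm
      · rw [Subgroup.closure_le]
        intro y hy
        exact hy.2
      · conv_lhs => rw [hH]
        apply Subgroup.closure_mono
        intro u hu
        refine ⟨?_, ?_⟩
        · rcases hu with hu | hu
          · exact hu.1
          · rw [Set.mem_singleton_iff.mp hu]; exact hz
        · rw [hH]; exact Subgroup.subset_closure hu
    have hM : Md D d ≤ H := by
      rw [hH]
      exact Subgroup.closure_mono Set.subset_union_left
    rcases maximal_Md h hprim hw hd H hDS hM with h1 | h1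
    · exfalso
      apply hnz
      apply md_commute (D := D)
      rw [← h1, hH]
      exact Subgroup.subset_closure (Or.inr rfl)
    · exact h1
  -- every element normalizes HY
  have hnorm : ∀ g : G, (∀ k ∈ HY, g * k * g⁻¹ ∈ HY) ∧ (∀ k ∈ HY, g⁻¹ * k * g ∈ HY) := by
    intro g
    have hg : g ∈ Subgroup.closure ({y : G | y ∈ D ∧ Commute d y} ∪ {z}) := by
      rw [← hH, hHtop]; trivial
    induction hg using Subgroup.closure_induction with
    | mem u hu =>
      by_cases huY : Relation.ReflTransGen (NRel D d) y0 u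
      · have huH : u ∈ HY := by rw [hHY]; exact Subgroup.subset_closure huY
        exact ⟨fun k hk => HY.mul_mem (HY.mul_mem huH hk) (HY.inv_mem huH),
          fun k hk => HY.mul_mem (HY.mul_mem (HY.inv_mem huH) hk) huH⟩
      · have hcent : ∀ y, Relation.ReflTransGen (NRel D d) y0 y → Commute u y := by
          intro y hy
          rcases hu with ⟨huD, hdu⟩ | hu
          · by_cases hud : u = d
            · rw [hud]; exact (nreach_mem hy0 hy).2.2
            · by_contra hne
              apply huY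
              exact Relation.ReflTransGen.tail hy
                ⟨nreach_mem hy0 hy, ⟨huD, hud, hdu⟩, fun hc => hne hc.symm⟩
          · rw [Set.mem_singleton_iff.mp hu]; exact hzY y hy
        have hcentH : ∀ k ∈ HY, Commute u k := by
          intro k hk
          rw [hHY] at hk
          induction hk using Subgroup.closure_induction with
          | mem y hy => exact hcent y hy
          | one => exact Commute.one_right u
          | mul a b _ _ iha ihb => exact iha.mul_right ihb
          | inv a _ iha => exact iha.inv_right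
        refine ⟨fun k hk => ?_, fun k hk => ?_⟩
        · rw [(hcentH k hk).eq, mul_inv_cancel_right]; exact hk
        · have := (hcentH k hk).inv_left
          rw [this.eq, mul_assoc, inv_mul_cancel, mul_one]; exact hk
    | one => exact ⟨fun k hk => by simpa using hk, fun k hk => by simpa using hk⟩
    | mul a b _ _ iha ihb =>
      refine ⟨fun k hk => ?_, fun k hk => ?_⟩
      · have e : a * b * k * (a * b)⁻¹ = a * (b * k * b⁻¹) * a⁻¹ := by group
        rw [e]; exact iha.1 _ (ihb.1 k hk)
      · have e : (a * b)⁻¹ * k * (a * b) = b⁻¹ * (a⁻¹ * k * a) * b := by group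
        rw [e]; exact ihb.2 _ (iha.2 k hk)
    | inv a _ iha =>
      refine ⟨fun k hk => ?_, fun k hk => ?_⟩
      · have := iha.2 k hk
        rwa [inv_inv]
      · have := iha.1 k hk
        rwa [inv_inv]
  have hy0H : y0 ∈ HY := by
    rw [hHY]; exact Subgroup.subset_closure Relation.ReflTransGen.refl
  have hHYtop : HY = ⊤ := by
    rw [eq_top_iff, ← h.gen, Subgroup.closure_le]
    intro e he
    obtain ⟨g, hg⟩ := h.trans y0 hy0.1 e he
    rw [← hg]
    exact (hnorm g).1 y0 hy0H
  have hdH : ∀ k ∈ HY, Commute d k := by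
    intro k hk
    rw [hHY] at hk
    induction hk using Subgroup.closure_induction with
    | mem y hy => exact (nreach_mem hy0 hy).2.2
    | one => exact Commute.one_right d
    | mul a b _ _ iha ihb => exact iha.mul_right ihb
    | inv a _ iha => exact iha.inv_right
  exact hnz (hdH z (by rw [hHYtop]; trivial))

/-- the commuting partners are connected -/
theorem ddConn [Finite G] (h : TT D) (hprim : IsPrimitiveUnderConj D)
    (hw : ∃ a ∈ D, ∃ b ∈ D, a ≠ b ∧ Commute a b) {d : G} (hd : d ∈ D) : DdConn D d := by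
  by_contra hcon
  have hne : ∃ y, y ∈ Dd D d := by
    unfold DdConn at hcon
    push Not at hcon
    obtain ⟨y, hy, -⟩ := hcon
    exact ⟨y, hy⟩
  obtain ⟨y1, hy1⟩ := hne
  let P : Set (G × G) := {q | q.1 ∈ D ∧ q.2 ∈ Dd D q.1}
  have hPne : P.Nonempty := ⟨(d, y1), hd, hy1⟩
  obtain ⟨⟨p, y0⟩, ⟨hpD, hy0⟩, hmax⟩ := Set.exists_max_image P
    (fun q => {y : G | Relation.ReflTransGen (NRel D q.1) q.2 y}.ncard) (Set.toFinite P) hPne
  have hpD' : p ∈ D := hpD
  have hy0' : y0 ∈ Dd D p := hy0
  have hmax' : ∀ q x : G, q ∈ D → x ∈ Dd D q →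
      {y : G | Relation.ReflTransGen (NRel D q) x y}.ncard ≤
        {y : G | Relation.ReflTransGen (NRel D p) y0 y}.ncard := by
    intro q x hq hx
    exact hmax (q, x) ⟨hq, hx⟩
  -- all of Dd p is reachable from y0
  have hall : ∀ x ∈ Dd D p, Relation.ReflTransGen (NRel D p) y0 x := by
    by_contra hex
    push Not at hex
    obtain ⟨x, hx, hxY⟩ := hex
    let Ω : Set G := {q | q ∈ D ∧ y0 ∈ Dd D q ∧
      {y : G | Relation.ReflTransGen (NRel D q) y0 y} =
        {y : G | Relation.ReflTransGen (NRel D p) y0 y}}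
    have hpΩ : p ∈ Ω := ⟨hpD', hy0', rfl⟩
    have step1 : ∀ q ∈ Ω, ∀ x ∈ Dd D q, ¬ Relation.ReflTransGen (NRel D p) y0 x → x ∈ Ω := by
      rintro q ⟨hqD, hqy0, hqY⟩ x hx hxY
      have hxcomm : ∀ y, Relation.ReflTransGen (NRel D q) y0 y → Commute x y := by
        intro y hy
        by_contra hne
        apply hxY
        have : y ∈ {y : G | Relation.ReflTransGen (NRel D p) y0 y} := by rw [← hqY]; exact hy
        have hy' : Relation.ReflTransGen (NRel D q) y0 x :=
          Relation.ReflTransGen.tail hy ⟨nreach_mem hqy0 hy, hx, fun hc => hne hc.symm⟩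
        have : x ∈ {y : G | Relation.ReflTransGen (NRel D p) y0 y} := by rw [← hqY]; exact hy'
        exact this
      have hne_x : ∀ y, Relation.ReflTransGen (NRel D q) y0 y → y ≠ x := by
        intro y hy e
        apply hxY
        have : y ∈ {y : G | Relation.ReflTransGen (NRel D p) y0 y} := by rw [← hqY]; exact hy
        rw [e] at this
        exact this
      have hmemx : ∀ y, Relation.ReflTransGen (NRel D q) y0 y → y ∈ Dd D x := by
        intro y hy
        exact ⟨(nreach_mem hqy0 hy).1, hne_x y hy, hxcomm y hy⟩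
      have hy0x : y0 ∈ Dd D x := hmemx y0 Relation.ReflTransGen.refl
      have hsub : {y : G | Relation.ReflTransGen (NRel D q) y0 y} ⊆
          {y : G | Relation.ReflTransGen (NRel D x) y0 y} := by
        intro y hy
        have hy' : Relation.ReflTransGen (NRel D q) y0 y := hy
        show Relation.ReflTransGen (NRel D x) y0 y
        induction hy' with
        | refl => exact Relation.ReflTransGen.refl
        | tail hab hbc ih =>
          exact (ih hab).tail ⟨hmemx _ hab, hmemx _ (hab.tail hbc), hbc.2.2⟩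
      have hle := hmax' x y0 hx.1 hy0x
      rw [← hqY] at hle
      have heq := Set.eq_of_subset_of_ncard_le hsub hle (Set.toFinite _)
      exact ⟨hx.1, hy0x, heq.symm.trans hqY⟩
    have step3 : ∀ q ∈ Ω, ∀ q' ∈ Ω, Commute q q' := by
      rintro q ⟨hqD, hqy0, hqY⟩ q' ⟨hq'D, hq'y0, hq'Y⟩
      apply commute_of_centralizes_comp h hprim hw hqD hqy0 hq'D
      intro y hy
      have : y ∈ {y : G | Relation.ReflTransGen (NRel D q') y0 y} := by
        rw [hq'Y, ← hqY]; exact hy
      exact (nreach_mem hq'y0 this).2.2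
    have hxΩ : x ∈ Ω := step1 p hpΩ x hx hxY
    obtain ⟨x', hx', hxx'⟩ := exists_nc_partner h hprim hpD' hx
    have hx'Y : ¬ Relation.ReflTransGen (NRel D p) y0 x' := by
      intro hr
      apply hxY
      exact hr.tail ⟨hx', hx, fun hc => hxx' hc.symm⟩
    have hx'Ω : x' ∈ Ω := step1 p hpΩ x' hx' hx'Y
    exact hxx' (step3 x hxΩ x' hx'Ω)
  have hconnp : DdConn D p := by
    intro y hy y' hy'
    exact (nreach_symm (hall y hy)).trans (hall y' hy')
  obtain ⟨g, hg⟩ := h.trans p hpD' d hd
  have := ddConn_conj h hconnp g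
  rw [hg] at this
  exact hcon this


/-! Part II: the centralizer of `d` is transitive on the members not commuting with `d`. -/

/-- members not commuting with `d` -/
def Ad (D : Set G) (d : G) : Set G := {y | y ∈ D ∧ ¬ Commute d y}

/-- conjugate under the centralizer of `d` -/
def CC (d x y : G) : Prop := ∃ g : G, Commute g d ∧ g * x * g⁻¹ = y

theorem CC.refl' (d x : G) : CC d x x := ⟨1, Commute.one_left d, by group⟩

theorem CC.symm' {d x y : G} (h : CC d x y) : CC d y x := by
  obtain ⟨g, hg, rfl⟩ := h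
  exact ⟨g⁻¹, hg.inv_left, by group⟩

theorem CC.trans' {d x y z : G} (h1 : CC d x y) (h2 : CC d y z) : CC d x z := by
  obtain ⟨g, hg, rfl⟩ := h1
  obtain ⟨k, hk, rfl⟩ := h2
  exact ⟨k * g, hk.mul_left hg, by group⟩

/-- the commuting partners of `d` not commuting with `x` -/
def Nn (D : Set G) (d x : G) : Set G := {c | c ∈ Dd D d ∧ ¬ Commute x c}

theorem braid3 (h : TT D) {d e : G} (hd : d ∈ D) (he : e ∈ D) (hn : ¬ Commute d e) :
    d * e * d = e * d * e := by
  have := braid_conj h hd he hn
  rw [h.inv hd, h.inv he] at this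
  exact this

theorem conj_of_nc (h : TT D) {x e : G} (hx : x ∈ D) (he : e ∈ D) (hn : ¬ Commute x e) :
    (e * x) * e * (e * x)⁻¹ = x := by
  have hb := braid3 h hx he hn
  rw [mul_inv_rev, h.inv hx, h.inv he]
  calc e * x * e * (x * e) = e * (x * e * x) * e := by simp only [mul_assoc]
    _ = e * (e * x * e) * e := by rw [hb]
    _ = (e * e) * x * (e * e) := by simp only [mul_assoc]
    _ = x := by rw [h.sq he, one_mul, mul_one]

theorem mem_Ad_conj (h : TT D) {d x g : G} (hg : Commute g d) (hx : x ∈ Ad D d) :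
    g * x * g⁻¹ ∈ Ad D d := by
  refine ⟨h.conj g x hx.1, fun hc => hx.2 ?_⟩
  have e : g * d * g⁻¹ = d := by rw [hg.eq, mul_inv_cancel_right]
  rw [← e] at hc
  exact (Commute.conj_iff g).mp hc

theorem mem_Dd_conj' (h : TT D) {d c g : G} (hg : Commute g d) (hc : c ∈ Dd D d) :
    g * c * g⁻¹ ∈ Dd D d := by
  have := mem_Dd_conj h g hc
  have e : g * d * g⁻¹ = d := by rw [hg.eq, mul_inv_cancel_right]
  rw [e] at this
  exact this

/-- members of one class of the commuting partners are conjugate under the centralizer -/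
theorem dd_cc [Finite G] (h : TT D) (hprim : IsPrimitiveUnderConj D)
    (hw : ∃ a ∈ D, ∃ b ∈ D, a ≠ b ∧ Commute a b) {d : G} (hd : d ∈ D) {b b' : G}
    (hb : b ∈ Dd D d) (hb' : b' ∈ Dd D d) : CC d b b' := by
  have hr := ddConn h hprim hw hd b hb b' hb'
  induction hr with
  | refl => exact CC.refl' d b
  | tail _ hbc ih =>
    obtain ⟨hu, hv, hn⟩ := hbc
    refine (ih hu).trans' ?_
    refine ⟨_ * _, ?_, conj_of_nc h hv.1 hu.1 (fun hc => hn hc.symm)⟩
    exact (hu.2.2.symm.mul_left hv.2.2.symm)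

/-- commuting members not commuting with `d` are conjugate under the centralizer -/
theorem cc_of_commute (h : TT D) {d a b : G} (hd : d ∈ D) (ha : a ∈ Ad D d) (hb : b ∈ Ad D d)
    (hab : Commute a b) : CC d a b := by
  have hda := braid3 h hd ha.1 ha.2
  have hdb := braid3 h hd hb.1 hb.2
  have hbab : b * a * b = a := by
    rw [← hab.eq, mul_assoc, h.sq hb.1, mul_one]
  have h3 : (a * d) ^ 3 = 1 := cube_of_nc h ha.1 hd (fun hc => ha.2 hc.symm)
  obtain ⟨c, hc⟩ : ∃ c, c = b * d * a * d * b := ⟨_, rfl⟩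
  have hcD : c ∈ D := by
    have := h.conj (b * d) a ha.1
    rw [mul_inv_rev, h.inv hb.1, h.inv hd] at this
    rw [hc]
    have e : b * d * a * d * b = b * d * a * (d * b) := by simp only [mul_assoc]
    rw [e]; exact this
  have hdcd : d * c * d = c := by
    calc d * c * d = (d * b * d) * a * (d * b * d) := by rw [hc]; simp only [mul_assoc]
      _ = (b * d * b) * a * (b * d * b) := by rw [hdb]
      _ = b * d * (b * a * b) * d * b := by simp only [mul_assoc]
      _ = c := by rw [hbab, hc]
  have hcd : Commute c d := by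
    show c * d = d * c
    calc c * d = (d * c * d) * d := by rw [hdcd]
      _ = d * c * (d * d) := by simp only [mul_assoc]
      _ = d * c := by rw [h.sq hd, mul_one]
  have hcac : c * a * c = b * d * b := by
    calc c * a * c = b * d * a * d * (b * a * b) * d * a * d * b := by
          rw [hc]; simp only [mul_assoc]
      _ = b * d * ((a * d) ^ 3) * b := by rw [hbab, pow_succ, pow_two]; simp only [mul_assoc]
      _ = b * d * b := by rw [h3, mul_one]
  refine ⟨d * c, (Commute.refl d).mul_left hcd, ?_⟩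
  rw [mul_inv_rev, h.inv hd, h.inv hcD]
  calc d * c * a * (c * d) = d * (c * a * c) * d := by simp only [mul_assoc]
    _ = d * (b * d * b) * d := by rw [hcac]
    _ = (d * b * d) * b * d := by simp only [mul_assoc]
    _ = (b * d * b) * b * d := by rw [hdb]
    _ = b * d * (b * b) * d := by simp only [mul_assoc]
    _ = b * (d * d) := by rw [h.sq hb.1, mul_one]; simp only [mul_assoc]
    _ = b := by rw [h.sq hd, mul_one]

/-- noncommuting members whose product conjugate commutes with `d` -/
theorem cc_of_prod_commute (h : TT D) {d x y : G} (hx : x ∈ D) (hy : y ∈ D)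
    (hn : ¬ Commute x y) (hz : Commute (y * x * y⁻¹) d) : CC d x y := by
  refine ⟨y * x * y⁻¹, hz, ?_⟩
  have hb := braid3 h hy hx (fun hc => hn hc.symm)
  rw [mul_inv_rev, mul_inv_rev, inv_inv, h.inv hy, h.inv hx]
  calc y * x * y * x * (y * (x * y)) = y * x * (y * x * y) * x * y := by simp only [mul_assoc]
    _ = y * x * (x * y * x) * x * y := by rw [hb]
    _ = y * (x * x) * y * (x * x) * y := by simp only [mul_assoc]
    _ = y := by rw [h.sq hx, mul_one, mul_one, h.sq hy, one_mul]

theorem nn_conj (h : TT D) {d x g : G} (hg : Commute g d) :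
    Nn D d (g * x * g⁻¹) = cj g (Nn D d x) := by
  ext c
  rw [mem_cj]
  constructor
  · rintro ⟨hc, hnc⟩
    refine ⟨?_, fun hcm => hnc ?_⟩
    · have := mem_Dd_conj' h hg.inv_left hc
      rwa [inv_inv] at this
    · exact commute_conj_left.mpr hcm
  · rintro ⟨hc, hnc⟩
    refine ⟨?_, fun hcm => hnc (commute_conj_left.mp hcm)⟩
    have := mem_Dd_conj' h hg hc
    have e : g * (g⁻¹ * c * g) * g⁻¹ = c := by group
    rwa [e] at this

theorem nn_card_cc [Finite G] (h : TT D) {d x y : G} (hxy : CC d x y) :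
    (Nn D d y).ncard = (Nn D d x).ncard := by
  obtain ⟨g, hg, rfl⟩ := hxy
  rw [nn_conj h hg]
  unfold cj
  rw [Set.ncard_image_of_injective _ (conj_injective g)]

/-- the dichotomy -/
theorem cc_of_witness (h : TT D) {d x y c : G} (hd : d ∈ D) (hx : x ∈ Ad D d) (hy : y ∈ Ad D d)
    (hxy : ¬ CC d x y) (hc : c ∈ Nn D d x) (hyc : Commute y c) : CC d x (y * x * y⁻¹) := by
  have hnxy : ¬ Commute x y := fun hcm => hxy (cc_of_commute h hd hx hy hcm)
  have hwd : ¬ Commute (y * x * y⁻¹) d := fun hcm => hxy (cc_of_prod_commute h hx.1 hy.1 hnxy hcm)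
  have hwA : y * x * y⁻¹ ∈ Ad D d := ⟨h.conj y x hx.1, fun hcm => hwd hcm.symm⟩
  have hcD := hc.1.1
  have hcd : Commute c d := hc.1.2.2.symm
  have hx'A : c * x * c⁻¹ ∈ Ad D d := mem_Ad_conj h hcd hx
  have h1 : CC d x (c * x * c⁻¹) := ⟨c, hcd, rfl⟩
  have hb1 := braid3 h hy.1 hx.1 (fun hcm => hnxy hcm.symm)
  have hb2 := braid3 h hcD hx.1 (fun hcm => hc.2 hcm.symm)
  have hcomm : Commute (c * x * c⁻¹) (y * x * y⁻¹) := by
    rw [h.inv hcD, h.inv hy.1, hb1, hb2]
    show x * c * x * (x * y * x) = x * y * x * (x * c * x)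
    calc x * c * x * (x * y * x) = x * c * (x * x) * y * x := by simp only [mul_assoc]
      _ = x * (c * y) * x := by rw [h.sq hx.1, mul_one]; simp only [mul_assoc]
      _ = x * (y * c) * x := by rw [hyc.eq]
      _ = x * y * (x * x) * c * x := by rw [h.sq hx.1, mul_one]; simp only [mul_assoc]
      _ = x * y * x * (x * c * x) := by simp only [mul_assoc]
  exact h1.trans' (cc_of_commute h hd hx'A hwA hcomm)

theorem nn_subset (h : TT D) {d x y : G} (hd : d ∈ D) (hx : x ∈ Ad D d) (hy : y ∈ Ad D d)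
    (hxy : ¬ CC d x y) (hxw : ¬ CC d x (y * x * y⁻¹)) : Nn D d x ⊆ Nn D d y := by
  intro c hc
  refine ⟨hc.1, fun hyc => hxw (cc_of_witness h hd hx hy hxy hc hyc)⟩


/-- two different members are separated by a member commuting with the first only -/
theorem exists_commute_not_commute [Finite G] (h : TT D) (hprim : IsPrimitiveUnderConj D)
    {c d : G} (hc : c ∈ D) (hd : d ∈ D) (hne : c ≠ d) :
    ∃ x ∈ D, Commute c x ∧ ¬ Commute d x := by
  by_contra hno
  push Not at hno
  obtain ⟨g, hg⟩ := h.trans c hc d hd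
  have hsub : {y : G | y ∈ D ∧ Commute c y} ⊆ {y : G | y ∈ D ∧ Commute d y} := by
    rintro y ⟨hyD, hcy⟩
    exact ⟨hyD, hno y hyD hcy⟩
  have hcj := cj_commuting h g c
  rw [hg] at hcj
  have heq : {y : G | y ∈ D ∧ Commute c y} = {y : G | y ∈ D ∧ Commute d y} := by
    apply Set.eq_of_subset_of_ncard_le hsub _ (Set.toFinite _)
    rw [hcj]
    unfold cj
    rw [Set.ncard_image_of_injective _ (conj_injective g)]
  apply hne
  apply vclass_trivial h hprim hc hd
  intro y hy
  constructor
  · intro hcm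
    have hm : y ∈ {y : G | y ∈ D ∧ Commute c y} := ⟨hy, hcm⟩
    rw [heq] at hm
    exact hm.2
  · intro hcm
    have hm : y ∈ {y : G | y ∈ D ∧ Commute d y} := ⟨hy, hcm⟩
    rw [← heq] at hm
    exact hm.2

/-- every member not commuting with `d` misses some commuting partner of `d` -/
theorem exists_nn [Finite G] (h : TT D) (hprim : IsPrimitiveUnderConj D)
    (hw : ∃ a ∈ D, ∃ b ∈ D, a ≠ b ∧ Commute a b) {d x : G} (hd : d ∈ D) (hx : x ∈ Ad D d) :
    ∃ c, c ∈ Nn D d x := by
  by_contra hno
  push Not at hno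
  obtain ⟨g, hg⟩ := h.trans d hd x hx.1
  have hsub : {y : G | y ∈ D ∧ y ≠ d ∧ Commute d y} ⊆ {y : G | y ∈ D ∧ y ≠ x ∧ Commute x y} := by
    rintro y ⟨hyD, hyd, hdy⟩
    refine ⟨hyD, ?_, ?_⟩
    · intro e
      rw [e] at hdy
      exact hx.2 hdy
    · by_contra hcm
      exact hno y ⟨⟨hyD, hyd, hdy⟩, hcm⟩
  have hcj := cj_partners h g d
  rw [hg] at hcj
  have heq : {y : G | y ∈ D ∧ y ≠ d ∧ Commute d y} = {y : G | y ∈ D ∧ y ≠ x ∧ Commute x y} := by
    apply Set.eq_of_subset_of_ncard_le hsub _ (Set.toFinite _)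
    rw [hcj]
    unfold cj
    rw [Set.ncard_image_of_injective _ (conj_injective g)]
  have hxd : x = d := wclass_trivial h hprim hw hx.1 hd heq
  apply hx.2
  rw [hxd]

/-- the number of missed commuting partners is constant -/
theorem nn_card_const [Finite G] (h : TT D) (hprim : IsPrimitiveUnderConj D)
    (hw : ∃ a ∈ D, ∃ b ∈ D, a ≠ b ∧ Commute a b) {d : G} (hd : d ∈ D) :
    ∀ x ∈ Ad D d, ∀ y ∈ Ad D d, (Nn D d x).ncard = (Nn D d y).ncard := by
  intro x1 hx1
  obtain ⟨x₀, hx₀, hmin⟩ := Set.exists_min_image (Ad D d) (fun z => (Nn D d z).ncard)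
    (Set.toFinite _) ⟨x1, hx1⟩
  obtain ⟨m, hm⟩ : ∃ m, m = (Nn D d x₀).ncard := ⟨_, rfl⟩
  have hmin' : ∀ z ∈ Ad D d, m ≤ (Nn D d z).ncard := by
    intro z hz
    rw [hm]; exact hmin z hz
  let S : Set G := {u | u ∈ D ∧ (Commute d u ∨ (Nn D d u).ncard = m)}
  have hS : ∀ u ∈ S, ∀ v ∈ S, v * u * v⁻¹ ∈ S := by
    rintro u ⟨huD, hu⟩ v ⟨hvD, hv⟩
    by_cases huv : Commute u v
    · have e : v * u * v⁻¹ = u := by rw [← huv.eq, mul_inv_cancel_right]
      rw [e]; exact ⟨huD, hu⟩
    have hwD : v * u * v⁻¹ ∈ D := h.conj v u huD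
    refine ⟨hwD, ?_⟩
    by_cases hdw : Commute d (v * u * v⁻¹)
    · exact Or.inl hdw
    right
    have hwA : v * u * v⁻¹ ∈ Ad D d := ⟨hwD, hdw⟩
    by_cases hdv : Commute d v
    · have hdu : ¬ Commute d u := by
        intro hdu
        apply hdw
        exact (hdv.mul_right hdu).mul_right hdv.inv_right
      have hcc : CC d u (v * u * v⁻¹) := ⟨v, hdv.symm, rfl⟩
      rw [nn_card_cc h hcc]
      rcases hu with hu | hu
      · exact absurd hu hdu
      · exact hu
    have hvm : (Nn D d v).ncard = m := by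
      rcases hv with hv | hv
      · exact absurd hv hdv
      · exact hv
    have hbr : v * u * v⁻¹ = u * v * u⁻¹ := braid_conj h hvD huD (fun hc => huv hc.symm)
    by_cases hdu : Commute d u
    · have hcc : CC d v (v * u * v⁻¹) := ⟨u, hdu.symm, hbr.symm⟩
      rw [nn_card_cc h hcc]
      exact hvm
    have hum : (Nn D d u).ncard = m := by
      rcases hu with hu | hu
      · exact absurd hu hdu
      · exact hu
    have huA : u ∈ Ad D d := ⟨huD, hdu⟩
    have hvA : v ∈ Ad D d := ⟨hvD, hdv⟩
    by_cases hc1 : CC d u (v * u * v⁻¹)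
    · rw [nn_card_cc h hc1]; exact hum
    by_cases hc2 : CC d v (v * u * v⁻¹)
    · rw [nn_card_cc h hc2]; exact hvm
    have e2 : u * (v * u * v⁻¹) * u⁻¹ = v := by
      have hb := braid3 h hvD huD (fun hc => huv hc.symm)
      rw [h.inv hvD, h.inv huD]
      calc u * (v * u * v) * u = u * (u * v * u) * u := by rw [hb]
        _ = (u * u) * v * (u * u) := by simp only [mul_assoc]
        _ = v := by rw [h.sq huD, one_mul, mul_one]
    have hsub : Nn D d (v * u * v⁻¹) ⊆ Nn D d u := by
      apply nn_subset h hd hwA huA (fun hc => hc1 hc.symm')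
      rw [e2]
      exact fun hc => hc2 hc.symm'
    have hle := Set.ncard_le_ncard hsub (Set.toFinite _)
    rw [hum] at hle
    exact le_antisymm hle (hmin' _ hwA)
  obtain ⟨H, hH⟩ : ∃ H : Subgroup G, H = Subgroup.closure S := ⟨_, rfl⟩
  have hSD : S ⊆ D := fun u hu => hu.1
  have hDS : IsDSubgroup D H := by
    unfold IsDSubgroup
    apply le_antisymm
    · rw [Subgroup.closure_le]
      intro y hy
      exact hy.2
    · conv_lhs => rw [hH]
      apply Subgroup.closure_mono
      intro u hu
      refine ⟨hSD hu, ?_⟩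
      rw [hH]; exact Subgroup.subset_closure hu
  have hM : Md D d ≤ H := by
    rw [hH]
    apply Subgroup.closure_mono
    rintro y ⟨hyD, hdy⟩
    exact ⟨hyD, Or.inl hdy⟩
  have hx₀S : x₀ ∈ S := ⟨hx₀.1, Or.inr hm.symm⟩
  have hHtop : H = ⊤ := by
    rcases maximal_Md h hprim hw hd H hDS hM with h1 | h1
    · exfalso
      apply hx₀.2
      apply md_commute (D := D)
      rw [← h1, hH]
      exact Subgroup.subset_closure hx₀S
    · exact h1
  have hnorm : ∀ g : G, (∀ k ∈ S, g * k * g⁻¹ ∈ S) ∧ (∀ k ∈ S, g⁻¹ * k * g ∈ S) := by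
    intro g
    have hg : g ∈ Subgroup.closure S := by
      rw [← hH, hHtop]; trivial
    induction hg using Subgroup.closure_induction with
    | mem v hv =>
      refine ⟨fun k hk => hS k hk v hv, fun k hk => ?_⟩
      have := hS k hk v hv
      rw [h.inv hv.1] at this ⊢
      exact this
    | one => exact ⟨fun k hk => by simpa using hk, fun k hk => by simpa using hk⟩
    | mul a b _ _ iha ihb =>
      refine ⟨fun k hk => ?_, fun k hk => ?_⟩
      · have e : a * b * k * (a * b)⁻¹ = a * (b * k * b⁻¹) * a⁻¹ := by group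
        rw [e]; exact iha.1 _ (ihb.1 k hk)
      · have e : (a * b)⁻¹ * k * (a * b) = b⁻¹ * (a⁻¹ * k * a) * b := by group
        rw [e]; exact ihb.2 _ (iha.2 k hk)
    | inv a _ iha =>
      refine ⟨fun k hk => ?_, fun k hk => ?_⟩
      · have := iha.2 k hk
        rwa [inv_inv]
      · have := iha.1 k hk
        rwa [inv_inv]
  have hall : ∀ y ∈ Ad D d, (Nn D d y).ncard = m := by
    intro y hy
    obtain ⟨g, hg⟩ := h.trans x₀ hx₀.1 y hy.1
    have := (hnorm g).1 x₀ hx₀S
    rw [hg] at this
    rcases this.2 with h1 | h1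
    · exact absurd h1 hy.2
    · exact h1
  intro y hy
  rw [hall x1 hx1, hall y hy]

/-- members in different classes miss the same commuting partners -/
theorem nn_eq_of_not_cc [Finite G] (h : TT D) (hprim : IsPrimitiveUnderConj D)
    (hw : ∃ a ∈ D, ∃ b ∈ D, a ≠ b ∧ Commute a b) {d x y : G} (hd : d ∈ D)
    (hx : x ∈ Ad D d) (hy : y ∈ Ad D d) (hxy : ¬ CC d x y) : Nn D d x = Nn D d y := by
  have hcard := nn_card_const h hprim hw hd x hx y hy
  by_cases hxw : CC d x (y * x * y⁻¹)
  · have hnxy : ¬ Commute x y := fun hcm => hxy (cc_of_commute h hd hx hy hcm)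
    have hbr : y * x * y⁻¹ = x * y * x⁻¹ := braid_conj h hy.1 hx.1 (fun hc => hnxy hc.symm)
    have hyw : ¬ CC d y (x * y * x⁻¹) := by
      rw [← hbr]
      intro hc
      exact hxy (hxw.trans' hc.symm')
    have hsub := nn_subset h hd hy hx (fun hc => hxy hc.symm') hyw
    exact (Set.eq_of_subset_of_ncard_le hsub (le_of_eq hcard) (Set.toFinite _)).symm
  · have hsub := nn_subset h hd hx hy hxy hxw
    exact Set.eq_of_subset_of_ncard_le hsub (le_of_eq hcard.symm) (Set.toFinite _)

/-- the centralizer of `d` is transitive on the members not commuting with `d` -/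
theorem ad_cc [Finite G] (h : TT D) (hprim : IsPrimitiveUnderConj D)
    (hw : ∃ a ∈ D, ∃ b ∈ D, a ≠ b ∧ Commute a b) {d x y : G} (hd : d ∈ D)
    (hx : x ∈ Ad D d) (hy : y ∈ Ad D d) : CC d x y := by
  by_contra hxy
  have hconst : ∀ z ∈ Ad D d, Nn D d z = Nn D d x := by
    intro z hz
    by_cases hxz : CC d x z
    · have hyz : ¬ CC d y z := fun hc => hxy (hxz.trans' hc.symm')
      rw [← nn_eq_of_not_cc h hprim hw hd hy hz hyz]
      exact (nn_eq_of_not_cc h hprim hw hd hx hy hxy).symm
    · exact (nn_eq_of_not_cc h hprim hw hd hx hz hxz).symm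
  obtain ⟨c₀, hc₀⟩ := exists_nn h hprim hw hd hx
  obtain ⟨x₁, hx₁D, hcx₁, hdx₁⟩ :=
    exists_commute_not_commute h hprim hc₀.1.1 hd hc₀.1.2.1
  have hx₁A : x₁ ∈ Ad D d := ⟨hx₁D, hdx₁⟩
  have hmem : c₀ ∈ Nn D d x₁ := by rw [hconst x₁ hx₁A]; exact hc₀
  exact hmem.2 hcx₁.symm

end Cfsg.Agent.Lib.Helper25.ThreeTrPrim
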