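import Cfsg.Agent.Lib.Helper25.ThreeTrRank

/-!
Fischer's rank three property, assembled from `ThreeTrRank` (helper25).
-/

set_option autoImplicit false
open Cfsg
open scoped commutatorElement

namespace Cfsg.Agent.Lib.Helper25.ThreeTrPrim

open Cfsg.Agent.Lib.Helper20 Cfsg.Agent.Lib.Helper25.ThreeTr Cfsg.Agent.Lib.Helper25.ZStar

universe u
variable {G : Type u} [Group G] {D : Set G}

/-- two different members, when the derived subgroup is not abelian -/
theorem two_members (h : TT D) (hnonab : ∃ x y : commutator G, x * y ≠ y * x) :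
    ∃ a ∈ D, ∃ b ∈ D, a ≠ b := by
  by_contra hno
  push Not at hno
  obtain ⟨x, y, hxy⟩ := hnonab
  apply hxy
  have hcen : (⊤ : Subgroup G) ≤ Subgroup.center G := by
    apply h.le_center
    intro d hd g _
    have h1 := hno _ (h.conj g d hd) d hd
    calc d * g = (g * d * g⁻¹) * g := by rw [h1]
      _ = g * d := by group
  apply Subtype.ext
  show (x : G) * y = y * x
  have := Subgroup.mem_center_iff.mp (hcen (Subgroup.mem_top (x : G))) (y : G)
  exact this.symm

/-- the cores are central when the derived subgroup is nonabelian simple -/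
theorem core_central_of_simple [Finite G] (hsimple : IsSimpleGroup (commutator G))
    (hnonab : ∃ x y : commutator G, x * y ≠ y * x) (p : ℕ) [Fact p.Prime] :
    pCore p G ≤ Subgroup.center G := by
  have hSq : IsQuasisimple ↥(commutator G) := isQuasisimple_of_simple' hsimple hnonab
  have hN : (pCore p G).Normal := inferInstance
  rcases (inferInstance : ((pCore p G).subgroupOf (commutator G)).Normal).eq_bot_or_eq_top
    with hb' | ht
  · intro n hn
    rw [Subgroup.mem_center_iff]
    intro g
    have h1 : ⁅n, g⁆ ∈ pCore p G := by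
      rw [commutatorElement_def]
      have : n * g * n⁻¹ * g⁻¹ = n * (g * n⁻¹ * g⁻¹) := by group
      rw [this]
      exact Subgroup.mul_mem _ hn (hN.conj_mem _ (Subgroup.inv_mem _ hn) g)
    have h2' : ⁅n, g⁆ ∈ commutator G := by
      rw [commutator_def]
      exact Subgroup.commutator_mem_commutator (Subgroup.mem_top _) (Subgroup.mem_top _)
    have h3' : (⟨⁅n, g⁆, h2'⟩ : ↥(commutator G)) ∈
        (pCore p G).subgroupOf (commutator G) := Subgroup.mem_subgroupOf.mpr h1
    rw [hb', Subgroup.mem_bot] at h3'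
    have h4 : ⁅n, g⁆ = 1 := congrArg Subtype.val h3'
    rw [commutatorElement_eq_one_iff_mul_comm] at h4
    exact h4.symm
  · exfalso
    have hle : commutator G ≤ pCore p G := Subgroup.subgroupOf_eq_top.mp ht
    have hpS : IsPGroup p ↥(commutator G) := (pCore_isPGroup' p).to_le hle
    have hnil : Group.IsNilpotent ↥(commutator G) := hpS.isNilpotent
    exact isQuasisimple_not_isSolvable hSq inferInstance

/-- primitivity from a nonabelian simple derived subgroup -/
theorem prim_of_simple [Finite G] (hD : IsThreeTranspositionClass D)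
    (hsimple : IsSimpleGroup (commutator G)) (hnonab : ∃ x y : commutator G, x * y ≠ y * x) :
    IsPrimitiveUnderConj D := by
  have h := tt_of_class hD
  have hD2 := two_members h hnonab
  obtain ⟨a, ha, -⟩ := two_members h hnonab
  have hall : ∀ d ∈ D, a⁻¹ * d ∈ commutator G := by
    intro d hd
    obtain ⟨g, rfl⟩ := h.trans a ha d hd
    have e : a⁻¹ * (g * a * g⁻¹) = ⁅a⁻¹, g⁆ := by
      rw [commutatorElement_def]; group
    rw [e, commutator_def]
    exact Subgroup.commutator_mem_commutator (Subgroup.mem_top _) (Subgroup.mem_top _)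
  have hidx : (commutator G).index ≤ 2 := index_le_two_of_coset h (commutator G) ha hall
  have hSq : IsQuasisimple ↥(commutator G) := isQuasisimple_of_simple' hsimple hnonab
  haveI : Fact (Nat.Prime 2) := ⟨Nat.prime_two⟩
  haveI : Fact (Nat.Prime 3) := ⟨Nat.prime_three⟩
  exact primitive_of_index hD hD2 (core_central_of_simple hsimple hnonab 2)
    (core_central_of_simple hsimple hnonab 3) (commutator G) hSq hidx

/-- width at least two from a central 3-core -/
theorem width_two_of_core [Finite G] (h : TT D) (hD2 : ∃ a ∈ D, ∃ b ∈ D, a ≠ b)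
    (h3 : pCore 3 G ≤ Subgroup.center G) : ∃ a ∈ D, ∃ b ∈ D, a ≠ b ∧ Commute a b := by
  by_contra hno
  push Not at hno
  have hW : W1 D := by
    refine ⟨h.ord, h.conj, h.gen, ?_, ?_⟩
    · intro d hd e he
      by_cases hde : Commute d e
      · have : d = e := by
          by_contra hne
          exact hno d hd e he hne hde
        rw [← this, h.sq hd, one_pow]
      · exact cube_of_nc h hd he hde
    · intro d hd e he hde
      by_contra hne
      exact hno d hd e he hne hde
  obtain ⟨a, ha, b, hb, hab⟩ := hD2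
  have htop := hall_three (zprop G) hW ha
  have hcen : (⊤ : Subgroup G) ≤ Subgroup.centralizer ({a} : Set G) := by
    rw [← htop, sup_le_iff]
    constructor
    · rw [Subgroup.zpowers_le]
      rw [Subgroup.mem_centralizer_singleton_iff]
    · intro x hx
      rw [Subgroup.mem_centralizer_singleton_iff]
      exact (Subgroup.mem_center_iff.mp (h3 hx) a).symm
  obtain ⟨g, hg⟩ := h.trans a ha b hb
  apply hab
  have hga := Subgroup.mem_centralizer_singleton_iff.mp (hcen (Subgroup.mem_top g))
  rw [← hg]
  calc a = a * g * g⁻¹ := by group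
    _ = g * a * g⁻¹ := by rw [hga]

/-- the rank three statement from primitivity and width two -/
theorem rank_three [Finite G] (h : TT D) (hprim : IsPrimitiveUnderConj D)
    (hw : ∃ a ∈ D, ∃ b ∈ D, a ≠ b ∧ Commute a b) {a : G} (ha : a ∈ D) :
    (∃ b ∈ D, b ≠ a ∧ Commute a b) ∧ (∃ c ∈ D, ¬ Commute a c) ∧
      (∀ b ∈ D, ∀ b' ∈ D, b ≠ a → b' ≠ a → Commute a b → Commute a b' →
        ∃ g : G, Commute g a ∧ g * b * g⁻¹ = b') ∧
      (∀ c ∈ D, ∀ c' ∈ D, ¬ Commute a c → ¬ Commute a c' →
        ∃ g : G, Commute g a ∧ g * c * g⁻¹ = c') := by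
  refine ⟨?_, ?_, ?_, ?_⟩
  · obtain ⟨x, hx, y, hy, hxy, hc⟩ := hw
    obtain ⟨g, hg⟩ := h.trans x hx a ha
    refine ⟨g * y * g⁻¹, h.conj g y hy, ?_, ?_⟩
    · rw [← hg]
      intro e
      exact hxy (mul_left_cancel (mul_right_cancel e)).symm
    · rw [← hg]
      exact (Commute.conj_iff g).mpr hc
  · by_contra hno
    push Not at hno
    obtain ⟨htr, ⟨x, hx, y, hy, hxy⟩, -⟩ := hprim
    have hcen : (⊤ : Subgroup G) ≤ Subgroup.centralizer ({a} : Set G) := by
      rw [← h.gen, Subgroup.closure_le]
      intro c hc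
      rw [SetLike.mem_coe, Subgroup.mem_centralizer_singleton_iff]
      exact (hno c hc).eq.symm
    have hall : ∀ e ∈ D, e = a := by
      intro e he
      obtain ⟨g, hg⟩ := h.trans a ha e he
      have hga := Subgroup.mem_centralizer_singleton_iff.mp (hcen (Subgroup.mem_top g))
      rw [← hg]
      calc g * a * g⁻¹ = a * g * g⁻¹ := by rw [hga]
        _ = a := by group
    exact hxy ((hall x hx).trans (hall y hy).symm)
  · intro b hb b' hb' hba hb'a hcb hcb'
    exact dd_cc h hprim hw ha ⟨hb, hba, hcb⟩ ⟨hb', hb'a, hcb'⟩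
  · intro c hc c' hc' hnc hnc'
    exact ad_cc h hprim hw ha ⟨hc, hnc⟩ ⟨hc', hnc'⟩

theorem s0441_main [Finite G] (hD : IsThreeTranspositionClass D)
    (hsimple : IsSimpleGroup (commutator G)) (hnonab : ∃ x y : commutator G, x * y ≠ y * x)
    {a : G} (ha : a ∈ D) :
    (∃ b ∈ D, b ≠ a ∧ Commute a b) ∧ (∃ c ∈ D, ¬ Commute a c) ∧
      (∀ b ∈ D, ∀ b' ∈ D, b ≠ a → b' ≠ a → Commute a b → Commute a b' →
        ∃ g : G, Commute g a ∧ g * b * g⁻¹ = b') ∧
      (∀ c ∈ D, ∀ c' ∈ D, ¬ Commute a c → ¬ Commute a c' →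
        ∃ g : G, Commute g a ∧ g * c * g⁻¹ = c') := by
  have h := tt_of_class hD
  have hprim := prim_of_simple hD hsimple hnonab
  haveI : Fact (Nat.Prime 3) := ⟨Nat.prime_three⟩
  have hw := width_two_of_core h (two_members h hnonab) (core_central_of_simple hsimple hnonab 3)
  exact rank_three h hprim hw ha

end Cfsg.Agent.Lib.Helper25.ThreeTrPrim
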