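import Cfsg.Agent.Lib.Helper25.ThreeTrRankC

/-!
Maximal commuting sets of 3-transpositions: the normalizer contains a Sylow 2-subgroup and is
doubly transitive (helper25).
-/

set_option autoImplicit false
open Cfsg
open scoped Pointwise

namespace Cfsg.Agent.Lib.Helper25.ThreeTrPrim

open Cfsg.Agent.Lib.Helper20 Cfsg.Agent.Lib.Helper25.ThreeTr

universe u

/-- Sylow subgroups are conjugate, elementwise form -/
theorem sylow_conj_mem {H : Type u} [Group H] [Finite H] {p : ℕ} [Fact p.Prime]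
    (Q P : Sylow p H) : ∃ c : H, ∀ y, y ∈ (Q : Subgroup H) ↔ c * y * c⁻¹ ∈ (P : Subgroup H) := by
  obtain ⟨c, hc⟩ := MulAction.exists_smul_eq H Q P
  have key : ∀ (k : H) (Q' P' : Sylow p H), k • Q' = P' →
      ∀ y : H, y ∈ (Q' : Subgroup H) → k * y * k⁻¹ ∈ (P' : Subgroup H) := by
    intro k Q' P' hk y hy
    have h1 : MulAut.conj k • y ∈ MulAut.conj k • (Q' : Subgroup H) :=
      Subgroup.smul_mem_pointwise_smul y _ _ hy
    rw [← Sylow.pointwise_smul_def, ← Sylow.smul_def, hk] at h1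
    simp only [MulAut.smul_def, MulAut.conj_apply] at h1
    exact h1
  refine ⟨c, fun y => ⟨key c Q P hc y, fun hy => ?_⟩⟩
  have hc' : c⁻¹ • P = Q := by rw [← hc, inv_smul_smul]
  have := key c⁻¹ P Q hc' _ hy
  have e : c⁻¹ * (c * y * c⁻¹) * c⁻¹⁻¹ = y := by group
  rwa [e] at this

/-- two commuting sets of the largest size are conjugate -/
theorem max_commuting_conj {H : Type u} [Group H] [Finite H] (T : Set H)
    (hTc : ∀ g : H, ∀ t ∈ T, g * t * g⁻¹ ∈ T) (hTsq : ∀ t ∈ T, t * t = 1)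
    (hT23 : ∀ a ∈ T, ∀ b ∈ T, (a * b) ^ 2 = 1 ∨ (a * b) ^ 3 = 1)
    (E1 E2 : Set H) (h1 : E1 ⊆ T) (h2 : E2 ⊆ T)
    (hc1 : ∀ a ∈ E1, ∀ b ∈ E1, Commute a b) (hc2 : ∀ a ∈ E2, ∀ b ∈ E2, Commute a b)
    (hmax : ∀ E' : Set H, E' ⊆ T → (∀ a ∈ E', ∀ b ∈ E', Commute a b) → E'.ncard ≤ E1.ncard)
    (hcard : E1.ncard = E2.ncard) : ∃ c : H, ∀ y, y ∈ E2 ↔ c * y * c⁻¹ ∈ E1 := by
  haveI : Fact (Nat.Prime 2) := ⟨Nat.prime_two⟩
  have hA : ∀ Q : Subgroup H, IsPGroup 2 Q → ∀ a ∈ T, ∀ b ∈ T, a ∈ Q → b ∈ Q → Commute a b := by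
    intro Q hQ a ha b hb haQ hbQ
    have hinva : a⁻¹ = a := inv_eq_of_mul_eq_one_right (hTsq a ha)
    have hinvb : b⁻¹ = b := inv_eq_of_mul_eq_one_right (hTsq b hb)
    rcases hT23 a ha b hb with h2' | h3
    · show a * b = b * a
      rw [pow_two] at h2'
      have := eq_inv_of_mul_eq_one_right h2'
      rw [mul_inv_rev, hinva, hinvb] at this
      exact this
    · have h1' : a * b = 1 := eq_one_of_pow_of_isPGroup hQ (Q.mul_mem haQ hbQ) h3 (by decide)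
      have : b = a := by
        have := eq_inv_of_mul_eq_one_right h1'
        rw [hinva] at this
        exact this
      rw [this]
  have hB : ∀ E : Set H, E ⊆ T → (∀ a ∈ E, ∀ b ∈ E, Commute a b) → E.ncard = E1.ncard →
      ∀ Q : Subgroup H, IsPGroup 2 Q → E ⊆ Q → E = {y | y ∈ T ∧ y ∈ Q} := by
    intro E hE hcE hcardE Q hQ hEQ
    have hsub : E ⊆ {y | y ∈ T ∧ y ∈ Q} := fun y hy => ⟨hE hy, hEQ hy⟩
    apply Set.eq_of_subset_of_ncard_le hsub _ (Set.toFinite _)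
    rw [hcardE]
    apply hmax
    · exact fun y hy => hy.1
    · intro a ha b hb
      exact hA Q hQ a ha.1 b hb.1 ha.2 hb.2
  have hP : ∀ E : Set H, E ⊆ T → (∀ a ∈ E, ∀ b ∈ E, Commute a b) →
      IsPGroup 2 (Subgroup.closure E) := by
    intro E hE hcE
    exact isPGroup_two_closure E (fun s hs t ht => (hcE s hs t ht).eq) (fun s hs => hTsq s (hE hs))
  obtain ⟨P1, hP1⟩ := (hP E1 h1 hc1).exists_le_sylow
  obtain ⟨P2, hP2⟩ := (hP E2 h2 hc2).exists_le_sylow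
  have e1 := hB E1 h1 hc1 rfl P1 P1.2 (fun y hy => hP1 (Subgroup.subset_closure hy))
  have e2 := hB E2 h2 hc2 hcard.symm P2 P2.2 (fun y hy => hP2 (Subgroup.subset_closure hy))
  obtain ⟨c, hc⟩ := sylow_conj_mem P2 P1
  refine ⟨c, fun y => ?_⟩
  rw [e1, e2]
  constructor
  · rintro ⟨hyT, hyP⟩
    exact ⟨hTc c y hyT, (hc y).mp hyP⟩
  · rintro ⟨hyT, hyP⟩
    refine ⟨?_, (hc y).mpr hyP⟩
    have := hTc c⁻¹ _ hyT
    have e : c⁻¹ * (c * y * c⁻¹) * c⁻¹⁻¹ = y := by group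
    rwa [e] at this

variable {G : Type u} [Group G] {D : Set G}

/-- relative version inside a subgroup -/
theorem max_commuting_conj_rel [Finite G] (h : TT D) (C : Subgroup G) (E1 E2 : Set G)
    (hE1 : E1 ⊆ D) (hE2 : E2 ⊆ D) (hE1C : E1 ⊆ C) (hE2C : E2 ⊆ C)
    (hc1 : ∀ a ∈ E1, ∀ b ∈ E1, Commute a b) (hc2 : ∀ a ∈ E2, ∀ b ∈ E2, Commute a b)
    (hmax : ∀ E' : Set G, E' ⊆ D → (∀ a ∈ E', ∀ b ∈ E', Commute a b) → E'.ncard ≤ E1.ncard)
    (hcard : E1.ncard = E2.ncard) : ∃ c ∈ C, ∀ y, y ∈ E2 ↔ c * y * c⁻¹ ∈ E1 := by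
  have hinj : Function.Injective (Subtype.val : ↥C → G) := Subtype.val_injective
  have hrange : ∀ E : Set G, E ⊆ C → E ⊆ Set.range (Subtype.val : ↥C → G) := by
    intro E hE y hy
    exact ⟨⟨y, hE hy⟩, rfl⟩
  have hn1 : ((Subtype.val : ↥C → G) ⁻¹' E1).ncard = E1.ncard :=
    Set.ncard_preimage_of_injective_subset_range hinj (hrange E1 hE1C)
  have hn2 : ((Subtype.val : ↥C → G) ⁻¹' E2).ncard = E2.ncard :=
    Set.ncard_preimage_of_injective_subset_range hinj (hrange E2 hE2C)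
  obtain ⟨c, hc⟩ := max_commuting_conj (H := ↥C) ((Subtype.val : ↥C → G) ⁻¹' D)
    (fun g t ht => h.conj (g : G) (t : G) ht)
    (fun t ht => Subtype.ext (h.sq ht))
    (fun a ha b hb => by
      rcases h.prod (a : G) ha (b : G) hb with h2 | h3
      · exact Or.inl (Subtype.ext h2)
      · exact Or.inr (Subtype.ext h3))
    ((Subtype.val : ↥C → G) ⁻¹' E1) ((Subtype.val : ↥C → G) ⁻¹' E2)
    (fun y hy => hE1 hy) (fun y hy => hE2 hy)
    (fun a ha b hb => Subtype.ext (hc1 (a : G) ha (b : G) hb).eq)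
    (fun a ha b hb => Subtype.ext (hc2 (a : G) ha (b : G) hb).eq)
    (fun E' hE' hcE' => by
      rw [hn1]
      have := hmax ((Subtype.val : ↥C → G) '' E') (by
        rintro _ ⟨y, hy, rfl⟩
        exact hE' hy) (by
        rintro _ ⟨y, hy, rfl⟩ _ ⟨z, hz, rfl⟩
        exact congrArg Subtype.val (hcE' y hy z hz).eq)
      rwa [Set.ncard_image_of_injective _ hinj] at this)
    (by rw [hn1, hn2, hcard])
  refine ⟨(c : G), c.2, fun y => ⟨fun hy => ?_, fun hy => ?_⟩⟩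
  · exact (hc ⟨y, hE2C hy⟩).mp hy
  · have hyC : y ∈ C := by
      have h1 : (c : G) * y * (c : G)⁻¹ ∈ C := hE1C hy
      have := C.mul_mem (C.mul_mem (C.inv_mem c.2) h1) c.2
      have e : (c : G)⁻¹ * ((c : G) * y * (c : G)⁻¹) * (c : G) = y := by group
      rwa [e] at this
    exact (hc ⟨y, hyC⟩).mpr hy

/-- adjusting a conjugating element into the normalizer -/
theorem exists_mul_mem_normalizer [Finite G] (h : TT D) {E : Set G} (hE : E ⊆ D)
    (hc : ∀ a ∈ E, ∀ b ∈ E, Commute a b)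
    (hmax : ∀ E' : Set G, E' ⊆ D → (∀ a ∈ E', ∀ b ∈ E', Commute a b) → E'.ncard ≤ E.ncard)
    (C : Subgroup G) (g : G) (hEC : E ⊆ C) (hgEC : ∀ y ∈ E, g * y * g⁻¹ ∈ C) :
    ∃ c ∈ C, c * g ∈ Subgroup.normalizer E := by
  obtain ⟨c, hcC, hc'⟩ := max_commuting_conj_rel h C E (cj g E) hE
    (by rintro _ ⟨y, hy, rfl⟩; exact h.conj g y (hE hy)) hEC
    (by rintro _ ⟨y, hy, rfl⟩; exact hgEC y hy) hc
    (by
      rintro _ ⟨y, hy, rfl⟩ _ ⟨z, hz, rfl⟩
      exact (Commute.conj_iff g).mpr (hc y hy z hz))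
    hmax
    (by unfold cj; rw [Set.ncard_image_of_injective _ (conj_injective g)])
  refine ⟨c, hcC, ?_⟩
  rw [Subgroup.mem_set_normalizer_iff]
  intro y
  have e : c * g * y * (c * g)⁻¹ = c * (g * y * g⁻¹) * c⁻¹ := by group
  rw [e, ← hc' (g * y * g⁻¹), mem_cj]
  have e2 : g⁻¹ * (g * y * g⁻¹) * g = y := by group
  rw [e2]

/-- members of `D` in a 2-subgroup commute -/
theorem commute_of_two_group (h : TT D) (Q : Subgroup G) (hQ : IsPGroup 2 Q) {a b : G}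
    (ha : a ∈ D) (hb : b ∈ D) (haQ : a ∈ Q) (hbQ : b ∈ Q) : Commute a b := by
  haveI : Fact (Nat.Prime 2) := ⟨Nat.prime_two⟩
  by_contra hn
  have h3 := cube_of_nc h ha hb hn
  have h1' : a * b = 1 := eq_one_of_pow_of_isPGroup hQ (Q.mul_mem haQ hbQ) h3 (by decide)
  apply hn
  have : b = a := by
    have := eq_inv_of_mul_eq_one_right h1'
    rw [h.inv ha] at this
    exact this
  rw [this]

/-- centralizing adjustment -/
theorem exists_centralizing_normalizer [Finite G] (h : TT D) {E : Set G} (hE : E ⊆ D)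
    (hc : ∀ a ∈ E, ∀ b ∈ E, Commute a b)
    (hmax : ∀ E' : Set G, E' ⊆ D → (∀ a ∈ E', ∀ b ∈ E', Commute a b) → E'.ncard ≤ E.ncard)
    (S : Set G) (hSE : S ⊆ E) (g : G) (hgS : ∀ s ∈ S, g⁻¹ * s * g ∈ E) :
    ∃ c : G, (∀ s ∈ S, Commute c s) ∧ c * g ∈ Subgroup.normalizer E := by
  obtain ⟨c, hcC, hcn⟩ := exists_mul_mem_normalizer h hE hc hmax (Subgroup.centralizer S) g
    (by
      intro y hy
      rw [SetLike.mem_coe, Subgroup.mem_centralizer_iff]
      intro s hs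
      exact (hc s (hSE hs) y hy).eq)
    (by
      intro y hy
      rw [Subgroup.mem_centralizer_iff]
      intro s hs
      have h1 : Commute (g⁻¹ * s * g) y := hc _ (hgS s hs) y hy
      have h2 := (Commute.conj_iff g).mpr h1
      have e : g * (g⁻¹ * s * g) * g⁻¹ = s := by group
      rw [e] at h2
      exact h2.eq)
  refine ⟨c, fun s hs => ?_, hcn⟩
  exact ((Subgroup.mem_centralizer_iff.mp hcC) s hs).symm

theorem s1612_main [Finite G]
    (hsol : ∀ N : Subgroup G, N.Normal → Group.IsSolvable ↥N → N = ⊥)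
    (hperf : ⁅commutator G, commutator G⁆ = commutator G)
    (hD : IsThreeTranspositionClass D) {E : Set G} (hE : E ⊆ D)
    (hc : ∀ a ∈ E, ∀ b ∈ E, Commute a b)
    (hmax : ∀ E' : Set G, E' ⊆ D → (∀ a ∈ E', ∀ b ∈ E', Commute a b) → E'.ncard ≤ E.ncard) :
    (∃ P : Sylow 2 G, (P : Subgroup G) ≤ Subgroup.normalizer E) ∧
      ∀ a ∈ E, ∀ b ∈ E, ∀ c ∈ E, ∀ d ∈ E, a ≠ b → c ≠ d →
        ∃ g ∈ Subgroup.normalizer E, g * a * g⁻¹ = c ∧ g * b * g⁻¹ = d := by
  have h := tt_of_class hD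
  haveI : Fact (Nat.Prime 2) := ⟨Nat.prime_two⟩
  constructor
  · have hP : IsPGroup 2 (Subgroup.closure E) :=
      isPGroup_two_closure E (fun s hs t ht => (hc s hs t ht).eq) (fun s hs => h.sq (hE hs))
    obtain ⟨P, hPE⟩ := hP.exists_le_sylow
    have hEP : E ⊆ (P : Subgroup G) := fun y hy => hPE (Subgroup.subset_closure hy)
    have hsub : E ⊆ {y | y ∈ D ∧ y ∈ (P : Subgroup G)} := fun y hy => ⟨hE hy, hEP hy⟩
    have heq : E = {y | y ∈ D ∧ y ∈ (P : Subgroup G)} := by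
      apply Set.eq_of_subset_of_ncard_le hsub _ (Set.toFinite _)
      apply hmax
      · exact fun y hy => hy.1
      · intro a ha b hb
        exact commute_of_two_group h P P.2 ha.1 hb.1 ha.2 hb.2
    refine ⟨P, ?_⟩
    rw [Subgroup.le_set_normalizer_iff]
    intro k hk y hy
    rw [heq] at hy ⊢
    exact ⟨h.conj k y hy.1, Subgroup.mul_mem _ (Subgroup.mul_mem _ hk hy.2) (Subgroup.inv_mem _ hk)⟩
  · have htrans : ∀ a ∈ E, ∀ b ∈ E, ∃ n ∈ Subgroup.normalizer E, n * a * n⁻¹ = b := by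
      intro a ha b hb
      obtain ⟨g, hg⟩ := h.trans a (hE ha) b (hE hb)
      obtain ⟨c, hcS, hcn⟩ := exists_centralizing_normalizer h hE hc hmax {b}
        (by rintro _ rfl; exact hb) g (by
          rintro _ rfl
          rw [← hg]
          have e : g⁻¹ * (g * a * g⁻¹) * g = a := by group
          rw [e]; exact ha)
      refine ⟨c * g, hcn, ?_⟩
      have e : c * g * a * (c * g)⁻¹ = c * (g * a * g⁻¹) * c⁻¹ := by group
      rw [e, hg, (hcS b rfl).eq, mul_inv_cancel_right]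
    intro a ha b hb c hcE d hd hab hcd
    have hD2 : ∃ a ∈ D, ∃ b ∈ D, a ≠ b := ⟨a, hE ha, b, hE hb, hab⟩
    have hw : ∃ a ∈ D, ∃ b ∈ D, a ≠ b ∧ Commute a b := ⟨a, hE ha, b, hE hb, hab, hc a ha b hb⟩
    have hprim := prim_of_fischer hsol hperf hD hD2
    obtain ⟨n1, hn1, hn1a⟩ := htrans a ha c hcE
    obtain ⟨b1, hb1⟩ : ∃ b1, b1 = n1 * b * n1⁻¹ := ⟨_, rfl⟩
    have hb1E : b1 ∈ E := by
      rw [hb1]
      exact (Subgroup.mem_set_normalizer_iff.mp hn1 b).mp hb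
    have hb1c : b1 ≠ c := by
      rw [hb1, ← hn1a]
      intro e
      exact hab (mul_left_cancel (mul_right_cancel e)).symm
    obtain ⟨g, hgc, hgb⟩ := dd_cc h hprim hw (hE hcE)
      (b := b1) (b' := d) ⟨hE hb1E, hb1c, hc c hcE b1 hb1E⟩ ⟨hE hd, hcd.symm, hc c hcE d hd⟩
    obtain ⟨k, hkS, hkn⟩ := exists_centralizing_normalizer h hE hc hmax {c, d}
      (by
        rintro s (rfl | rfl)
        · exact hcE
        · exact hd) g (by
        rintro s (rfl | rfl)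
        · have e : g⁻¹ * s * g = s := by
            rw [mul_assoc, ← hgc.eq, ← mul_assoc, inv_mul_cancel, one_mul]
          rw [e]; exact hcE
        · rw [← hgb]
          have e : g⁻¹ * (g * b1 * g⁻¹) * g = b1 := by group
          rw [e]; exact hb1E)
    refine ⟨(k * g) * n1, Subgroup.mul_mem _ hkn hn1, ?_, ?_⟩
    · have e : k * g * n1 * a * (k * g * n1)⁻¹ = k * (g * (n1 * a * n1⁻¹) * g⁻¹) * k⁻¹ := by group
      rw [e, hn1a, hgc.eq, mul_inv_cancel_right, (hkS c (Or.inl rfl)).eq, mul_inv_cancel_right]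
    · have e : k * g * n1 * b * (k * g * n1)⁻¹ = k * (g * (n1 * b * n1⁻¹) * g⁻¹) * k⁻¹ := by group
      rw [e, ← hb1, hgb, (hkS d (Or.inr rfl)).eq, mul_inv_cancel_right]

end Cfsg.Agent.Lib.Helper25.ThreeTrPrim
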