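import Cfsg.Agent.S1181
import Cfsg.Agent.Lib.Helper20.Cores
import Cfsg.Agent.Lib.Helper18.IsolatedInvolution

/-!
Glauberman's Z*-theorem, group-theoretic reductions (helper25).
`ZProp G`: every isolated involution of `G` is central modulo `O(G)`.
-/

set_option autoImplicit false
open Cfsg

namespace Cfsg.Agent.Lib.Helper25.ZStar

open Cfsg.Agent.Lib.Helper18 Cfsg.Agent.Lib.Helper20

universe u

/-- the Z*-property: isolated involutions are central modulo the odd core -/
def ZProp (G : Type u) [Group G] : Prop :=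
  ∀ x : G, IsIsolatedInvolution x → ∀ g : G, x * g * x⁻¹ * g⁻¹ ∈ pPrimeCore 2 G

theorem isolated_subtype {G : Type u} [Group G] {x : G} (hx : IsIsolatedInvolution x)
    (H : Subgroup G) (hxH : x ∈ H) : IsIsolatedInvolution (⟨x, hxH⟩ : H) := by
  refine ⟨?_, ?_⟩
  · rw [Subgroup.orderOf_mk]; exact hx.1
  · intro g hg
    have h1 : Commute x ((g : G) * x * (g : G)⁻¹) := by
      show x * ((g : G) * x * (g : G)⁻¹) = ((g : G) * x * (g : G)⁻¹) * x
      have := congrArg Subtype.val hg.eq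
      simpa using this
    have h2 := hx.2 (g : G) h1
    exact Subtype.ext (by simpa using h2)

theorem orderOf_two_not_mem {G : Type u} [Group G] [Finite G] {x : G} (hx : orderOf x = 2)
    (N : Subgroup G) (hN : (Nat.card N).Coprime 2) : x ∉ N := by
  intro hxN
  have h1 : orderOf (⟨x, hxN⟩ : N) ∣ Nat.card N := orderOf_dvd_natCard _
  rw [Subgroup.orderOf_mk, hx] at h1
  have := Nat.Coprime.eq_one_of_dvd hN.symm h1
  omega

theorem core_le_of_normal {G : Type u} [Group G] [Finite G] (H : Subgroup G) [hH : H.Normal] :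
    (pPrimeCore 2 ↥H).map H.subtype ≤ pPrimeCore 2 G := by
  have hchar : (pPrimeCore 2 ↥H).Characteristic := pPrimeCore_characteristic 2
  have hCn : ((pPrimeCore 2 ↥H).map H.subtype).Normal :=
    ConjAct.normal_of_characteristic_of_normal
  have hCc : (Nat.card ((pPrimeCore 2 ↥H).map H.subtype)).Coprime 2 := by
    rw [Subgroup.card_map_of_injective H.subtype_injective]
    exact pPrimeCore_coprime' 2
  exact le_pPrimeCore' hCn hCc

theorem comm_of_commutator_eq_one {G : Type u} [Group G] {a b : G} (h : a * b * a⁻¹ * b⁻¹ = 1) :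
    a * b = b * a := by
  calc a * b = (a * b * a⁻¹ * b⁻¹) * (b * a) := by group
    _ = b * a := by rw [h, one_mul]

theorem central_of_normal {G : Type u} [Group G] [Finite G] {x : G}
    (hx : IsIsolatedInvolution x) (hO : pPrimeCore 2 G = ⊥) (H : Subgroup G) [hH : H.Normal]
    (hxH : x ∈ H) (hZ : ZProp ↥H) : x ∈ Subgroup.center G := by
  have hcomm : ∀ h : G, h ∈ H → x * h * x⁻¹ * h⁻¹ = 1 := by
    intro h hh
    have h1 := hZ ⟨x, hxH⟩ (isolated_subtype hx H hxH) ⟨h, hh⟩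
    have h2 : x * h * x⁻¹ * h⁻¹ ∈ (pPrimeCore 2 ↥H).map H.subtype := ⟨_, h1, by simp⟩
    have h3 := core_le_of_normal H h2
    rw [hO] at h3
    exact Subgroup.mem_bot.mp h3
  rw [Subgroup.mem_center_iff]
  intro g
  have hy : g * x * g⁻¹ ∈ H := hH.conj_mem x hxH g
  have hc : Commute x (g * x * g⁻¹) := comm_of_commutator_eq_one (hcomm _ hy)
  have h2 := hx.2 g hc
  calc g * x = (g * x * g⁻¹) * g := by group
    _ = x * g := by rw [h2]

theorem step_quot {G : Type u} [Group G] [Finite G] {x : G} (hx : IsIsolatedInvolution x)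
    (hZ : ZProp (G ⧸ pPrimeCore 2 G)) (g : G) : x * g * x⁻¹ * g⁻¹ ∈ pPrimeCore 2 G := by
  have hxO : x ∉ pPrimeCore 2 G := orderOf_two_not_mem hx.1 _ (pPrimeCore_coprime' 2)
  have h1 := (Cfsg.Agent.S1181.result x hx (pPrimeCore 2 G) hxO).2
  have h2 := hZ _ h1 (QuotientGroup.mk g)
  rw [pPrimeCore_quotient_eq_bot, Subgroup.mem_bot] at h2
  have h3 : ((x * g * x⁻¹ * g⁻¹ : G) : G ⧸ pPrimeCore 2 G) = 1 := by
    simpa using h2
  exact (QuotientGroup.eq_one_iff _).mp h3

/-- quotient by a central 2-subgroup keeps the odd core trivial -/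
theorem pPrimeCore_quot_central {G : Type u} [Group G] [Finite G] (Z : Subgroup G) [Z.Normal]
    (hZc : Z ≤ Subgroup.center G) (hZ2 : IsPGroup 2 Z) (hO : pPrimeCore 2 G = ⊥) :
    pPrimeCore 2 (G ⧸ Z) = ⊥ := by
  have hQc : (Nat.card (pPrimeCore 2 (G ⧸ Z))).Coprime 2 := pPrimeCore_coprime' 2
  obtain ⟨Q, hQ⟩ : ∃ Q : Subgroup (G ⧸ Z), Q = pPrimeCore 2 (G ⧸ Z) := ⟨_, rfl⟩
  haveI hQn : Q.Normal := by rw [hQ]; infer_instance
  rw [← hQ] at hQc ⊢
  obtain ⟨M, hM⟩ : ∃ M : Subgroup G, M = Q.comap (QuotientGroup.mk' Z) := ⟨_, rfl⟩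
  have hMn : M.Normal := by rw [hM]; infer_instance
  have hZM : Z ≤ M := by
    intro z hz
    rw [hM, Subgroup.mem_comap]
    have : (QuotientGroup.mk' Z) z = 1 := by
      rw [QuotientGroup.mk'_apply, QuotientGroup.eq_one_iff]; exact hz
    rw [this]; exact Subgroup.one_mem _
  have hidx : (Z.subgroupOf M).index = Nat.card Q := by
    have h1 := Subgroup.relIndex_comap (⊥ : Subgroup (G ⧸ Z)) (QuotientGroup.mk' Z) M
    rw [MonoidHom.comap_bot, QuotientGroup.ker_mk', Subgroup.relIndex_bot_left] at h1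
    have h2 : M.map (QuotientGroup.mk' Z) = Q := by
      rw [hM]; exact Subgroup.map_comap_eq_self_of_surjective (QuotientGroup.mk'_surjective Z) Q
    rw [h2] at h1
    exact h1
  have hcardN : Nat.card (Z.subgroupOf M) = Nat.card Z :=
    Nat.card_congr (Subgroup.subgroupOfEquivOfLe hZM).toEquiv
  obtain ⟨k, hk⟩ := IsPGroup.iff_card.mp hZ2
  have hcop : (Nat.card (Z.subgroupOf M)).Coprime (Z.subgroupOf M).index := by
    rw [hcardN, hidx, hk]
    exact Nat.Coprime.pow_left k hQc.symm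
  obtain ⟨K', hK'⟩ := Subgroup.exists_right_complement'_of_coprime hcop
  have hK'n : K'.Normal := by
    constructor
    intro k hk m
    obtain ⟨⟨⟨n, hn⟩, ⟨k0, hk0⟩⟩, hnk⟩ := hK'.2 m
    simp only at hnk
    have hncen : (n : G) ∈ Subgroup.center G := hZc (Subgroup.mem_subgroupOf.mp hn)
    have hnc : ∀ y : ↥M, y * n = n * y := by
      intro y
      apply Subtype.ext
      simp only [Subgroup.coe_mul]
      exact (Subgroup.mem_center_iff.mp hncen) (y : G)
    have h1 : m * k * m⁻¹ = k0 * k * k0⁻¹ := by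
      rw [← hnk, mul_inv_rev]
      calc n * k0 * k * (k0⁻¹ * n⁻¹) = (k0 * k * k0⁻¹ * n)⁻¹⁻¹ * n⁻¹ := by
            rw [inv_inv, hnc]; group
        _ = k0 * k * k0⁻¹ := by group
    rw [h1]
    exact K'.mul_mem (K'.mul_mem hk0 hk) (K'.inv_mem hk0)
  have hKsub : (K'.map M.subtype).IsSubnormal := hK'n.isSubnormal.trans' hMn.isSubnormal
  have hKcard : Nat.card (K'.map M.subtype) = Nat.card Q := by
    rw [Subgroup.card_map_of_injective M.subtype_injective, ← hidx]
    exact hK'.symm.index_eq_card.symm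
  have hKle := subnormal_coprime_le_pPrimeCore 2 _ hKsub (hKcard ▸ hQc)
  rw [hO] at hKle
  have h1 : Nat.card (K'.map M.subtype) = 1 := by
    rw [le_bot_iff.mp hKle]; exact Subgroup.card_bot
  rw [hKcard] at h1
  exact Subgroup.card_eq_one.mp h1

theorem normal_of_le_center' {G : Type u} [Group G] (Z : Subgroup G) (hZ : Z ≤ Subgroup.center G) :
    Z.Normal := by
  constructor
  intro n hn g
  have h1 := (Subgroup.mem_center_iff.mp (hZ hn)) g
  have : g * n * g⁻¹ = n := by rw [h1]; group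
  rw [this]; exact hn

theorem caseA {G : Type u} [Group G] [Finite G] {x : G} (hx : IsIsolatedInvolution x)
    (hO : pPrimeCore 2 G = ⊥) (z : G) (hzc : z ∈ Subgroup.center G) (hz2 : orderOf z = 2)
    (hzx : z ≠ x) [hn : (Subgroup.zpowers z).Normal] (hZ : ZProp (G ⧸ Subgroup.zpowers z)) :
    x ∈ Subgroup.center G := by
  have hZc : Subgroup.zpowers z ≤ Subgroup.center G := Subgroup.zpowers_le.mpr hzc
  have hZ2 : IsPGroup 2 (Subgroup.zpowers z) := by
    apply IsPGroup.of_card (n := 1)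
    rw [Nat.card_zpowers, hz2, pow_one]
  have hxZ : x ∉ Subgroup.zpowers z := by
    intro hxz
    obtain ⟨k, hk⟩ := Subgroup.mem_zpowers_iff.mp hxz
    have h1 := zpow_mod_orderOf z k
    rw [hz2] at h1
    rcases Int.emod_two_eq_zero_or_one k with h | h
    · rw [show ((2 : ℕ) : ℤ) = 2 from rfl, h, zpow_zero] at h1
      have : x = 1 := by rw [← hk, ← h1]
      have h2 := hx.1
      rw [this, orderOf_one] at h2
      omega
    · rw [show ((2 : ℕ) : ℤ) = 2 from rfl, h, zpow_one] at h1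
      exact hzx (by rw [h1, hk])
  have hiso := (Cfsg.Agent.S1181.result x hx (Subgroup.zpowers z) hxZ).2
  have hbot := pPrimeCore_quot_central (Subgroup.zpowers z) hZc hZ2 hO
  have hxx := isolated_mul_self hx
  have hxinv : x⁻¹ = x := inv_eq_self_of_mul_self hxx
  rw [Subgroup.mem_center_iff]
  intro g
  have h2 := hZ _ hiso (QuotientGroup.mk g)
  rw [hbot, Subgroup.mem_bot] at h2
  have h3 : ((x * g * x⁻¹ * g⁻¹ : G) : G ⧸ Subgroup.zpowers z) = 1 := by
    simpa using h2
  have h4 : x * g * x⁻¹ * g⁻¹ ∈ Subgroup.zpowers z := (QuotientGroup.eq_one_iff _).mp h3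
  have h5 : x * g * x⁻¹ * g⁻¹ = x * (g * x * g⁻¹) := by rw [hxinv]; group
  have hodd : Odd (orderOf (x * g * x⁻¹ * g⁻¹)) := by rw [h5]; exact isolated_odd_order hx g
  obtain ⟨j, hj⟩ := hZ2 ⟨_, h4⟩
  have hj' : (x * g * x⁻¹ * g⁻¹) ^ 2 ^ j = 1 := by
    have := congrArg Subtype.val hj
    simpa using this
  have hdvd : orderOf (x * g * x⁻¹ * g⁻¹) ∣ 2 ^ j := orderOf_dvd_of_pow_eq_one hj'
  have hcop : (orderOf (x * g * x⁻¹ * g⁻¹)).Coprime (2 ^ j) :=
    Nat.Coprime.pow_right j (Nat.coprime_two_right.mpr hodd)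
  have h6 : orderOf (x * g * x⁻¹ * g⁻¹) = 1 := Nat.Coprime.eq_one_of_dvd hcop hdvd
  have h7 : x * g * x⁻¹ * g⁻¹ = 1 := orderOf_eq_one_iff.mp h6
  exact (comm_of_commutator_eq_one h7).symm

/-- the dihedral group generated by an isolated involution `x` and an involution `t` not
conjugate to it -/
theorem dihedral_key {G : Type u} [Group G] [Finite G] {x t : G} (hx : IsIsolatedInvolution x)
    (ht : t * t = 1) (hnc : ∀ a : G, a * t * a⁻¹ ≠ x) :
    ∃ w σ a : G, w * w = 1 ∧ w ≠ 1 ∧ Commute x w ∧ Commute σ w ∧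
      x * t = w * (x * σ * x⁻¹ * σ⁻¹) ∧ a * t * a⁻¹ = x * w := by
  have hxx := isolated_mul_self hx
  have hpos : 0 < orderOf (x * t) := orderOf_pos _
  rcases Nat.even_or_odd' (orderOf (x * t)) with ⟨m, hm | hm⟩
  swap
  · exfalso
    have h1 := conj_of_odd_order hxx ht m (by rw [← hm]; exact pow_orderOf_eq_one _)
    obtain ⟨q, hq⟩ : ∃ q : G, q = (x * t) ^ m := ⟨_, rfl⟩
    rw [← hq] at h1
    apply hnc q⁻¹
    rw [← h1]; group
  have hm0 : 0 < m := by omega
  obtain ⟨hw2, hw1, hcx, hct, halt⟩ := central_involution hxx ht m hm hm0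
  have key : ∀ a : G, a * x * a⁻¹ = x * (x * t) ^ m → False := by
    intro a ha
    have hc : Commute x (a * x * a⁻¹) := by rw [ha]; exact (Commute.refl x).mul_right hcx
    have h1 := hx.2 a hc
    rw [ha] at h1
    exact hw1 (by simpa using h1)
  have halt2 : ∃ a : G, a * t * a⁻¹ = x * (x * t) ^ m := by
    rcases halt with ⟨a, ha⟩ | h
    · exact (key a ha).elim
    · exact h
  obtain ⟨a, ha⟩ := halt2
  rcases Nat.even_or_odd' m with ⟨j, hj | hj⟩
  · exfalso
    apply key ((x * t) ^ j)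
    rw [pow_conj_left hxx ht, ← hj]
    exact hcx.eq.symm
  refine ⟨(x * t) ^ m, (x * t) ^ j, a, hw2, hw1, hcx, (Commute.refl (x * t)).pow_pow j m, ?_, ha⟩
  have h1 : x * (x * t) ^ j * x⁻¹ = ((x * t) ^ j)⁻¹ := conj_pow_left hxx ht j
  have h2 : (x * t) ^ m = (x * t) * (x * t) ^ j * (x * t) ^ j := by
    rw [hj, show 2 * j + 1 = 1 + j + j by ring, pow_add, pow_add, pow_one]
  rw [h1, h2]; group

end Cfsg.Agent.Lib.Helper25.ZStar
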