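import Cfsg.Agent.Lib.Helper25.ZStarA
import Cfsg.Agent.S0942
import Cfsg.Agent.S0943
import Cfsg.Agent.S1182
import Cfsg.Agent.Lib.Helper28.BlockWeakOrth
import Cfsg.Agent.Lib.Helper28.BlockDefectE
import Cfsg.Agent.Lib.Helper28.SectionH

/-!
Glauberman's Z*-theorem, character-theoretic part (helper25).
-/

set_option autoImplicit false
open Cfsg
open scoped ComplexConjugate

namespace Cfsg.Agent.Lib.Helper25.ZStar

open Cfsg.Agent.Lib.Helper18 Cfsg.Agent.Lib.Helper20 Cfsg.Agent.Lib.Helper28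

universe u

/-- principal 2-block characters are constant on `x^G t^G` -/
theorem const_on_classes {G : Type u} [Group G] [Finite G] (M : Ideal AlgInt)
    (hM : IsPModular 2 M)
    (hIH : ∀ H : Subgroup G, H ≠ ⊤ → ZProp ↥H)
    (hnc : ∀ w : G, w * w = 1 → w ≠ 1 → w ∉ Subgroup.center G)
    {x t : G} (hx : IsIsolatedInvolution x) (ht : t * t = 1) (htx : Commute t x) (hne : t ≠ x)
    (χ : IrrCharacter G) (hχ : χ ∈ principalBlock M G) (x₁ t₁ : G) (hx₁ : IsConj x x₁)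
    (ht₁ : IsConj t t₁) :
    (χ : G → ℂ) (x₁ * t₁) = (χ : G → ℂ) (x * t) := by
  have hcf : ∀ g h : G, (χ : G → ℂ) (h * g * h⁻¹) = (χ : G → ℂ) g :=
    Cfsg.Agent.Lib.Helper26.isClassFunction_of_isIrrCharacter χ.2
  have hxx := isolated_mul_self hx
  obtain ⟨g, hg⟩ := isConj_iff.mp hx₁
  obtain ⟨b, hb⟩ := isConj_iff.mp ht₁
  subst hg
  subst hb
  have hx₁iso : IsIsolatedInvolution (g * x * g⁻¹) := isolated_conj hx g
  have hx₁2 : (g * x * g⁻¹) * (g * x * g⁻¹) = 1 := conj_mul_self hxx g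
  have ht₁2 : (b * t * b⁻¹) * (b * t * b⁻¹) = 1 := conj_mul_self ht b
  have hncj : ∀ a : G, a * (b * t * b⁻¹) * a⁻¹ ≠ g * x * g⁻¹ := by
    intro a ha
    have h1 : (b⁻¹ * a⁻¹ * g) * x * (b⁻¹ * a⁻¹ * g)⁻¹ = t := by
      calc (b⁻¹ * a⁻¹ * g) * x * (b⁻¹ * a⁻¹ * g)⁻¹
          = b⁻¹ * a⁻¹ * (g * x * g⁻¹) * a * b := by group
        _ = b⁻¹ * a⁻¹ * (a * (b * t * b⁻¹) * a⁻¹) * a * b := by rw [ha]
        _ = t := by group
    have hc : Commute x ((b⁻¹ * a⁻¹ * g) * x * (b⁻¹ * a⁻¹ * g)⁻¹) := by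
      rw [h1]; exact htx.symm
    have h2 := hx.2 _ hc
    rw [h1] at h2
    exact hne h2
  obtain ⟨w, σ, a, hw2, hw1, hcxw, hcσw, hprod, hconj⟩ := dihedral_key hx₁iso ht₁2 hncj
  have hCne : Subgroup.centralizer ({w} : Set G) ≠ ⊤ := by
    intro h
    apply hnc w hw2 hw1
    rw [Subgroup.mem_center_iff]
    intro y
    have hy : y ∈ Subgroup.centralizer ({w} : Set G) := by rw [h]; trivial
    exact Subgroup.mem_centralizer_singleton_iff.mp hy
  have hx₁C : g * x * g⁻¹ ∈ Subgroup.centralizer ({w} : Set G) :=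
    Subgroup.mem_centralizer_singleton_iff.mpr hcxw.eq
  have hσC : σ ∈ Subgroup.centralizer ({w} : Set G) :=
    Subgroup.mem_centralizer_singleton_iff.mpr hcσw.eq
  have h1 := hIH _ hCne ⟨g * x * g⁻¹, hx₁C⟩ (isolated_subtype hx₁iso _ hx₁C) ⟨σ, hσC⟩
  have hρ : (g * x * g⁻¹) * σ * (g * x * g⁻¹)⁻¹ * σ⁻¹ ∈ centralizerPPrimeCore 2 w :=
    ⟨_, h1, by simp⟩
  have hw_ord : orderOf w = 2 := orderOf_two_of_mul_self hw2 hw1
  have h2 := Cfsg.Agent.S0942.result 2 M hM w ⟨1, by rw [hw_ord, pow_one]⟩ _ hρ χ hχ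
  rw [hprod, h2]
  -- now χ w = χ (x * t)
  have hw : w = (g * x * g⁻¹) * (a * (b * t * b⁻¹) * a⁻¹) := by
    rw [hconj, ← mul_assoc, hx₁2, one_mul]
  have ht₂x : Commute (g⁻¹ * (a * (b * t * b⁻¹) * a⁻¹) * g) x := by
    show g⁻¹ * (a * (b * t * b⁻¹) * a⁻¹) * g * x = x * (g⁻¹ * (a * (b * t * b⁻¹) * a⁻¹) * g)
    have h3 : (g * x * g⁻¹ * w) * (g * x * g⁻¹) = (g * x * g⁻¹) * (g * x * g⁻¹ * w) := by
      rw [mul_assoc, ← hcxw.eq]
    rw [hconj]
    calc g⁻¹ * (g * x * g⁻¹ * w) * g * x = g⁻¹ * ((g * x * g⁻¹ * w) * (g * x * g⁻¹)) * g := by group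
      _ = g⁻¹ * ((g * x * g⁻¹) * (g * x * g⁻¹ * w)) * g := by rw [h3]
      _ = x * (g⁻¹ * (g * x * g⁻¹ * w) * g) := by group
  have hnorm : x ∈ Subgroup.normalizer (((⊤ : Subgroup G) : Subgroup G) : Set G) := by
    rw [Subgroup.mem_normalizer_iff]; intro h; simp
  obtain ⟨c, -, hcx, hct⟩ := Cfsg.Agent.S1182.result x hx ⊤ hnorm t
    (g⁻¹ * (a * (b * t * b⁻¹) * a⁻¹) * g) (Subgroup.mem_top _) (Subgroup.mem_top _) htx ht₂x
    (g⁻¹ * a * b) (Subgroup.mem_top _) (by group)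
  have h4 : w = g * (c * (x * t) * c⁻¹) * g⁻¹ := by
    have h5 : c * (x * t) * c⁻¹ = x * (c * t * c⁻¹) := by
      calc c * (x * t) * c⁻¹ = (c * x) * t * c⁻¹ := by group
        _ = (x * c) * t * c⁻¹ := by rw [hcx.eq]
        _ = x * (c * t * c⁻¹) := by group
    rw [h5, hct, hw]; group
  rw [h4, hcf, hcf]

/-- the existence of a proper normal subgroup containing `x` -/
theorem exists_proper_kernel {G : Type u} [Group G] [Finite G] (M : Ideal AlgInt)
    (hM : IsPModular 2 M) {x t : G} (ht2 : orderOf t = 2) (hxt2 : orderOf (x * t) = 2)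
    (h1 : ∀ χ : IrrCharacter G, χ ∈ principalBlock M G →
      (χ : G → ℂ) x * (χ : G → ℂ) t = (χ : G → ℂ) 1 * (χ : G → ℂ) (x * t))
    (h2 : ∀ χ : IrrCharacter G, χ ∈ principalBlock M G →
      (χ : G → ℂ) x * (χ : G → ℂ) (x * t) = (χ : G → ℂ) 1 * (χ : G → ℂ) t) :
    ∃ K : Subgroup G, K.Normal ∧ K ≠ ⊤ ∧ x ∈ K := by
  classical
  by_contra hcon
  push Not at hcon
  have : Fintype G := Fintype.ofFinite G
  have : Fintype (IrrCharacter G) := Fintype.ofFinite _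
  have hMp : M.IsPrime := hM.2.1.isPrime
  have hMtop : M ≠ ⊤ := Ideal.IsPrime.ne_top hMp
  have hB : IsPBlock M (principalBlock M G) := isPBlock_principalBlock
  have hreg : ¬ 2 ∣ orderOf (1 : G) := by rw [orderOf_one]; norm_num
  have W1 := weak_orthogonality_of_memLocalRing hM (principalBlock M G) (fun g => osima hB g)
    1 t hreg (by rw [ht2])
  have W2 := weak_orthogonality_of_memLocalRing hM (principalBlock M G) (fun g => osima hB g)
    1 (x * t) hreg (by rw [hxt2])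
  have hsum : ∑ χ : IrrCharacter G, ((if χ ∈ principalBlock M G then
        (χ : G → ℂ) 1 * conj ((χ : G → ℂ) t) else 0) +
      (if χ ∈ principalBlock M G then (χ : G → ℂ) 1 * conj ((χ : G → ℂ) (x * t)) else 0)) = 0 := by
    rw [Finset.sum_add_distrib, W1, W2, add_zero]
  rw [Finset.sum_eq_single (trivIrr G)] at hsum
  · simp only [if_pos (trivIrr_mem_principalBlock (G := G) hMtop)] at hsum
    have h3 : ((trivIrr G : IrrCharacter G) : G → ℂ) = fun _ => 1 := rfl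
    rw [h3] at hsum
    simp only [map_one, mul_one] at hsum
    norm_num at hsum
  · intro χ _ hχne
    by_cases hχ : χ ∈ principalBlock M G
    swap
    · simp only [if_neg hχ, add_zero]
    simp only [if_pos hχ]
    rw [← mul_add, ← map_add]
    have e1 := h1 χ hχ
    have e2 := h2 χ hχ
    have h3 : ((χ : G → ℂ) 1 - (χ : G → ℂ) x) * ((χ : G → ℂ) t + (χ : G → ℂ) (x * t)) = 0 := by
      linear_combination (-1 : ℂ) * e1 - e2
    rcases mul_eq_zero.mp h3 with h4 | h4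
    · exfalso
      obtain ⟨K, hKn, hK⟩ := exists_kernel_subgroup χ
      have hxK : x ∈ K := (hK x).mpr (sub_eq_zero.mp h4).symm
      have hKtop : K = ⊤ := by
        by_contra hne
        exact hcon K hKn hne hxK
      have hconst : ∀ g : G, (χ : G → ℂ) g = (χ : G → ℂ) 1 :=
        fun g => (hK g).mp (by rw [hKtop]; trivial)
      have hone := irr_eq_one_of_const χ hconst
      exact hχne (Subtype.ext hone)
    · rw [h4, map_zero, mul_zero]
  · intro h; exact (h (Finset.mem_univ _)).elim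

end Cfsg.Agent.Lib.Helper25.ZStar
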