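import Cfsg.Agent.Lib.Helper25.ZStarB
import Cfsg.Agent.Lib.Helper28.PModExists

/-!
Glauberman's Z*-theorem modulo the Brauer-Suzuki theorem (helper25): the induction.
-/

set_option autoImplicit false
open Cfsg
open scoped Pointwise

namespace Cfsg.Agent.Lib.Helper25.ZStar

open Cfsg.Agent.Lib.Helper18 Cfsg.Agent.Lib.Helper20 Cfsg.Agent.Lib.Helper28

universe u

/-- the Brauer-Suzuki/Burnside input: an involution that is the only involution of its
centralizer, in a group without odd normal subgroups, is central -/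
def BSHyp : Prop :=
  ∀ (H : Type u) [Group H] [Finite H] (x : H), orderOf x = 2 →
    (∀ y : H, y * y = 1 → Commute y x → y = 1 ∨ y = x) → pPrimeCore 2 H = ⊥ →
    x ∈ Subgroup.center H

theorem card_quot_lt {G : Type u} [Group G] [Finite G] (N : Subgroup G) [N.Normal] (hN : N ≠ ⊥) :
    Nat.card (G ⧸ N) < Nat.card G := by
  have h1 := Subgroup.card_eq_card_quotient_mul_card_subgroup N
  have h2 : 1 < Nat.card N := by
    have h4 : Nat.card N ≠ 1 := fun h => hN (Subgroup.card_eq_one.mp h)
    have h5 : 0 < Nat.card N := Nat.card_pos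
    omega
  have h3 : 0 < Nat.card (G ⧸ N) := Nat.card_pos
  rw [h1]
  nlinarith

theorem zstar_aux (hBS : BSHyp.{u}) (n : ℕ) :
    ∀ (G : Type u) [Group G] [Finite G], Nat.card G = n → ZProp G := by
  induction n using Nat.strong_induction_on with
  | _ n ih =>
    intro G _ _ hn x hx g
    have hIHlt : ∀ (H : Type u) [Group H] [Finite H], Nat.card H < Nat.card G → ZProp H :=
      fun H _ _ h => ih (Nat.card H) (hn ▸ h) H rfl
    by_cases hO : pPrimeCore 2 G = ⊥
    swap
    · exact step_quot hx (hIHlt _ (card_quot_lt _ hO)) g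
    have hxx := isolated_mul_self hx
    have hxinv : x⁻¹ = x := inv_eq_self_of_mul_self hxx
    suffices hcen : x ∈ Subgroup.center G by
      have h1 := (Subgroup.mem_center_iff.mp hcen) g
      have : x * g * x⁻¹ * g⁻¹ = 1 := by rw [← h1]; group
      rw [this]; exact Subgroup.one_mem _
    by_contra hxc
    have hIH : ∀ H : Subgroup G, H ≠ ⊤ → ZProp ↥H :=
      fun H hH => hIHlt _ (card_lt_of_lt_top (lt_top_iff_ne_top.mpr hH))
    by_cases hA : ∃ z ∈ Subgroup.center G, orderOf z = 2 ∧ z ≠ x
    · obtain ⟨z, hzc, hz2, hzx⟩ := hA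
      have hZn : (Subgroup.zpowers z).Normal :=
        normal_of_le_center' _ (Subgroup.zpowers_le.mpr hzc)
      have hZne : Subgroup.zpowers z ≠ ⊥ := by
        intro h
        have : z = 1 := Subgroup.zpowers_eq_bot.mp h
        rw [this, orderOf_one] at hz2
        omega
      exact hxc (caseA hx hO z hzc hz2 hzx (hIHlt _ (card_quot_lt _ hZne)))
    push Not at hA
    have hnc : ∀ w : G, w * w = 1 → w ≠ 1 → w ∉ Subgroup.center G := by
      intro w hw2 hw1 hwc
      have := hA w hwc (orderOf_two_of_mul_self hw2 hw1)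
      exact hxc (this ▸ hwc)
    by_cases hB : ∃ t : G, t * t = 1 ∧ Commute t x ∧ t ≠ 1 ∧ t ≠ x
    · obtain ⟨t, ht2, htx, ht1, htne⟩ := hB
      obtain ⟨M, hM⟩ := exists_isPModular' Nat.prime_two
      have hxt2 : (x * t) * (x * t) = 1 := by
        calc (x * t) * (x * t) = x * (t * x) * t := by group
          _ = x * (x * t) * t := by rw [htx.eq]
          _ = (x * x) * (t * t) := by group
          _ = 1 := by rw [hxx, ht2, one_mul]
      have hxt_comm : Commute (x * t) x := by
        show x * t * x = x * (x * t)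
        rw [mul_assoc, htx.eq]
      have hxt1 : x * t ≠ 1 := by
        intro h
        apply htne
        have : t = x⁻¹ := eq_inv_of_mul_eq_one_right h
        rw [this, hxinv]
      have hxtne : x * t ≠ x := by
        intro h
        exact ht1 (by simpa using h)
      have f1 : ∀ χ : IrrCharacter G, χ ∈ principalBlock M G →
          (χ : G → ℂ) x * (χ : G → ℂ) t = (χ : G → ℂ) 1 * (χ : G → ℂ) (x * t) :=
        fun χ hχ => Cfsg.Agent.S0943.result χ x t
          (const_on_classes M hM hIH hnc hx ht2 htx htne χ hχ)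
      have f2 : ∀ χ : IrrCharacter G, χ ∈ principalBlock M G →
          (χ : G → ℂ) x * (χ : G → ℂ) (x * t) = (χ : G → ℂ) 1 * (χ : G → ℂ) t := by
        intro χ hχ
        have h := Cfsg.Agent.S0943.result χ x (x * t)
          (const_on_classes M hM hIH hnc hx hxt2 hxt_comm hxtne χ hχ)
        rwa [← mul_assoc x x t, hxx, one_mul] at h
      obtain ⟨K, hKn, hKne, hxK⟩ := exists_proper_kernel M hM
        (orderOf_two_of_mul_self ht2 ht1) (orderOf_two_of_mul_self hxt2 hxt1) f1 f2
      exact hxc (central_of_normal hx hO K hxK (hIH K hKne))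
    · push Not at hB
      refine hxc (hBS G x hx.1 (fun y hy2 hyx => ?_) hO)
      by_contra h
      push Not at h
      exact h.2 (hB y hy2 hyx h.1)

/-- **Glauberman's Z*-theorem**, modulo the Brauer-Suzuki hypothesis `BSHyp` -/
theorem zstar (hBS : BSHyp.{u}) (G : Type u) [Group G] [Finite G] : ZProp G :=
  zstar_aux hBS (Nat.card G) G rfl

/-- the form of S0215 -/
theorem zstar_sylow (hBS : BSHyp.{u}) {G : Type u} [Group G] [Finite G] (P : Sylow 2 G) (u : G)
    (hu : orderOf u = 2) (huP : u ∈ P) (hiso : ∀ g : G, g * u * g⁻¹ ∈ P → g * u * g⁻¹ = u) :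
    ∃ N : Subgroup G, N.Normal ∧ Odd (Nat.card N) ∧ ∀ g : G, u * g * u⁻¹ * g⁻¹ ∈ N := by
  have huu : u * u = 1 := mul_self_of_orderOf_two hu
  have hisol : IsIsolatedInvolution u := by
    refine ⟨hu, ?_⟩
    intro g hc
    have hU : IsPGroup 2 (Subgroup.zpowers u) := by
      apply IsPGroup.of_card (n := 1)
      rw [Nat.card_zpowers, hu, pow_one]
    have hV : IsPGroup 2 (Subgroup.zpowers (g * u * g⁻¹)) := by
      apply IsPGroup.of_card (n := 1)
      have := MulEquiv.orderOf_eq (MulAut.conj g) u
      rw [MulAut.conj_apply] at this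
      rw [Nat.card_zpowers, this, hu, pow_one]
    have hUV : Subgroup.zpowers u ≤ Subgroup.normalizer ((Subgroup.zpowers (g * u * g⁻¹) : Subgroup G) : Set G) := by
      rw [Subgroup.zpowers_le]
      have hcent : u ∈ Subgroup.centralizer ((Subgroup.zpowers (g * u * g⁻¹) : Subgroup G) : Set G) := by
        rw [Subgroup.mem_centralizer_iff]
        intro y hy
        obtain ⟨k, rfl⟩ := Subgroup.mem_zpowers_iff.mp hy
        exact ((hc.zpow_right k).eq).symm
      exact Subgroup.centralizer_le_normalizer _ hcent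
    have hD : IsPGroup 2 (Subgroup.zpowers u ⊔ Subgroup.zpowers (g * u * g⁻¹) : Subgroup G) :=
      IsPGroup.to_sup_of_normal_right' hU hV hUV
    obtain ⟨Q, hQ⟩ := hD.exists_le_sylow
    obtain ⟨h, hh⟩ := MulAction.exists_smul_eq G Q P
    have hmem : ∀ y : G, y ∈ (Q : Subgroup G) → h * y * h⁻¹ ∈ P := by
      intro y hy
      have h1 : MulAut.conj h • y ∈ MulAut.conj h • (Q : Subgroup G) :=
        Subgroup.smul_mem_pointwise_smul y _ _ hy
      rw [← Sylow.pointwise_smul_def, ← Sylow.smul_def, hh] at h1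
      simp only [MulAut.smul_def, MulAut.conj_apply] at h1
      exact h1
    have huQ : u ∈ (Q : Subgroup G) := hQ (Subgroup.mem_sup_left (Subgroup.mem_zpowers u))
    have hvQ : g * u * g⁻¹ ∈ (Q : Subgroup G) :=
      hQ (Subgroup.mem_sup_right (Subgroup.mem_zpowers _))
    have e1 : h * u * h⁻¹ = u := hiso h (hmem u huQ)
    have e2 : (h * g) * u * (h * g)⁻¹ = u := by
      apply hiso
      have := hmem _ hvQ
      have e3 : (h * g) * u * (h * g)⁻¹ = h * (g * u * g⁻¹) * h⁻¹ := by group
      rw [e3]; exact this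
    calc g * u * g⁻¹ = h⁻¹ * ((h * g) * u * (h * g)⁻¹) * h := by group
      _ = h⁻¹ * (h * u * h⁻¹) * h := by rw [e2, e1]
      _ = u := by group
  refine ⟨pPrimeCore 2 G, inferInstance, ?_, fun g => zstar hBS G u hisol g⟩
  exact Nat.coprime_two_right.mp (pPrimeCore_coprime' 2)

end Cfsg.Agent.Lib.Helper25.ZStar
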